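import Cfsg.Agent.H2.Rb.RefB

/-!
# S3691, refined single cases of piece (S): the list (helper2)

* `small_ref` : `(q, n, k, r, l)` in the list; `R ≤ GL_n(q)` irreducible, `r ∣ |R|`, `l ∣ |R|`: then `R` normalises a field
  of prime degree `s ∣ gcd(n, k)` or contains a classical group on its natural module;
* `small_ref17` : `(q, n, k, r) = (2, 18, 18, 19)`, `17 ∣ |R|` and `13` does not divide `|R|`.
-/

set_option autoImplicit false
set_option exponentiation.threshold 2000

universe u v w

namespace Cfsg.Agent.H2.Rb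

open Cfsg Cfsg.Geo Matrix
open Cfsg.Agent.H915.LD Cfsg.Agent.H2.Rb.C100 Cfsg.Agent.H2.Rb.Cx Cfsg.Agent.OrdDiv

theorem chk_13_127 : Chk 13 127 :=
  ⟨by norm_num, by norm_num, by norm_num, by norm_num, by decide +kernel, by decide +kernel, by decide +kernel,
    by decide +kernel, by decide +kernel, by decide +kernel, by decide +kernel, by decide +kernel, by decide +kernel,
    by decide +kernel⟩

theorem chk_13_31 : Chk 13 31 :=
  ⟨by norm_num, by norm_num, by norm_num, by norm_num, by decide +kernel, by decide +kernel, by decide +kernel,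
    by decide +kernel, by decide +kernel, by decide +kernel, by decide +kernel, by decide +kernel, by decide +kernel,
    by decide +kernel⟩

theorem chk_19_73 : Chk 19 73 :=
  ⟨by norm_num, by norm_num, by norm_num, by norm_num, by decide +kernel, by decide +kernel, by decide +kernel,
    by decide +kernel, by decide +kernel, by decide +kernel, by decide +kernel, by decide +kernel, by decide +kernel,
    by decide +kernel⟩

theorem chk_19_31 : Chk 19 31 :=
  ⟨by norm_num, by norm_num, by norm_num, by norm_num, by decide +kernel, by decide +kernel, by decide +kernel,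
    by decide +kernel, by decide +kernel, by decide +kernel, by decide +kernel, by decide +kernel, by decide +kernel,
    by decide +kernel⟩

theorem chk_41_19 : Chk 41 19 :=
  ⟨by norm_num, by norm_num, by norm_num, by norm_num, by decide +kernel, by decide +kernel, by decide +kernel,
    by decide +kernel, by decide +kernel, by decide +kernel, by decide +kernel, by decide +kernel, by decide +kernel,
    by decide +kernel⟩

theorem chk_41_73 : Chk 41 73 :=
  ⟨by norm_num, by norm_num, by norm_num, by norm_num, by decide +kernel, by decide +kernel, by decide +kernel,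
    by decide +kernel, by decide +kernel, by decide +kernel, by decide +kernel, by decide +kernel, by decide +kernel,
    by decide +kernel⟩

theorem chk_41_89 : Chk 41 89 :=
  ⟨by norm_num, by norm_num, by norm_num, by norm_num, by decide +kernel, by decide +kernel, by decide +kernel,
    by decide +kernel, by decide +kernel, by decide +kernel, by decide +kernel, by decide +kernel, by decide +kernel,
    by decide +kernel⟩

theorem chk_19_89 : Chk 19 89 :=
  ⟨by norm_num, by norm_num, by norm_num, by norm_num, by decide +kernel, by decide +kernel, by decide +kernel,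
    by decide +kernel, by decide +kernel, by decide +kernel, by decide +kernel, by decide +kernel, by decide +kernel,
    by decide +kernel⟩

theorem chk_37_41 : Chk 37 41 :=
  ⟨by norm_num, by norm_num, by norm_num, by norm_num, by decide +kernel, by decide +kernel, by decide +kernel,
    by decide +kernel, by decide +kernel, by decide +kernel, by decide +kernel, by decide +kernel, by decide +kernel,
    by decide +kernel⟩

theorem chk_37_757 : Chk 37 757 :=
  ⟨by norm_num, by norm_num, by norm_num, by norm_num, by decide +kernel, by decide +kernel, by decide +kernel,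
    by decide +kernel, by decide +kernel, by decide +kernel, by decide +kernel, by decide +kernel, by decide +kernel,
    by decide +kernel⟩

theorem chk_37_61 : Chk 37 61 :=
  ⟨by norm_num, by norm_num, by norm_num, by norm_num, by decide +kernel, by decide +kernel, by decide +kernel,
    by decide +kernel, by decide +kernel, by decide +kernel, by decide +kernel, by decide +kernel, by decide +kernel,
    by decide +kernel⟩

theorem chk_37_3851 : Chk 37 3851 :=
  ⟨by norm_num, by norm_num, by norm_num, by norm_num, by decide +kernel, by decide +kernel, by decide +kernel,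
    by decide +kernel, by decide +kernel, by decide +kernel, by decide +kernel, by decide +kernel, by decide +kernel,
    by decide +kernel⟩

theorem chk_7_71 : Chk 7 71 :=
  ⟨by norm_num, by norm_num, by norm_num, by norm_num, by decide +kernel, by decide +kernel, by decide +kernel,
    by decide +kernel, by decide +kernel, by decide +kernel, by decide +kernel, by decide +kernel, by decide +kernel,
    by decide +kernel⟩

theorem chk_7_88741 : Chk 7 88741 :=
  ⟨by norm_num, by norm_num, by norm_num, by norm_num, by decide +kernel, by decide +kernel, by decide +kernel,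
    by decide +kernel, by decide +kernel, by decide +kernel, by decide +kernel, by decide +kernel, by decide +kernel,
    by decide +kernel⟩

theorem chk_13_88741 : Chk 13 88741 :=
  ⟨by norm_num, by norm_num, by norm_num, by norm_num, by decide +kernel, by decide +kernel, by decide +kernel,
    by decide +kernel, by decide +kernel, by decide +kernel, by decide +kernel, by decide +kernel, by decide +kernel,
    by decide +kernel⟩

theorem chk_19_17 : Chk 19 17 :=
  ⟨by norm_num, by norm_num, by norm_num, by norm_num, by decide +kernel, by decide +kernel, by decide +kernel,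
    by decide +kernel, by decide +kernel, by decide +kernel, by decide +kernel, by decide +kernel, by decide +kernel,
    by decide +kernel⟩

theorem ord_2_13 : orderOf ((2 : ℕ) : ZMod 13) = 12 := by
  rw [orderOf_eq_iff (by norm_num)]
  exact ⟨by decide +kernel, by decide +kernel⟩

theorem ord_2_19 : orderOf ((2 : ℕ) : ZMod 19) = 18 := by
  rw [orderOf_eq_iff (by norm_num)]
  exact ⟨by decide +kernel, by decide +kernel⟩

theorem ord_2_41 : orderOf ((2 : ℕ) : ZMod 41) = 20 := by
  rw [orderOf_eq_iff (by norm_num)]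
  exact ⟨by decide +kernel, by decide +kernel⟩

theorem ord_3_37 : orderOf ((3 : ℕ) : ZMod 37) = 18 := by
  rw [orderOf_eq_iff (by norm_num)]
  exact ⟨by decide +kernel, by decide +kernel⟩

theorem ord_5_7 : orderOf ((5 : ℕ) : ZMod 7) = 6 := by
  rw [orderOf_eq_iff (by norm_num)]
  exact ⟨by decide +kernel, by decide +kernel⟩

theorem ord_17_7 : orderOf ((17 : ℕ) : ZMod 7) = 6 := by
  rw [orderOf_eq_iff (by norm_num)]
  exact ⟨by decide +kernel, by decide +kernel⟩

theorem ord_17_13 : orderOf ((17 : ℕ) : ZMod 13) = 6 := by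
  rw [orderOf_eq_iff (by norm_num)]
  exact ⟨by decide +kernel, by decide +kernel⟩

/-- the list `(q, n, k, r, l)` -/
def refList : List (ℕ × ℕ × ℕ × ℕ × ℕ) :=
  [(2, 16, 12, 13, 127), (2, 16, 12, 13, 31), (2, 14, 12, 13, 127), (2, 18, 18, 19, 73), (2, 20, 18, 19, 73), (2, 20, 18, 19, 31), (2, 20, 20, 41, 19), (2, 20, 20, 41, 73), (2, 22, 20, 41, 19), (2, 22, 20, 41, 73), (2, 22, 20, 41, 89), (2, 22, 18, 19, 89), (2, 24, 20, 41, 73), (2, 24, 20, 41, 89), (3, 18, 18, 37, 41), (3, 19, 18, 37, 757), (3, 20, 18, 37, 757), (3, 20, 18, 37, 61), (3, 22, 18, 37, 3851), (5, 10, 6, 7, 71), (17, 10, 6, 7, 88741), (17, 10, 6, 13, 88741), (4, 10, 9, 19, 31)]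

section

variable {F : Type u} [Field F] [Finite F]

theorem spor17 (hq : Nat.card F = 2) {P : Subgroup (GL (Fin 18) F)} (h : Row 18 19 P)
    (hdl : 17 ∣ Nat.card (MulAut (Soc P))) (hs : IsSporadicGroup (Soc P)) : False := by
  have hC := h.core
  have key : ∀ {N : ℕ}, Nat.card (Soc P) = N → 19 ∣ N ∧ 17 ∣ N := fun {N} hN =>
    ⟨dvd_of_row h hs hN, dvd_of_spor (by norm_num) (by omega) hC hs hdl hN⟩
  rcases id hs with hh | hh | hh | hh | hh | hh | hh | hh | hh | hh | hh | hh | hh | hh | hh | hh | hh | hh | hh | hh | hh | hh | hh | hh | hh | hh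
  · exact absurd (key (Cfsg.Agent.NotCT.Orders.m11 hh)) (by decide +kernel)
  · exact absurd (key (Cfsg.Agent.NotCT.Orders.m12 hh)) (by decide +kernel)
  · exact absurd (key (Cfsg.Agent.NotCT.Orders.m22 hh)) (by decide +kernel)
  · exact absurd (key (Cfsg.Agent.NotCT.Orders.m23 hh)) (by decide +kernel)
  · exact absurd (key (Cfsg.Agent.NotCT.Orders.m24 hh)) (by decide +kernel)
  · exact absurd (key (Cfsg.Agent.NotCT.Orders.j1 hh)) (by decide +kernel)
  · exact absurd (key (Cfsg.Agent.NotCT.Orders.j2 hh)) (by decide +kernel)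
  · have := j3_two hq hC hh
    omega
  · exact absurd (key (Cfsg.Agent.NotCT.Orders.j4 hh)) (by decide +kernel)
  · exact absurd (key (Cfsg.Agent.NotCT.Orders.co1 hh)) (by decide +kernel)
  · exact absurd (key (Cfsg.Agent.NotCT.Orders.co2 hh)) (by decide +kernel)
  · exact absurd (key (Cfsg.Agent.NotCT.Orders.co3 hh)) (by decide +kernel)
  · exact absurd (key (Cfsg.Agent.NotCT.Orders.mcl hh)) (by decide +kernel)
  · exact absurd (key (Cfsg.Agent.NotCT.Orders.hs hh)) (by decide +kernel)
  · exact absurd (key (Cfsg.Agent.NotCT.Orders.suz hh)) (by decide +kernel)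
  · exact absurd (key (Cfsg.Agent.NotCT.Orders.he hh)) (by decide +kernel)
  · exact absurd (key (Cfsg.Agent.NotCT.Orders.ru hh)) (by decide +kernel)
  · exact absurd (key (Cfsg.Agent.NotCT.Orders.on hh)) (by decide +kernel)
  · exact absurd (key (Cfsg.Agent.NotCT.Orders.ly hh)) (by decide +kernel)
  · exact absurd (key (Cfsg.Agent.NotCT.Orders.fi22 hh)) (by decide +kernel)
  · exact absurd (key (Cfsg.Agent.NotCT.Orders.fi23 hh)) (by decide +kernel)
  · exact absurd (key (Cfsg.Agent.NotCT.Orders.fi24 hh)) (by decide +kernel)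
  · exact absurd (key (Cfsg.Agent.NotCT.Orders.hn hh)) (by decide +kernel)
  · exact absurd (key (Cfsg.Agent.NotCT.Orders.th hh)) (by decide +kernel)
  · exact b_kill hh (Or.inl hq) (by norm_num)
  · exact m_kill h hh

variable (hKS : ∀ (T : Type u) [Group T] [Finite T] [IsSimpleGroup T], IsKnownSimple' T)

include hKS

theorem ref_2_16_13_127 (hq : Nat.card F = 2) (R : Subgroup (GL (Fin 16) F)) (hr : 13 ∣ Nat.card R)
    (hl : 127 ∣ Nat.card R) (hirr : ActsIrreducibly (matrixSet R)) : Concl 16 12 R :=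
  ref_of hKS (p := 2) (f := 1) (by norm_num) (by rw [hq]; norm_num) (by norm_num) (by norm_num) (by norm_num)
    (by norm_num) (by rw [ord_2_13]) (Or.inl hq) chk_13_127
    (by rw [hq]; exact ⟨by decide +kernel, by decide +kernel, by decide +kernel, by decide +kernel⟩)
    (Or.inr (by norm_num)) (Or.inr (by norm_num)) (by norm_num) (by rw [hq]; norm_num) R hr hl hirr

theorem ref_2_16_13_31 (hq : Nat.card F = 2) (R : Subgroup (GL (Fin 16) F)) (hr : 13 ∣ Nat.card R)
    (hl : 31 ∣ Nat.card R) (hirr : ActsIrreducibly (matrixSet R)) : Concl 16 12 R :=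
  ref_of hKS (p := 2) (f := 1) (by norm_num) (by rw [hq]; norm_num) (by norm_num) (by norm_num) (by norm_num)
    (by norm_num) (by rw [ord_2_13]) (Or.inl hq) chk_13_31
    (by rw [hq]; exact ⟨by decide +kernel, by decide +kernel, by decide +kernel, by decide +kernel⟩)
    (Or.inr (by norm_num)) (Or.inr (by norm_num)) (by norm_num) (by rw [hq]; norm_num) R hr hl hirr

theorem ref_2_14_13_127 (hq : Nat.card F = 2) (R : Subgroup (GL (Fin 14) F)) (hr : 13 ∣ Nat.card R)
    (hl : 127 ∣ Nat.card R) (hirr : ActsIrreducibly (matrixSet R)) : Concl 14 12 R :=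
  ref_of hKS (p := 2) (f := 1) (by norm_num) (by rw [hq]; norm_num) (by norm_num) (by norm_num) (by norm_num)
    (by norm_num) (by rw [ord_2_13]) (Or.inl hq) chk_13_127
    (by rw [hq]; exact ⟨by decide +kernel, by decide +kernel, by decide +kernel, by decide +kernel⟩)
    (Or.inr (by norm_num)) (Or.inr (by norm_num)) (by norm_num) (by rw [hq]; norm_num) R hr hl hirr

theorem ref_2_18_19_73 (hq : Nat.card F = 2) (R : Subgroup (GL (Fin 18) F)) (hr : 19 ∣ Nat.card R)
    (hl : 73 ∣ Nat.card R) (hirr : ActsIrreducibly (matrixSet R)) : Concl 18 18 R :=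
  ref_of hKS (p := 2) (f := 1) (by norm_num) (by rw [hq]; norm_num) (by norm_num) (by norm_num) (by norm_num)
    (by norm_num) (by rw [ord_2_19]) (Or.inl hq) chk_19_73
    (by rw [hq]; exact ⟨by decide +kernel, by decide +kernel, by decide +kernel, by decide +kernel⟩)
    (Or.inr (by norm_num)) (Or.inl (by norm_num)) (by norm_num) (by rw [hq]; norm_num) R hr hl hirr

theorem ref_2_20_19_73 (hq : Nat.card F = 2) (R : Subgroup (GL (Fin 20) F)) (hr : 19 ∣ Nat.card R)
    (hl : 73 ∣ Nat.card R) (hirr : ActsIrreducibly (matrixSet R)) : Concl 20 18 R :=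
  ref_of hKS (p := 2) (f := 1) (by norm_num) (by rw [hq]; norm_num) (by norm_num) (by norm_num) (by norm_num)
    (by norm_num) (by rw [ord_2_19]) (Or.inl hq) chk_19_73
    (by rw [hq]; exact ⟨by decide +kernel, by decide +kernel, by decide +kernel, by decide +kernel⟩)
    (Or.inr (by norm_num)) (Or.inl (by norm_num)) (by norm_num) (by rw [hq]; norm_num) R hr hl hirr

theorem ref_2_20_19_31 (hq : Nat.card F = 2) (R : Subgroup (GL (Fin 20) F)) (hr : 19 ∣ Nat.card R)
    (hl : 31 ∣ Nat.card R) (hirr : ActsIrreducibly (matrixSet R)) : Concl 20 18 R :=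
  ref_of hKS (p := 2) (f := 1) (by norm_num) (by rw [hq]; norm_num) (by norm_num) (by norm_num) (by norm_num)
    (by norm_num) (by rw [ord_2_19]) (Or.inl hq) chk_19_31
    (by rw [hq]; exact ⟨by decide +kernel, by decide +kernel, by decide +kernel, by decide +kernel⟩)
    (Or.inr (by norm_num)) (Or.inl (by norm_num)) (by norm_num) (by rw [hq]; norm_num) R hr hl hirr

theorem ref_2_20_41_19 (hq : Nat.card F = 2) (R : Subgroup (GL (Fin 20) F)) (hr : 41 ∣ Nat.card R)
    (hl : 19 ∣ Nat.card R) (hirr : ActsIrreducibly (matrixSet R)) : Concl 20 20 R :=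
  ref_of hKS (p := 2) (f := 1) (by norm_num) (by rw [hq]; norm_num) (by norm_num) (by norm_num) (by norm_num)
    (by norm_num) (by rw [ord_2_41]) (Or.inl hq) chk_41_19
    (by rw [hq]; exact ⟨by decide +kernel, by decide +kernel, by decide +kernel, by decide +kernel⟩)
    (Or.inl (by norm_num)) (Or.inl (by norm_num)) (by norm_num) (by rw [hq]; norm_num) R hr hl hirr

theorem ref_2_20_41_73 (hq : Nat.card F = 2) (R : Subgroup (GL (Fin 20) F)) (hr : 41 ∣ Nat.card R)
    (hl : 73 ∣ Nat.card R) (hirr : ActsIrreducibly (matrixSet R)) : Concl 20 20 R :=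
  ref_of hKS (p := 2) (f := 1) (by norm_num) (by rw [hq]; norm_num) (by norm_num) (by norm_num) (by norm_num)
    (by norm_num) (by rw [ord_2_41]) (Or.inl hq) chk_41_73
    (by rw [hq]; exact ⟨by decide +kernel, by decide +kernel, by decide +kernel, by decide +kernel⟩)
    (Or.inl (by norm_num)) (Or.inl (by norm_num)) (by norm_num) (by rw [hq]; norm_num) R hr hl hirr

theorem ref_2_22_41_19 (hq : Nat.card F = 2) (R : Subgroup (GL (Fin 22) F)) (hr : 41 ∣ Nat.card R)
    (hl : 19 ∣ Nat.card R) (hirr : ActsIrreducibly (matrixSet R)) : Concl 22 20 R :=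
  ref_of hKS (p := 2) (f := 1) (by norm_num) (by rw [hq]; norm_num) (by norm_num) (by norm_num) (by norm_num)
    (by norm_num) (by rw [ord_2_41]) (Or.inl hq) chk_41_19
    (by rw [hq]; exact ⟨by decide +kernel, by decide +kernel, by decide +kernel, by decide +kernel⟩)
    (Or.inl (by norm_num)) (Or.inl (by norm_num)) (by norm_num) (by rw [hq]; norm_num) R hr hl hirr

theorem ref_2_22_41_73 (hq : Nat.card F = 2) (R : Subgroup (GL (Fin 22) F)) (hr : 41 ∣ Nat.card R)
    (hl : 73 ∣ Nat.card R) (hirr : ActsIrreducibly (matrixSet R)) : Concl 22 20 R :=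
  ref_of hKS (p := 2) (f := 1) (by norm_num) (by rw [hq]; norm_num) (by norm_num) (by norm_num) (by norm_num)
    (by norm_num) (by rw [ord_2_41]) (Or.inl hq) chk_41_73
    (by rw [hq]; exact ⟨by decide +kernel, by decide +kernel, by decide +kernel, by decide +kernel⟩)
    (Or.inl (by norm_num)) (Or.inl (by norm_num)) (by norm_num) (by rw [hq]; norm_num) R hr hl hirr

theorem ref_2_22_41_89 (hq : Nat.card F = 2) (R : Subgroup (GL (Fin 22) F)) (hr : 41 ∣ Nat.card R)
    (hl : 89 ∣ Nat.card R) (hirr : ActsIrreducibly (matrixSet R)) : Concl 22 20 R :=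
  ref_of hKS (p := 2) (f := 1) (by norm_num) (by rw [hq]; norm_num) (by norm_num) (by norm_num) (by norm_num)
    (by norm_num) (by rw [ord_2_41]) (Or.inl hq) chk_41_89
    (by rw [hq]; exact ⟨by decide +kernel, by decide +kernel, by decide +kernel, by decide +kernel⟩)
    (Or.inl (by norm_num)) (Or.inl (by norm_num)) (by norm_num) (by rw [hq]; norm_num) R hr hl hirr

theorem ref_2_22_19_89 (hq : Nat.card F = 2) (R : Subgroup (GL (Fin 22) F)) (hr : 19 ∣ Nat.card R)
    (hl : 89 ∣ Nat.card R) (hirr : ActsIrreducibly (matrixSet R)) : Concl 22 18 R :=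
  ref_of hKS (p := 2) (f := 1) (by norm_num) (by rw [hq]; norm_num) (by norm_num) (by norm_num) (by norm_num)
    (by norm_num) (by rw [ord_2_19]) (Or.inl hq) chk_19_89
    (by rw [hq]; exact ⟨by decide +kernel, by decide +kernel, by decide +kernel, by decide +kernel⟩)
    (Or.inr (by norm_num)) (Or.inl (by norm_num)) (by norm_num) (by rw [hq]; norm_num) R hr hl hirr

theorem ref_2_24_41_73 (hq : Nat.card F = 2) (R : Subgroup (GL (Fin 24) F)) (hr : 41 ∣ Nat.card R)
    (hl : 73 ∣ Nat.card R) (hirr : ActsIrreducibly (matrixSet R)) : Concl 24 20 R :=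
  ref_of hKS (p := 2) (f := 1) (by norm_num) (by rw [hq]; norm_num) (by norm_num) (by norm_num) (by norm_num)
    (by norm_num) (by rw [ord_2_41]) (Or.inl hq) chk_41_73
    (by rw [hq]; exact ⟨by decide +kernel, by decide +kernel, by decide +kernel, by decide +kernel⟩)
    (Or.inl (by norm_num)) (Or.inl (by norm_num)) (by norm_num) (by rw [hq]; norm_num) R hr hl hirr

theorem ref_2_24_41_89 (hq : Nat.card F = 2) (R : Subgroup (GL (Fin 24) F)) (hr : 41 ∣ Nat.card R)
    (hl : 89 ∣ Nat.card R) (hirr : ActsIrreducibly (matrixSet R)) : Concl 24 20 R :=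
  ref_of hKS (p := 2) (f := 1) (by norm_num) (by rw [hq]; norm_num) (by norm_num) (by norm_num) (by norm_num)
    (by norm_num) (by rw [ord_2_41]) (Or.inl hq) chk_41_89
    (by rw [hq]; exact ⟨by decide +kernel, by decide +kernel, by decide +kernel, by decide +kernel⟩)
    (Or.inl (by norm_num)) (Or.inl (by norm_num)) (by norm_num) (by rw [hq]; norm_num) R hr hl hirr

theorem ref_3_18_37_41 (hq : Nat.card F = 3) (R : Subgroup (GL (Fin 18) F)) (hr : 37 ∣ Nat.card R)
    (hl : 41 ∣ Nat.card R) (hirr : ActsIrreducibly (matrixSet R)) : Concl 18 18 R :=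
  ref_of hKS (p := 3) (f := 1) (by norm_num) (by rw [hq]; norm_num) (by norm_num) (by norm_num) (by norm_num)
    (by norm_num) (by rw [ord_3_37]) (Or.inr (Or.inl ⟨hq, rfl⟩)) chk_37_41
    (by rw [hq]; exact ⟨by decide +kernel, by decide +kernel, by decide +kernel, by decide +kernel⟩)
    (Or.inl (by norm_num)) (Or.inl (by norm_num)) (by norm_num) (by rw [hq]; norm_num) R hr hl hirr

theorem ref_3_19_37_757 (hq : Nat.card F = 3) (R : Subgroup (GL (Fin 19) F)) (hr : 37 ∣ Nat.card R)
    (hl : 757 ∣ Nat.card R) (hirr : ActsIrreducibly (matrixSet R)) : Concl 19 18 R :=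
  ref_of hKS (p := 3) (f := 1) (by norm_num) (by rw [hq]; norm_num) (by norm_num) (by norm_num) (by norm_num)
    (by norm_num) (by rw [ord_3_37]) (Or.inr (Or.inl ⟨hq, rfl⟩)) chk_37_757
    (by rw [hq]; exact ⟨by decide +kernel, by decide +kernel, by decide +kernel, by decide +kernel⟩)
    (Or.inl (by norm_num)) (Or.inl (by norm_num)) (by norm_num) (by rw [hq]; norm_num) R hr hl hirr

theorem ref_3_20_37_757 (hq : Nat.card F = 3) (R : Subgroup (GL (Fin 20) F)) (hr : 37 ∣ Nat.card R)
    (hl : 757 ∣ Nat.card R) (hirr : ActsIrreducibly (matrixSet R)) : Concl 20 18 R :=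
  ref_of hKS (p := 3) (f := 1) (by norm_num) (by rw [hq]; norm_num) (by norm_num) (by norm_num) (by norm_num)
    (by norm_num) (by rw [ord_3_37]) (Or.inr (Or.inl ⟨hq, rfl⟩)) chk_37_757
    (by rw [hq]; exact ⟨by decide +kernel, by decide +kernel, by decide +kernel, by decide +kernel⟩)
    (Or.inl (by norm_num)) (Or.inl (by norm_num)) (by norm_num) (by rw [hq]; norm_num) R hr hl hirr

theorem ref_3_20_37_61 (hq : Nat.card F = 3) (R : Subgroup (GL (Fin 20) F)) (hr : 37 ∣ Nat.card R)
    (hl : 61 ∣ Nat.card R) (hirr : ActsIrreducibly (matrixSet R)) : Concl 20 18 R :=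
  ref_of hKS (p := 3) (f := 1) (by norm_num) (by rw [hq]; norm_num) (by norm_num) (by norm_num) (by norm_num)
    (by norm_num) (by rw [ord_3_37]) (Or.inr (Or.inl ⟨hq, rfl⟩)) chk_37_61
    (by rw [hq]; exact ⟨by decide +kernel, by decide +kernel, by decide +kernel, by decide +kernel⟩)
    (Or.inl (by norm_num)) (Or.inl (by norm_num)) (by norm_num) (by rw [hq]; norm_num) R hr hl hirr

theorem ref_3_22_37_3851 (hq : Nat.card F = 3) (R : Subgroup (GL (Fin 22) F)) (hr : 37 ∣ Nat.card R)
    (hl : 3851 ∣ Nat.card R) (hirr : ActsIrreducibly (matrixSet R)) : Concl 22 18 R :=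
  ref_of hKS (p := 3) (f := 1) (by norm_num) (by rw [hq]; norm_num) (by norm_num) (by norm_num) (by norm_num)
    (by norm_num) (by rw [ord_3_37]) (Or.inr (Or.inl ⟨hq, rfl⟩)) chk_37_3851
    (by rw [hq]; exact ⟨by decide +kernel, by decide +kernel, by decide +kernel, by decide +kernel⟩)
    (Or.inl (by norm_num)) (Or.inl (by norm_num)) (by norm_num) (by rw [hq]; norm_num) R hr hl hirr

theorem ref_5_10_7_71 (hq : Nat.card F = 5) (R : Subgroup (GL (Fin 10) F)) (hr : 7 ∣ Nat.card R)
    (hl : 71 ∣ Nat.card R) (hirr : ActsIrreducibly (matrixSet R)) : Concl 10 6 R :=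
  ref_of hKS (p := 5) (f := 1) (by norm_num) (by rw [hq]; norm_num) (by norm_num) (by norm_num) (by norm_num)
    (by norm_num) (by rw [ord_5_7]) (Or.inr (Or.inr (Or.inr ⟨Or.inr (Or.inr (Or.inl hq)), rfl⟩))) chk_7_71
    (by rw [hq]; exact ⟨by decide +kernel, by decide +kernel, by decide +kernel, by decide +kernel⟩)
    (Or.inr (by norm_num)) (Or.inr (by norm_num)) (by norm_num) (by rw [hq]; norm_num) R hr hl hirr

theorem ref_17_10_7_88741 (hq : Nat.card F = 17) (R : Subgroup (GL (Fin 10) F)) (hr : 7 ∣ Nat.card R)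
    (hl : 88741 ∣ Nat.card R) (hirr : ActsIrreducibly (matrixSet R)) : Concl 10 6 R :=
  ref_of hKS (p := 17) (f := 1) (by norm_num) (by rw [hq]; norm_num) (by norm_num) (by norm_num) (by norm_num)
    (by norm_num) (by rw [ord_17_7]) (Or.inr (Or.inr (Or.inr ⟨Or.inr (Or.inr (Or.inr hq)), rfl⟩))) chk_7_88741
    (by rw [hq]; exact ⟨by decide +kernel, by decide +kernel, by decide +kernel, by decide +kernel⟩)
    (Or.inr (by norm_num)) (Or.inr (by norm_num)) (by norm_num) (by rw [hq]; norm_num) R hr hl hirr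

theorem ref_17_10_13_88741 (hq : Nat.card F = 17) (R : Subgroup (GL (Fin 10) F)) (hr : 13 ∣ Nat.card R)
    (hl : 88741 ∣ Nat.card R) (hirr : ActsIrreducibly (matrixSet R)) : Concl 10 6 R :=
  ref_of hKS (p := 17) (f := 1) (by norm_num) (by rw [hq]; norm_num) (by norm_num) (by norm_num) (by norm_num)
    (by norm_num) (by rw [ord_17_13]) (Or.inr (Or.inr (Or.inr ⟨Or.inr (Or.inr (Or.inr hq)), rfl⟩))) chk_13_88741
    (by rw [hq]; exact ⟨by decide +kernel, by decide +kernel, by decide +kernel, by decide +kernel⟩)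
    (Or.inl (by norm_num)) (Or.inr (by norm_num)) (by norm_num) (by rw [hq]; norm_num) R hr hl hirr

theorem ref_4_10_19_31 (hq : Nat.card F = 4) (R : Subgroup (GL (Fin 10) F)) (hr : 19 ∣ Nat.card R)
    (hl : 31 ∣ Nat.card R) (hirr : ActsIrreducibly (matrixSet R)) : Concl 10 9 R :=
  ref_of hKS (p := 2) (f := 2) (by norm_num) (by rw [hq]; norm_num) (by norm_num) (by norm_num) (by norm_num)
    (by norm_num) (by rw [ord_2_19]) (Or.inr (Or.inr (Or.inl ⟨hq, rfl⟩))) chk_19_31
    (by rw [hq]; exact ⟨by decide +kernel, by decide +kernel, by decide +kernel, by decide +kernel⟩)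
    (Or.inl (by norm_num)) (Or.inl (by norm_num)) (by norm_num) (by rw [hq]; norm_num) R hr hl hirr

/-- **The refined single cases.** -/
theorem small_ref {q n k r l : ℕ} (hm : (q, n, k, r, l) ∈ refList) (hq : Nat.card F = q)
    (R : Subgroup (GL (Fin n) F)) (hr : r ∣ Nat.card R) (hl : l ∣ Nat.card R)
    (hirr : ActsIrreducibly (matrixSet R)) :
    (∃ (s : ℕ) (E : Subalgebra F (Matrix (Fin n) (Fin n) F)), s.Prime ∧ s ∣ Nat.gcd n k ∧ IsFieldSubalgebra s E ∧
        R ≤ subalgebraNormalizer E) ∨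
    specialLinear (Fin n) F ≤ R ∨
    (∃ f : (Fin n → F) → (Fin n → F) → F, IsSymplecticForm f ∧
        ∀ x : GL (Fin n) F, FixesForm {(x : Matrix (Fin n) (Fin n) F)} f → x ∈ R) ∨
    (∃ (τ : F ≃+* F) (f : (Fin n → F) → (Fin n → F) → F), IsUnitaryForm τ f ∧
        ∀ x : GL (Fin n) F, FixesForm {(x : Matrix (Fin n) (Fin n) F)} f →
          Matrix.GeneralLinearGroup.det x = 1 → x ∈ R) ∨
    (∃ Q : (Fin n → F) → F, IsNondegenerateQuadraticForm Q ∧ omegaGL Q ≤ R) := by
  change Concl n k R
  simp only [refList, List.mem_cons, Prod.mk.injEq, List.not_mem_nil, or_false] at hm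
  rcases hm with ⟨rfl, rfl, rfl, rfl, rfl⟩ | ⟨rfl, rfl, rfl, rfl, rfl⟩ | ⟨rfl, rfl, rfl, rfl, rfl⟩ | ⟨rfl, rfl, rfl, rfl, rfl⟩ | ⟨rfl, rfl, rfl, rfl, rfl⟩ | ⟨rfl, rfl, rfl, rfl, rfl⟩ | ⟨rfl, rfl, rfl, rfl, rfl⟩ | ⟨rfl, rfl, rfl, rfl, rfl⟩ | ⟨rfl, rfl, rfl, rfl, rfl⟩ | ⟨rfl, rfl, rfl, rfl, rfl⟩ | ⟨rfl, rfl, rfl, rfl, rfl⟩ | ⟨rfl, rfl, rfl, rfl, rfl⟩ | ⟨rfl, rfl, rfl, rfl, rfl⟩ | ⟨rfl, rfl, rfl, rfl, rfl⟩ | ⟨rfl, rfl, rfl, rfl, rfl⟩ | ⟨rfl, rfl, rfl, rfl, rfl⟩ | ⟨rfl, rfl, rfl, rfl, rfl⟩ | ⟨rfl, rfl, rfl, rfl, rfl⟩ | ⟨rfl, rfl, rfl, rfl, rfl⟩ | ⟨rfl, rfl, rfl, rfl, rfl⟩ | ⟨rfl, rfl, rfl, rfl, rfl⟩ | ⟨rfl, rfl, rfl, rfl, rfl⟩ | ⟨rfl, rfl, rfl, rfl, rfl⟩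
  · exact ref_2_16_13_127 hKS hq R hr hl hirr
  · exact ref_2_16_13_31 hKS hq R hr hl hirr
  · exact ref_2_14_13_127 hKS hq R hr hl hirr
  · exact ref_2_18_19_73 hKS hq R hr hl hirr
  · exact ref_2_20_19_73 hKS hq R hr hl hirr
  · exact ref_2_20_19_31 hKS hq R hr hl hirr
  · exact ref_2_20_41_19 hKS hq R hr hl hirr
  · exact ref_2_20_41_73 hKS hq R hr hl hirr
  · exact ref_2_22_41_19 hKS hq R hr hl hirr
  · exact ref_2_22_41_73 hKS hq R hr hl hirr
  · exact ref_2_22_41_89 hKS hq R hr hl hirr
  · exact ref_2_22_19_89 hKS hq R hr hl hirr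
  · exact ref_2_24_41_73 hKS hq R hr hl hirr
  · exact ref_2_24_41_89 hKS hq R hr hl hirr
  · exact ref_3_18_37_41 hKS hq R hr hl hirr
  · exact ref_3_19_37_757 hKS hq R hr hl hirr
  · exact ref_3_20_37_757 hKS hq R hr hl hirr
  · exact ref_3_20_37_61 hKS hq R hr hl hirr
  · exact ref_3_22_37_3851 hKS hq R hr hl hirr
  · exact ref_5_10_7_71 hKS hq R hr hl hirr
  · exact ref_17_10_7_88741 hKS hq R hr hl hirr
  · exact ref_17_10_13_88741 hKS hq R hr hl hirr
  · exact ref_4_10_19_31 hKS hq R hr hl hirr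

/-- **`(q, n, k, r) = (2, 18, 18, 19)`, with 17 and without 13.** -/
theorem small_ref17 (hq : Nat.card F = 2) (R : Subgroup (GL (Fin 18) F)) (hr : 19 ∣ Nat.card R)
    (hl : 17 ∣ Nat.card R) (h13 : ¬ 13 ∣ Nat.card R) (hirr : ActsIrreducibly (matrixSet R)) :
    (∃ (s : ℕ) (E : Subalgebra F (Matrix (Fin 18) (Fin 18) F)), s.Prime ∧ s ∣ Nat.gcd 18 18 ∧ IsFieldSubalgebra s E ∧
        R ≤ subalgebraNormalizer E) ∨
    specialLinear (Fin 18) F ≤ R ∨
    (∃ f : (Fin 18 → F) → (Fin 18 → F) → F, IsSymplecticForm f ∧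
        ∀ x : GL (Fin 18) F, FixesForm {(x : Matrix (Fin 18) (Fin 18) F)} f → x ∈ R) ∨
    (∃ (τ : F ≃+* F) (f : (Fin 18 → F) → (Fin 18 → F) → F), IsUnitaryForm τ f ∧
        ∀ x : GL (Fin 18) F, FixesForm {(x : Matrix (Fin 18) (Fin 18) F)} f →
          Matrix.GeneralLinearGroup.det x = 1 → x ∈ R) ∨
    (∃ Q : (Fin 18 → F) → F, IsNondegenerateQuadraticForm Q ∧ omegaGL Q ≤ R) := by
  change Concl 18 18 R
  refine concl_of (p := 2) (f := 1) (k := 18) (r := 19) (l := 17) Nat.prime_two (by rw [hq]; norm_num) (by norm_num)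
    (by norm_num) (by norm_num) (by norm_num) (by norm_num) (by rw [ord_2_19]) (Or.inl hq) (by norm_num) R hr
    (by norm_num) (Or.inl (by norm_num)) hirr fun P hPR hPn h => ?_
  have hC := h.core
  have hs : IsSimpleGroup (Soc P) := hC.simple
  have hna := hC.nonabelian
  have hc := chk_19_17
  obtain ⟨p, hpF⟩ := CharP.exists F
  have hp : Fact p.Prime := ⟨CharP.char_is_prime F p⟩
  have hdr : 19 ∣ Nat.card (MulAut (Soc P)) := h.dvd_card (MulEquiv.refl _)
  have hdl : 17 ∣ Nat.card (MulAut (Soc P)) := by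
    have h4 := hl.trans (card_dvd_of_row h hPn)
    rwa [hq, show 2 - 1 = 1 from rfl, one_mul] at h4
  have hd13 : ¬ 13 ∣ Nat.card (Soc P) := fun h1 =>
    h13 ((h1.trans (Subgroup.card_quotient_dvd_card _)).trans (Subgroup.card_dvd_of_le hPR))
  rcases H912.Known.known_split (hKS (Soc P)) (H912.Known.not_primeCyclic hC.nonabelian) with
    hT | ⟨s, hs', hT⟩ | hT | hT
  · exfalso
    obtain ⟨m, hm, ⟨e⟩⟩ := hT
    by_cases h6 : m = 6
    · subst h6
      rw [Nat.card_congr (MulAut.congr e).toEquiv, H38.Ppd.card_aut_six] at hdr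
      exact absurd hdr (by norm_num)
    · have h4 : Nat.card (MulAut (Soc P)) = m.factorial := by
        rw [Nat.card_congr (MulAut.congr e).toEquiv,
          ← Nat.card_congr (Equiv.ofBijective _ (Cfsg.Agent.S2119.result m (by omega) h6)),
          Nat.card_eq_fintype_card, Fintype.card_perm, Fintype.card_fin]
      rw [h4] at hdr
      have h19 : 19 ≤ m := (Nat.Prime.dvd_factorial (by norm_num)).1 hdr
      have hnt : Nontrivial (Fin m) := Fin.nontrivial_iff_two_le.2 (by omega)
      have h2 : 2 * Nat.card (Soc P) = m.factorial := by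
        rw [Nat.card_congr e.toEquiv, Nat.card_eq_fintype_card, two_mul_card_alternatingGroup, Fintype.card_perm,
          Fintype.card_fin]
      have h5 : 13 ∣ 2 * Nat.card (Soc P) := by
        rw [h2]
        exact Nat.dvd_factorial (by norm_num) (by omega)
      rcases (Nat.Prime.dvd_mul (by norm_num : Nat.Prime 13)).1 h5 with h7 | h7
      · exact absurd h7 (by norm_num)
      · exact hd13 h7
  · by_cases hsF : (s : F) = 0
    · have hrp : CharP F s := (CharP.charP_iff_prime_eq_zero hs').2 hsF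
      have : Fact s.Prime := ⟨hs'⟩
      rcases Row.nat_def' h s hT with h1 | hG | ⟨-, K, _, _, hK, ⟨e⟩⟩
      · exact h1
      · exact (hc.G2 4 (by norm_num) (by norm_num) ⟨dv_G2 hc.rp hc.r7 hdr hna (by norm_num) (by norm_num) hG,
          dv_G2 hc.lp hc.l7 hdl hna (by norm_num) (by norm_num) hG⟩).elim
      · exact (hc.TD4 ⟨dv_TD4 hc.rp hc.r7 hdr hna Nat.prime_two.isPrimePow hK (by norm_num) e,
          dv_TD4 hc.lp hc.l7 hdl hna Nat.prime_two.isPrimePow hK (by norm_num) e⟩).elim
    · exact (cross_ref hc (by norm_num) hC hdr hdl hs' hsF hT).elim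
  · exact (tits_kill hc.rp (by norm_num) hC hdr hT).elim
  · exact (spor17 hq h hdl hT).elim

end

end Cfsg.Agent.H2.Rb
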