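import Cfsg.Agent.H2.Rb.Thirty
import Cfsg.Agent.H449.Reg.Nineteen

/-!
# `Small37` (helper2)
-/

set_option autoImplicit false

namespace Cfsg.Agent.H2.Rb

open Cfsg

/-- the hypothesis `Small37` of helper449 -/
theorem small37_449 (hKS : ∀ (T : Type) [Group T] [Finite T] [IsSimpleGroup T], IsKnownSimple' T) :
    Cfsg.Agent.H449.Reg.Small37 := by
  intro F _ _ hq R hd hirr
  rcases small37 hKS hq R hd hirr with h | h | h | h | h
  · exact Or.inl h
  · exact Or.inr (Or.inl h)
  · exact Or.inr (Or.inr (Or.inl h))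
  · exact Or.inr (Or.inr (Or.inr (Or.inl h)))
  · exact Or.inr (Or.inr (Or.inr (Or.inr (h.trans (by norm_num)))))

end Cfsg.Agent.H2.Rb
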