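import Cfsg.Agent.H936.List12b
import Cfsg.Agent.H364.OutLie
import Cfsg.Agent.H364.LieNam
import Cfsg.Agent.H203.OrthHeis

/-!
# S3691 (S): the orders of the automorphism groups of simple groups of Lie type (helper2)

* `sz X q` : `|S|` times the order of the diagonal part, `S` of shape `X` over `F_q`;
* `aut_le` : `|Aut S| ≤ 24 f sz X (p ^ f)`;
* `Fit q S B` : `|Aut S| ≤ 144 B`; `fit_L`, `fit_U`, `fit_S`, ... : the families for `q < 128`;
* `cross_cl` : a classical group in cross characteristic with a projective representation of degree `n`,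
  `10 ≤ n ≤ 39`, has an automorphism group of order at most `(n + 4)!`.
-/

set_option autoImplicit false

universe u v w

namespace Cfsg.Agent.H2.Rb.Cx

open Cfsg Cfsg.Geo Cfsg.Agent.H912.Bd Cfsg.Agent.H915.LD Cfsg.Agent.OrdDiv
open Cfsg.Agent.H902 Cfsg.Agent.H902.Names

/-- the order without the denominator -/
def sz (X : Art.Sh) (q : ℕ) : ℕ := q ^ Art.NN X * Art.num X q

section aut

variable {S : Type v} [Group S] [Finite S] [IsSimpleGroup S]

theorem dd_pos {X : Art.Sh} {p f M : ℕ} (hr : Art.Real X p f M) : 0 < Art.dd X (p ^ f) := by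
  have hok := hr.ok
  cases X with
  | L n => exact Nat.gcd_pos_of_pos_left _ (by have := hok.1; omega)
  | C n => exact Nat.gcd_pos_of_pos_left _ (by norm_num)
  | U n => exact Nat.gcd_pos_of_pos_left _ (by have := hok.1; omega)
  | D n => exact Nat.gcd_pos_of_pos_left _ (by norm_num)
  | DD n => exact Nat.gcd_pos_of_pos_left _ (by norm_num)
  | E6 => exact Nat.gcd_pos_of_pos_left _ (by norm_num)
  | E7 => exact Nat.gcd_pos_of_pos_left _ (by norm_num)
  | TE6 => exact Nat.gcd_pos_of_pos_left _ (by norm_num)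
  | _ => exact Nat.one_pos

theorem aut_le (hna : ¬ IsMulCommutative S) {g : Grp} {X : Art.Sh} {p f : ℕ} (hg : IsLie g X p f)
    (h : OrdDiv.Real g S) (hr : Art.Real X p f (Nat.card S)) :
    Nat.card (MulAut S) ≤ 24 * f * sz X (p ^ f) := by
  obtain ⟨c, h1, h2, -⟩ := H364.OutLie.card_out (fun hc => hna ⟨⟨hc⟩⟩) hg h hr
  have h3 : c ≤ 24 * Art.dd X (p ^ f) := Nat.le_of_dvd (Nat.mul_pos (by norm_num) (dd_pos hr)) h2
  rw [← H934.OutB.card_out_mul S hna, h1]
  unfold sz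
  rw [← hr.eq]
  calc c * f * Nat.card S ≤ (24 * Art.dd X (p ^ f)) * f * Nat.card S :=
        Nat.mul_le_mul_right _ (Nat.mul_le_mul_right _ h3)
    _ = 24 * f * (Art.dd X (p ^ f) * Nat.card S) := by ring

theorem f_le {p f : ℕ} (hp : p.Prime) (hq : p ^ f < 128) : f ≤ 6 := by
  by_contra hcon
  have h1 : 2 ^ 7 ≤ p ^ 7 := Nat.pow_le_pow_left hp.two_le 7
  have h2 : p ^ 7 ≤ p ^ f := Nat.pow_le_pow_right hp.pos (by omega)
  omega

theorem aut_le' (hna : ¬ IsMulCommutative S) {g : Grp} {X : Art.Sh} {p f : ℕ} (hg : IsLie g X p f)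
    (h : OrdDiv.Real g S) (hr : Art.Real X p f (Nat.card S)) {q : ℕ} (hq : p ^ f = q) (hlt : q < 128) :
    Nat.card (MulAut S) ≤ 144 * sz X q := by
  subst hq
  refine (aut_le hna hg h hr).trans (Nat.mul_le_mul_right _ ?_)
  have := f_le hr.hp hlt
  omega

theorem card_pow (K : Type) [Field K] [Fintype K] : ∃ p f : ℕ, p.Prime ∧ 1 ≤ f ∧ p ^ f = Fintype.card K := by
  obtain ⟨p, hp⟩ := CharP.exists K
  have hpp := CharP.char_is_prime K p
  have := Fact.mk hpp
  obtain ⟨f, -, hf⟩ := FiniteField.card K p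
  exact ⟨p, f, hpp, f.pos, hf.symm⟩

theorem fit_L (hna : ¬ IsMulCommutative S) {n q : ℕ} (hn : 2 ≤ n) (hn2 : n = 2 → 4 ≤ q) (hlt : q < 128)
    (h : IsL n q S) : Nat.card (MulAut S) ≤ 144 * sz (.L n) q := by
  obtain ⟨K, iK, iKf, hK, ⟨e⟩⟩ := h
  obtain ⟨p, f, hp, hf, hq⟩ := card_pow K
  rw [hK] at hq
  subst hq
  refine aut_le' hna (.psl n p f) ⟨K, iK, iKf, hK, ⟨e⟩⟩ ?_ rfl hlt
  rw [Nat.card_congr e.toEquiv]
  exact psl_real hp hf hK hn hn2

theorem fit_S (hna : ¬ IsMulCommutative S) {n q : ℕ} (hn : 2 ≤ n) (hn2 : n = 2 → 3 ≤ q) (hlt : q < 128)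
    (h : IsS n q S) : Nat.card (MulAut S) ≤ 144 * sz (.C n) q := by
  obtain ⟨K, iK, iKf, hK, ⟨e⟩⟩ := h
  obtain ⟨p, f, hp, hf, hq⟩ := card_pow K
  rw [hK] at hq
  subst hq
  refine aut_le' hna (.psp n p f) ⟨K, iK, iKf, hK, ⟨e⟩⟩ ?_ rfl hlt
  rw [Nat.card_congr e.toEquiv]
  exact psp_real hp hf hK hn hn2

theorem fit_OP (hna : ¬ IsMulCommutative S) {n q : ℕ} (hn : 4 ≤ n) (hlt : q < 128)
    (h : IsOP n q S) : Nat.card (MulAut S) ≤ 144 * sz (.D n) q := by
  obtain ⟨K, iK, iKf, hK, ⟨e⟩⟩ := h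
  obtain ⟨p, f, hp, hf, hq⟩ := card_pow K
  rw [hK] at hq
  subst hq
  refine aut_le' hna (.oplus n p f) ⟨K, iK, iKf, hK, ⟨e⟩⟩ ?_ rfl hlt
  rw [Nat.card_congr e.toEquiv]
  exact oplus_real hp hf hK hn

theorem fit_OM (hna : ¬ IsMulCommutative S) {K : Type} [Field K] [Fintype K] {n : ℕ} (hn : 4 ≤ n)
    (hlt : Fintype.card K < 128) {a b : K} (hab : ∀ z₁ z₂ : K, z₁ ^ 2 + a * z₁ * z₂ + b * z₂ ^ 2 = 0 → z₁ = 0 ∧ z₂ = 0)
    (e : S ≃* POmega K (quadFormMinus (n - 1) K a b)) : Nat.card (MulAut S) ≤ 144 * sz (.DD n) (Fintype.card K) := by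
  obtain ⟨p, f, hp, hf, hq⟩ := card_pow K
  refine aut_le' hna (.ominus n p f) ⟨K, inferInstance, inferInstance, a, b, hq.symm, hab, ⟨e⟩⟩ ?_ hq hlt
  rw [Nat.card_congr e.toEquiv]
  exact ominus_real hp hf hq.symm hn hab

theorem fit_OO (hna : ¬ IsMulCommutative S) {K : Type} [Field K] [Fintype K] {n : ℕ} (hn : 3 ≤ n)
    (hlt : Fintype.card K < 128) (ho : Odd (Fintype.card K)) (e : S ≃* POmega K (quadFormOdd n K)) :
    Nat.card (MulAut S) ≤ 144 * sz (.C n) (Fintype.card K) := by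
  obtain ⟨p, f, hp, hf, hq⟩ := card_pow K
  refine aut_le' hna (.oodd n p f hn (by rwa [hq])) ⟨K, inferInstance, inferInstance, hq.symm, ⟨e⟩⟩ ?_ hq hlt
  rw [Nat.card_congr e.toEquiv]
  exact oodd_real hp hf hq.symm hn (by rwa [hq])

theorem fit_U (hna : ¬ IsMulCommutative S) {n q : ℕ} (hn : 3 ≤ n) (hn2 : ¬ (n = 3 ∧ q = 2)) (hlt : q < 128)
    (h : IsU n q S) : Nat.card (MulAut S) ≤ 144 * sz (.U n) q := by
  obtain ⟨K, iK, iKf, hK, ⟨e⟩⟩ := h
  obtain ⟨p, f', hp, hf', hq'⟩ := card_pow K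
  have hc : CharP K p := H364.OutLie.charP_of_card hp hf' hq'.symm
  obtain ⟨f, hf, rfl⟩ := H364.LieNam.root_eq' hp hc (by norm_num) hK
  refine aut_le' hna (.psu n p f) ⟨K, iK, iKf, hK, ⟨e⟩⟩ ?_ rfl hlt
  rw [Nat.card_congr e.toEquiv]
  exact psu_real hp hf hK hn hn2

end aut

/-! ### numbers -/

theorem fac {a n : ℕ} (B : ℕ) (h : B ≤ (a + 4).factorial) (hn : a ≤ n) : B ≤ (n + 4).factorial :=
  h.trans (Nat.factorial_le (by omega))

theorem sz_L2 {q n : ℕ} (hn : 10 ≤ n) (hq : q ≤ 2 * n + 1) : 144 * sz (.L 2) q ≤ (n + 4).factorial := by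
  have h1 : sz (.L 2) q ≤ (2 * n + 1) ^ 3 := by
    have h2 : sz (.L 2) q = q * (q ^ 2 - 1) := by
      change q ^ (2 * (2 - 1) / 2) * ∏ i ∈ Finset.range (2 - 1), (q ^ (i + 2) - 1) = _
      simp
    rw [h2]
    calc q * (q ^ 2 - 1) ≤ q * q ^ 2 := Nat.mul_le_mul_left _ (Nat.sub_le _ _)
      _ = q ^ 3 := by ring
      _ ≤ _ := Nat.pow_le_pow_left hq 3
  have h3 : ∀ n : ℕ, 10 ≤ n → 144 * (2 * n + 1) ^ 3 ≤ (n + 4).factorial := by
    intro n hn
    induction n, hn using Nat.le_induction with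
    | base => decide +kernel
    | succ n hn ih =>
      rw [show n + 1 + 4 = (n + 4) + 1 by ring, Nat.factorial_succ]
      refine le_trans ?_ (Nat.mul_le_mul_left (n + 4 + 1) ih)
      have h4 : (2 * (n + 1) + 1) ≤ 2 * (2 * n + 1) := by omega
      calc 144 * (2 * (n + 1) + 1) ^ 3 ≤ 144 * (2 * (2 * n + 1)) ^ 3 := Nat.mul_le_mul_left _ (Nat.pow_le_pow_left h4 3)
        _ = 8 * (144 * (2 * n + 1) ^ 3) := by ring
        _ ≤ (n + 4 + 1) * (144 * (2 * n + 1) ^ 3) := Nat.mul_le_mul_right _ (by omega)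
  exact (Nat.mul_le_mul_left _ h1).trans (h3 n hn)

/-! ### classical groups in cross characteristic -/

section cl

variable {F : Type u} [Field F] {n r : ℕ} {T : Type v} [Group T] [Finite T] [IsSimpleGroup T]

theorem cross_psl (hna : ¬ IsMulCommutative T) (hr : r.Prime) (hrF : (r : F) ≠ 0) (h : PR F n r T) (h10 : 10 ≤ n)
    (hn : n ≤ 39) (hT : Cfsg.IsPSLChar r T) : Nat.card (MulAut T) ≤ (n + 4).factorial := by
  obtain ⟨K, _, _, _, m, hm, hm2, ⟨e⟩⟩ := hT
  have hq : 2 ≤ Fintype.card K := Fintype.one_lt_card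
  have hK : IsL m (Fintype.card K) T := ⟨K, inferInstance, inferInstance, rfl, ⟨e⟩⟩
  by_cases h2 : m = 2
  · subst h2
    have hle : (Fintype.card K - 1) / Nat.gcd 2 (Fintype.card K - 1) ≤ n := by
      refine H203.BdSL2.bd_of_sl2 hr rfl hrF (e.symm.toMonoidHom.comp (QuotientGroup.mk' _)) ?_ n h
      intro x hx
      have h1 : e.symm (QuotientGroup.mk' _ x) = 1 := hx
      rw [MulEquiv.map_eq_one_iff, QuotientGroup.mk'_apply, QuotientGroup.eq_one_iff] at h1
      exact h1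
    have h3 : Fintype.card K ≤ 2 * n + 1 := by
      have h5 := Nat.gcd_dvd_right 2 (Fintype.card K - 1)
      rcases (Nat.dvd_prime Nat.prime_two).1 (Nat.gcd_dvd_left 2 (Fintype.card K - 1)) with h4 | h4
      · rw [h4] at hle
        omega
      · rw [h4] at hle h5
        omega
    exact (fit_L hna le_rfl hm2 (by omega) hK).trans (sz_L2 h10 h3)
  · have hm3 : 3 ≤ m := by omega
    have hle : Fintype.card K ^ (m - 1) - 1 ≤ n := (bd_psl (F := F) hr hrF hm3 inferInstance).congr e n h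
    set q := Fintype.card K with hqdef
    have h6 : m ≤ 6 := by
      by_contra hcon
      have h1 : 2 ^ 6 ≤ q ^ (m - 1) := (Nat.pow_le_pow_left hq 6).trans (Nat.pow_le_pow_right (by omega) (by omega))
      omega
    have h7 : q ≤ 6 := by
      by_contra hcon
      have h1 : 7 ^ 2 ≤ q ^ (m - 1) := (Nat.pow_le_pow_left (by omega) 2).trans (Nat.pow_le_pow_right (by omega) (by omega))
      omega
    have hfit := fit_L hna hm hm2 (by omega) hK
    clear_value q
    clear hqdef hK h2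
    refine hfit.trans ?_
    clear hfit
    interval_cases m <;> interval_cases q <;>
      first
      | exact fac (a := 10) _ (by decide +kernel) h10
      | (exfalso; norm_num at hle; omega)
      | exact fac (a := 26) _ (by decide +kernel) (by norm_num at hle; omega)

theorem cross_psu (hna : ¬ IsMulCommutative T) (hr : r.Prime) (hrF : (r : F) ≠ 0) (h : PR F n r T) (h10 : 10 ≤ n)
    (hn : n ≤ 39) (hT : Cfsg.IsPSUChar r T) : Nat.card (MulAut T) ≤ (n + 4).factorial := by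
  obtain ⟨K, _, _, _, m, q, hq, hm, hmq, ⟨e⟩⟩ := hT
  have hq2 : 2 ≤ q := by
    have h1 : 1 < Fintype.card K := Fintype.one_lt_card
    rw [hq] at h1
    by_contra hcon
    interval_cases q <;> simp at h1
  have hle : (q - 1) * q ^ (m - 2) ≤ n := H175.BdSU.bd_psu (F := F) hr hq hm hrF e n h
  have hK : IsU m q T := ⟨K, inferInstance, inferInstance, hq, ⟨e⟩⟩
  have h5 : m ≤ 7 := by
    by_contra hcon
    have h1 : 2 ^ 6 ≤ q ^ (m - 2) := (Nat.pow_le_pow_left hq2 6).trans (Nat.pow_le_pow_right (by omega) (by omega))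
    have h2 : 1 * 2 ^ 6 ≤ (q - 1) * q ^ (m - 2) := Nat.mul_le_mul (by omega) h1
    omega
  have hqle : q ≤ 6 := by
    by_contra hcon
    have h1 : 7 ^ 1 ≤ q ^ (m - 2) := (Nat.pow_le_pow_left (by omega) 1).trans (Nat.pow_le_pow_right (by omega) (by omega))
    have h2 : 6 * 7 ^ 1 ≤ (q - 1) * q ^ (m - 2) := Nat.mul_le_mul (by omega) h1
    omega
  have hfit := fit_U hna hm hmq (by omega) hK
  refine hfit.trans ?_
  clear hfit hK
  interval_cases m <;> interval_cases q <;>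
    first
    | (exfalso; exact hmq ⟨rfl, rfl⟩)
    | exact fac (a := 10) _ (by decide +kernel) h10
    | (exfalso; norm_num at hle; omega)
    | exact fac (a := 16) _ (by decide +kernel) (by norm_num at hle; omega)
    | exact fac (a := 32) _ (by decide +kernel) (by norm_num at hle; omega)

theorem cross_psp (hna : ¬ IsMulCommutative T) (hr : r.Prime) (hrF : (r : F) ≠ 0) (h : PR F n r T) (h10 : 10 ≤ n)
    (hn : n ≤ 39) (hT : Cfsg.IsPSpChar r T) : Nat.card (MulAut T) ≤ (n + 4).factorial := by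
  obtain ⟨K, _, _, _, m, hm, hm2, ⟨e⟩⟩ := hT
  have hq2 : 2 ≤ Fintype.card K := Fintype.one_lt_card
  have hK : IsS m (Fintype.card K) T := ⟨K, inferInstance, inferInstance, rfl, ⟨e⟩⟩
  have hle : (Fintype.card K ^ m - 1) / 2 ≤ n := H175.BdSp.bd_psp (F := F) hr rfl (by omega) hrF e n h
  have hle2 : r = 2 → Fintype.card K ^ m - 1 ≤ n := by
    rintro rfl
    exact H175.BdSp.bd_psp_even (F := F) rfl (by omega) (by exact_mod_cast hrF) e n h
  have hpow : ∃ k, 0 < k ∧ Fintype.card K = r ^ k := by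
    have : Fact r.Prime := ⟨hr⟩
    obtain ⟨k, -, hk⟩ := FiniteField.card K r
    exact ⟨k, k.pos, hk⟩
  set q := Fintype.card K with hqdef
  have h4 : m ≤ 6 := by
    by_contra hcon
    have h1 : 2 ^ 7 ≤ q ^ m := (Nat.pow_le_pow_left hq2 7).trans (Nat.pow_le_pow_right (by omega) (by omega))
    omega
  have hqle : q ≤ 8 := by
    by_contra hcon
    have h1 : 9 ^ 2 ≤ q ^ m := (Nat.pow_le_pow_left (by omega) 2).trans (Nat.pow_le_pow_right (by omega) (by omega))
    omega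
  obtain ⟨k, hk0, hk⟩ := hpow
  have heven : q = 2 ∨ q = 4 ∨ q = 8 → r = 2 := by
    intro h
    have h1 : r ∣ q := by rw [hk]; exact dvd_pow_self r hk0.ne'
    have h2 : r ∣ 2 := by
      rcases h with h | h | h
      · rwa [h] at h1
      · rw [h] at h1
        exact hr.dvd_of_dvd_pow (show r ∣ 2 ^ 2 from h1)
      · rw [h] at h1
        exact hr.dvd_of_dvd_pow (show r ∣ 2 ^ 3 from h1)
    exact (Nat.prime_dvd_prime_iff_eq hr Nat.prime_two).1 h2
  have hfit := fit_S hna hm hm2 (by omega) hK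
  refine hfit.trans ?_
  clear_value q
  clear hk hqdef hfit hK
  interval_cases m <;> interval_cases q <;>
    first
    | (exfalso; have := hm2 rfl; omega)
    | exact fac (a := 10) _ (by decide +kernel) h10
    | (exfalso; norm_num at hle; omega)
    | (exfalso; have h9 := hle2 (heven (Or.inl rfl)); norm_num at h9; omega)
    | (exfalso; have h9 := hle2 (heven (Or.inr (Or.inl rfl))); norm_num at h9; omega)
    | (exfalso; have h9 := hle2 (heven (Or.inr (Or.inr rfl))); norm_num at h9; omega)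
    | exact fac (a := 13) _ (by decide +kernel) (by norm_num at hle; omega)
    | exact fac (a := 15) _ (by decide +kernel) (by have h9 := hle2 (heven (Or.inl rfl)); norm_num at h9; omega)
    | exact fac (a := 31) _ (by decide +kernel) (by have h9 := hle2 (heven (Or.inl rfl)); norm_num at h9; omega)

theorem cross_orth (hna : ¬ IsMulCommutative T) (hr : r.Prime) (hrF : (r : F) ≠ 0) (h : PR F n r T) (h10 : 10 ≤ n)
    (hn : n ≤ 39)
    (hT : Cfsg.IsPOmegaOddChar r T ∨ Cfsg.IsPOmegaPlusChar r T ∨ Cfsg.IsPOmegaMinusChar r T) :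
    Nat.card (MulAut T) ≤ (n + 4).factorial := by
  have hrr : Fact r.Prime := ⟨hr⟩
  have hpow : ∀ (K : Type) [Field K] [Fintype K] [CharP K r], ∃ k, Fintype.card K = r ^ k := by
    intro K _ _ _
    obtain ⟨k, -, hk⟩ := FiniteField.card K r
    exact ⟨k, hk⟩
  have hnum : ∀ q j : ℕ, 2 ≤ q → 4 ≤ j → (q - 1) * q ^ j ≤ n → q = 2 ∧ j ≤ 5 := by
    intro q j hq hj hle
    have h2 : q = 2 := by
      by_contra hcon
      have h1 : 3 ^ 4 ≤ q ^ j := (Nat.pow_le_pow_left (by omega) 4).trans (Nat.pow_le_pow_right (by omega) hj)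
      have h2 : 1 * 3 ^ 4 ≤ (q - 1) * q ^ j := Nat.mul_le_mul (by omega) h1
      omega
    subst h2
    refine ⟨rfl, ?_⟩
    by_contra hcon
    have h1 : 2 ^ 6 ≤ 2 ^ j := Nat.pow_le_pow_right (by omega) (by omega)
    omega
  rcases hT with ⟨K, _, _, hc, m, hm, ho, ⟨e⟩⟩ | ⟨K, _, _, hc, m, hm, ⟨e⟩⟩ | ⟨K, _, _, hc, m, a, b, hm, hab, ⟨e⟩⟩
  · exfalso
    have hq : 2 ≤ Fintype.card K := Fintype.one_lt_card
    have hq3 : 3 ≤ Fintype.card K := by
      obtain ⟨t, ht⟩ := ho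
      omega
    obtain ⟨f, hf⟩ := hpow K
    have h2 : (2 : K) ≠ 0 := by
      intro h0
      have h1 : r = 2 := by
        have h3 : r ∣ 2 := (CharP.cast_eq_zero_iff K r 2).1 (by exact_mod_cast h0)
        exact (Nat.prime_dvd_prime_iff_eq hr Nat.prime_two).1 h3
      subst h1
      rw [hf] at ho hq
      rcases Nat.eq_zero_or_pos f with h3 | h3
      · subst h3; norm_num at hq
      · exact (Nat.not_even_iff_odd.2 ho) ((Nat.even_pow.2 ⟨even_two, by omega⟩))
    have h3 := (H203.OrthHeis.bd_pomega_odd_heis (F := F) hr hrF hf h2 hm).congr e n h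
    have h4 : 3 ^ 3 ≤ Fintype.card K ^ (2 * m - 3) :=
      (Nat.pow_le_pow_left hq3 3).trans (Nat.pow_le_pow_right (by omega) (by omega))
    have h5 : 2 * 3 ^ 3 ≤ (Fintype.card K - 1) * Fintype.card K ^ (2 * m - 3) := Nat.mul_le_mul (by omega) h4
    omega
  · obtain ⟨f, hf⟩ := hpow K
    have h3 := (H203.OrthHeis.bd_pomega_plus_heis (F := F) hr hrF hf hm).congr e n h
    obtain ⟨h4, h5⟩ := hnum _ _ Fintype.one_lt_card (by omega) h3
    have h6 : m = 4 := by omega
    subst h6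
    exact (fit_OP hna le_rfl (by norm_num) ⟨K, inferInstance, inferInstance, h4, ⟨e⟩⟩).trans
      (fac (a := 10) _ (by decide +kernel) h10)
  · obtain ⟨f, hf⟩ := hpow K
    have h3 := (H203.OrthHeis.bd_pomega_minus_heis (F := F) hr hrF hf hm hab).congr e n h
    obtain ⟨h4, h5⟩ := hnum _ _ Fintype.one_lt_card (by omega) h3
    have h6 : m = 4 := by omega
    subst h6
    refine (fit_OM hna le_rfl (by rw [h4]; norm_num) hab e).trans ?_
    rw [h4]
    exact fac (a := 10) _ (by decide +kernel) h10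

/-- **Classical groups in cross characteristic.** -/
theorem cross_cl (hna : ¬ IsMulCommutative T) (hr : r.Prime) (hrF : (r : F) ≠ 0) (h : PR F n r T) (h10 : 10 ≤ n)
    (hn : n ≤ 39) (hT : Cfsg.IsPSLChar r T ∨ Cfsg.IsPSpChar r T ∨ Cfsg.IsPSUChar r T ∨ Cfsg.IsPOmegaOddChar r T ∨
      Cfsg.IsPOmegaPlusChar r T ∨ Cfsg.IsPOmegaMinusChar r T) : Nat.card (MulAut T) ≤ (n + 4).factorial := by
  rcases hT with hT | hT | hT | hT | hT | hT
  · exact cross_psl hna hr hrF h h10 hn hT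
  · exact cross_psp hna hr hrF h h10 hn hT
  · exact cross_psu hna hr hrF h h10 hn hT
  · exact cross_orth hna hr hrF h h10 hn (Or.inl hT)
  · exact cross_orth hna hr hrF h h10 hn (Or.inr (Or.inl hT))
  · exact cross_orth hna hr hrF h h10 hn (Or.inr (Or.inr hT))

end cl

end Cfsg.Agent.H2.Rb.Cx
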