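import Cfsg.Agent.H2.Rb.CrossA
import Cfsg.Agent.S2653
import Cfsg.Agent.S2119
import Cfsg.Agent.S1074
import Cfsg.Agent.H38.PpdAlt
import Cfsg.Agent.OrdDiv.Table
import Cfsg.Agent.H867.TitsOut

/-!
# S3691 (S): groups of Lie type in cross characteristic, alternating groups, the Tits group (helper2)

`cross_lie`, `cross_alt`, `cross_tits` : `P ≤ GL_n(F)` a core, `10 ≤ n ≤ 39`, `Soc P` of the type in question: then
`|Aut (Soc P)| ≤ (n + 4)!`.
-/

set_option autoImplicit false

universe u v w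

namespace Cfsg.Agent.H2.Rb.Cx

open Cfsg Cfsg.Geo Cfsg.Agent.H912.Bd Cfsg.Agent.H912.Five Cfsg.Agent.H915.LD Cfsg.Agent.OrdDiv
open Cfsg.Agent.H902 Cfsg.Agent.H902.Names Cfsg.Agent.H203.LS Cfsg.Agent.H936.List12

section aut

variable {S : Type v} [Group S] [Finite S] [IsSimpleGroup S]

theorem fit_G2 (hna : ¬ IsMulCommutative S) {q : ℕ} (h3 : 3 ≤ q) (hlt : q < 128) (h : H912.Bd.IsG2 q S) :
    Nat.card (MulAut S) ≤ 144 * sz .G2 q := by
  obtain ⟨K, iK, iKf, hK, ⟨e⟩⟩ := h
  obtain ⟨p, f, hp, hf, hq⟩ := card_pow K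
  rw [hK] at hq
  subst hq
  refine aut_le' hna (.g2 p f) ⟨K, iK, iKf, hK, ⟨e⟩⟩ ⟨hp, hf, h3, ?_⟩ rfl hlt
  rw [Nat.card_congr e.toEquiv, OrdDiv.table.{0}.g2 K, hK]
  change 1 * _ = (p ^ f) ^ 6 * (_ * _)
  ring

theorem fit_F4 (hna : ¬ IsMulCommutative S) {q : ℕ} (hlt : q < 128) (h : H912.Bd.IsF4 q S) :
    Nat.card (MulAut S) ≤ 144 * sz .F4 q := by
  obtain ⟨K, iK, iKf, hK, ⟨e⟩⟩ := h
  obtain ⟨p, f, hp, hf, hq⟩ := card_pow K
  rw [hK] at hq
  subst hq
  refine aut_le' hna (.f4 p f) ⟨K, iK, iKf, hK, ⟨e⟩⟩ ⟨hp, hf, trivial, ?_⟩ rfl hlt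
  rw [Nat.card_congr e.toEquiv, OrdDiv.table.{0}.f4 K _ hK]
  change 1 * _ = (p ^ f) ^ 24 * (_ * _ * _ * _)
  ring

theorem fit_TD4 (hna : ¬ IsMulCommutative S) {K : Type} [Field K] [Fintype K] {q : ℕ} (hq : IsPrimePow q)
    (hK : Fintype.card K = q ^ 3) (hlt : q < 128) (e : S ≃* Lie.twistedD4 K q) :
    Nat.card (MulAut S) ≤ 144 * sz .TD4 q := by
  obtain ⟨p, f', hp, hf', hq'⟩ := card_pow K
  have hc : CharP K p := H364.OutLie.charP_of_card hp hf' hq'.symm
  obtain ⟨f, hf, rfl⟩ := H364.LieNam.root_eq' hp hc (by norm_num) hK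
  refine aut_le' hna (.td4 p f) ⟨K, inferInstance, inferInstance, hK, ⟨e⟩⟩ ⟨hp, hf, trivial, ?_⟩ rfl hlt
  rw [Nat.card_congr e.toEquiv, OrdDiv.table.{0}.td4 K _ hq hK]
  change 1 * _ = (p ^ f) ^ 12 * (_ * _ * _)
  ring

theorem fit_Sz (hna : ¬ IsMulCommutative S) {K : Type} [Field K] [Fintype K] {m : ℕ} (hm : 1 ≤ m)
    (hK : Fintype.card K = 2 ^ (2 * m + 1)) (hlt : 2 ^ (2 * m + 1) < 128) (e : S ≃* Lie.Sz K (2 ^ (m + 1))) :
    Nat.card (MulAut S) ≤ 144 * sz .Sz (2 ^ (2 * m + 1)) := by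
  refine aut_le' hna (.sz 2 (2 * m + 1)) ⟨K, inferInstance, inferInstance, m, hm, hK, rfl, ⟨e⟩⟩
    ⟨Nat.prime_two, by omega, ⟨rfl, odd_two_mul_add_one m, by omega⟩, ?_⟩ rfl hlt
  rw [Nat.card_congr e.toEquiv, OrdDiv.table.{0}.sz K m hm hK]
  change 1 * _ = (2 ^ (2 * m + 1)) ^ 2 * (_ * _)
  ring

theorem fit_Ree (hna : ¬ IsMulCommutative S) {K : Type} [Field K] [Fintype K] {m : ℕ} (hm : 1 ≤ m)
    (hK : Fintype.card K = 3 ^ (2 * m + 1)) (hlt : 3 ^ (2 * m + 1) < 128) (e : S ≃* Lie.twistedG2 K (3 ^ m)) :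
    Nat.card (MulAut S) ≤ 144 * sz .Ree (3 ^ (2 * m + 1)) := by
  refine aut_le' hna (.ree 3 (2 * m + 1)) ⟨K, inferInstance, inferInstance, m, hm, hK, rfl, ⟨e⟩⟩
    ⟨Nat.prime_three, by omega, ⟨rfl, odd_two_mul_add_one m, by omega⟩, ?_⟩ rfl hlt
  rw [Nat.card_congr e.toEquiv, OrdDiv.table.{0}.ree K m hm hK]
  change 1 * _ = (3 ^ (2 * m + 1)) ^ 3 * (_ * _)
  ring

theorem fit_OO' (hna : ¬ IsMulCommutative S) {n q : ℕ} (hn : 3 ≤ n) (hlt : q < 128) (ho : Odd q) (h : IsOO n q S) :
    Nat.card (MulAut S) ≤ 144 * sz (.C n) q := by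
  obtain ⟨K, iK, iKf, hK, ⟨e⟩⟩ := h
  subst hK
  exact fit_OO hna hn hlt ho e

end aut

theorem mul_pow_ge {q a : ℕ} (hq : 3 ≤ q) (ha : 4 ≤ a) : 40 ≤ (q - 1) * q ^ a := by
  have h1 : 3 ^ 4 ≤ q ^ a := (Nat.pow_le_pow_left hq 4).trans (Nat.pow_le_pow_right (by omega) ha)
  have h2 : 1 * 3 ^ 4 ≤ (q - 1) * q ^ a := Nat.mul_le_mul (by omega) h1
  omega

theorem mul_pow_ge' {q a : ℕ} (hq : 2 ≤ q) (ha : 6 ≤ a) : 40 ≤ (q - 1) * q ^ a := by
  have h1 : 2 ^ 6 ≤ q ^ a := (Nat.pow_le_pow_left hq 6).trans (Nat.pow_le_pow_right (by omega) ha)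
  have h2 : 1 * 2 ^ 6 ≤ (q - 1) * q ^ a := Nat.mul_le_mul (by omega) h1
  omega

section lie

variable {F : Type u} [Field F] [Finite F] {p n : ℕ} [CharP F p] [hp : Fact p.Prime]

/-- groups with an exceptional multiplier -/
theorem cross_mult (h10 : 10 ≤ n) (hn : n ≤ 39) {P : Subgroup (Matrix.GeneralLinearGroup (Fin n) F)} (hC : Core P)
    {r : ℕ} (hrF : (r : F) ≠ 0) (h : ExcMult r (Soc P)) : Nat.card (MulAut (Soc P)) ≤ (n + 4).factorial := by
  have hs : IsSimpleGroup (Soc P) := hC.simple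
  have hna := hC.nonabelian
  rcases h with ⟨rfl, hm⟩ | ⟨rfl, hm⟩
  · rcases hm with hm | hm | hm | hm | hm | hm | hm | hm | hm | hm | hm | hm
    · exact (fit_L hna (by norm_num) (by norm_num) (by norm_num) hm).trans (fac (a := 10) _ (by decide +kernel) h10)
    · exact (fit_L hna (by norm_num) (by norm_num) (by norm_num) hm).trans (fac (a := 10) _ (by decide +kernel) h10)
    · exact (fit_L hna (by norm_num) (by norm_num) (by norm_num) hm).trans (fac (a := 10) _ (by decide +kernel) h10)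
    · exact (fit_L hna (by norm_num) (by norm_num) (by norm_num) hm).trans (fac (a := 10) _ (by decide +kernel) h10)
    · exact (fit_U hna (by norm_num) (by norm_num) (by norm_num) hm).trans (fac (a := 10) _ (by decide +kernel) h10)
    · refine (fit_U hna (by norm_num) (by norm_num) (by norm_num) hm).trans (fac (a := 16) _ (by decide +kernel) ?_)
      obtain ⟨K, iK, iKf, hK, e⟩ := hm
      exact le_of_ls' hC hrF (H95.LSx.Uni.ls_u62 (by rw [hK]; norm_num)) e
    · exact (fit_S hna (by norm_num) (by norm_num) (by norm_num) hm).trans (fac (a := 10) _ (by decide +kernel) h10)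
    · exact (fit_OP hna (by norm_num) (by norm_num) hm).trans (fac (a := 10) _ (by decide +kernel) h10)
    · exact (fit_G2 hna (by norm_num) (by norm_num) hm).trans (fac (a := 10) _ (by decide +kernel) h10)
    · refine (fit_F4 hna (by norm_num) hm).trans (fac (a := 16) _ (by decide +kernel) ?_)
      obtain ⟨K, iK, iKf, hK, e⟩ := hm
      exact le_of_ls' hC hrF (H936.F42.ls_f4_two hK) e
    · exfalso
      obtain ⟨K, iK, iKf, hK, e⟩ := hm
      have hch : CharP K 2 := charP_of_dvd Nat.prime_two (by rw [hK]; norm_num)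
      have h1 := le_of_ls' hC hrF (H203.LS.TwE6.ls Nat.prime_two.isPrimePow hK) e
      norm_num at h1
      omega
    · obtain ⟨K, iK, iKf, hK, ⟨e⟩⟩ := hm
      exact (fit_Sz hna (m := 1) le_rfl (by rw [hK]; norm_num) (by norm_num) e).trans
        (fac (a := 10) _ (by decide +kernel) h10)
  · rcases hm with hm | hm | hm | hm
    · exact (fit_L hna (by norm_num) (by norm_num) (by norm_num) hm).trans (fac (a := 10) _ (by decide +kernel) h10)
    · exact (fit_U hna (by norm_num) (by norm_num) (by norm_num) hm).trans (fac (a := 10) _ (by decide +kernel) h10)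
    · refine (fit_OO' hna (by norm_num) (by norm_num) (by decide) hm).trans (fac (a := 26) _ (by decide +kernel) ?_)
      obtain ⟨K, iK, iKf, hK, e⟩ := hm
      exact le_of_ls' hC hrF (H95.LSx.ls_o73 hK) e
    · exact (fit_G2 hna (by norm_num) (by norm_num) hm).trans (fac (a := 10) _ (by decide +kernel) h10)

/-- the exceptional groups -/
theorem cross_exc (h10 : 10 ≤ n) (hn : n ≤ 39) {P : Subgroup (Matrix.GeneralLinearGroup (Fin n) F)} (hC : Core P)
    {r : ℕ} (hr : r.Prime) (hrF : (r : F) ≠ 0) (h : ExcL r (Soc P)) :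
    Nat.card (MulAut (Soc P)) ≤ (n + 4).factorial := by
  have hs : IsSimpleGroup (Soc P) := hC.simple
  have hna := hC.nonabelian
  have key : ∀ {d : ℕ} {T' : Type} [Group T'], LS.{0, u, u} r d T' → (Soc P ≃* T') → d ≤ n := by
    intro d T' _ hls e'
    exact le_of_ls' hC hrF hls ⟨e'⟩
  rcases h with ⟨K, _, _, _, h⟩ | ⟨K, _, _, _, q, hq, h⟩ | ⟨rfl, K, _, _, m, hm, hK, ⟨e'⟩⟩ |
    ⟨rfl, K, _, _, m, hm, hK, ⟨e'⟩⟩ | ⟨rfl, K, _, _, m, hm, hK, ⟨e'⟩⟩
  · have : Fact r.Prime := ⟨hr⟩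
    have hq2 : 2 ≤ Nat.card K := by
      rw [Nat.card_eq_fintype_card]
      exact Fintype.one_lt_card
    rcases h with ⟨h3, ⟨e'⟩⟩ | ⟨⟨e'⟩⟩ | ⟨⟨e'⟩⟩ | ⟨⟨e'⟩⟩ | ⟨⟨e'⟩⟩
    · have hG : H912.Bd.IsG2 (Fintype.card K) (Soc P) := ⟨K, inferInstance, inferInstance, rfl, ⟨e'⟩⟩
      by_cases h4 : Fintype.card K = 4
      · rw [h4] at hG
        exact (fit_G2 hna (by norm_num) (by norm_num) hG).trans (fac (a := 10) _ (by decide +kernel) h10)
      · have h1 := key (G2.ls K (by rw [Nat.card_eq_fintype_card]; omega)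
          (by rw [Nat.card_eq_fintype_card]; exact h4)) e'
        rw [Nat.card_eq_fintype_card] at h1
        have h5 : Fintype.card K < 7 := by
          by_contra hcon
          have h6 : 6 * 7 ≤ (Fintype.card K - 1) * Fintype.card K := Nat.mul_le_mul (by omega) (by omega)
          omega
        have hfit := fit_G2 hna h3 (by omega) hG
        refine hfit.trans ?_
        clear hfit hG e' hq2
        generalize Fintype.card K = q at *
        interval_cases q
        · exact fac (a := 10) _ (by decide +kernel) h10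
        · exact absurd rfl h4
        · exact fac (a := 20) _ (by decide +kernel) (by norm_num at h1; omega)
        · exact fac (a := 30) _ (by decide +kernel) (by norm_num at h1; omega)
    · by_cases h2 : (2 : K) = 0
      · by_cases h3 : 2 < Nat.card K
        · have h1 := key (F4even.ls_even K h2 h3) e'
          have := mul_pow_ge h3 (le_refl 4)
          omega
        · have h4 : Fintype.card K = 2 := by rw [← Nat.card_eq_fintype_card]; omega
          have hr2 : r = 2 := by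
            have h5 : r ∣ 2 := (CharP.cast_eq_zero_iff K r 2).1 (by exact_mod_cast h2)
            exact (Nat.prime_dvd_prime_iff_eq hr Nat.prime_two).1 h5
          subst hr2
          refine (fit_F4 hna (by norm_num) ⟨K, inferInstance, inferInstance, h4, ⟨e'⟩⟩).trans
            (fac (a := 16) _ (by decide +kernel) ?_)
          exact key (H936.F42.ls_f4_two h4) e'
      · have h1 := key (F4odd.ls_odd K h2) e'
        have h3 : 3 ≤ Nat.card K := by
          by_contra hcon
          have h4 : Nat.card K = 2 := by omega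
          apply h2
          have h5 : ((Nat.card K : ℕ) : K) = 0 := by
            rw [Nat.card_eq_fintype_card]
            exact Nat.cast_card_eq_zero K
          rw [h4] at h5
          exact_mod_cast h5
        have := mul_pow_ge h3 (le_refl 4)
        omega
    · have h1 := key (E6.ls K) e'
      have := mul_pow_ge' hq2 (show 6 ≤ 10 by norm_num)
      omega
    · have h1 := key (E7.ls K) e'
      have := mul_pow_ge' hq2 (show 6 ≤ 16 by norm_num)
      omega
    · have h1 := key (E8.ls K) e'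
      have := mul_pow_ge' hq2 (show 6 ≤ 28 by norm_num)
      omega
  · have hq2 : 2 ≤ q := hq.two_le
    rcases h with ⟨hK, ⟨e'⟩⟩ | ⟨hK, ⟨e'⟩⟩
    · have h1 := key (TwE6.ls hq hK) e'
      have := mul_pow_ge' hq2 (le_refl 6)
      omega
    · have h1 := key (TwD4.ls hq hK) e'
      by_cases h3 : 3 ≤ q
      · have := mul_pow_ge h3 (le_refl 4)
        omega
      · have h2 : q = 2 := by omega
        subst h2
        exact (fit_TD4 hna hq hK (by norm_num) e').trans (fac (a := 16) _ (by decide +kernel) h1)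
  · have h1 := key (LS.sz hm hK) e'
    rw [Nat.card_eq_fintype_card, hK] at h1
    have h2 : m < 3 := by
      by_contra hcon
      have : 2 ^ 7 ≤ 2 ^ (2 * m + 1) := Nat.pow_le_pow_right (by norm_num) (by omega)
      omega
    have hfit := fit_Sz hna hm hK (by interval_cases m <;> norm_num) e'
    refine hfit.trans ?_
    clear hfit hK e'
    interval_cases m
    · exact fac (a := 10) _ (by decide +kernel) h10
    · exact fac (a := 31) _ (by decide +kernel) h1
  · exfalso
    have h1 := key (TwF4.ls hm hK) e'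
    rw [Nat.card_eq_fintype_card, hK] at h1
    have h2 : 2 ^ 3 ≤ 2 ^ (2 * m + 1) := Nat.pow_le_pow_right (by norm_num) (by omega)
    have h3 : 7 * 8 ^ 2 ≤ (2 ^ (2 * m + 1) - 1) * (2 ^ (2 * m + 1)) ^ 2 :=
      Nat.mul_le_mul (by omega) (Nat.pow_le_pow_left (by omega) 2)
    omega
  · have h1 := key (LS.ree hm hK) e'
    rw [Nat.card_eq_fintype_card, hK] at h1
    have h2 : m < 2 := by
      by_contra hcon
      have : 3 ^ 5 ≤ 3 ^ (2 * m + 1) := Nat.pow_le_pow_right (by norm_num) (by omega)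
      omega
    have h3 : m = 1 := by omega
    subst h3
    exact (fit_Ree hna hm hK (by norm_num) e').trans (fac (a := 26) _ (by decide +kernel) h1)

/-- **Groups of Lie type in cross characteristic.** -/
theorem cross_lie (h10 : 10 ≤ n) (hn : n ≤ 39) {P : Subgroup (Matrix.GeneralLinearGroup (Fin n) F)} (hC : Core P)
    {r : ℕ} (hr : r.Prime) (hrF : (r : F) ≠ 0) (h : IsLieTypeChar r (Soc P)) :
    Nat.card (MulAut (Soc P)) ≤ (n + 4).factorial := by
  have hs : IsSimpleGroup (Soc P) := hC.simple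
  rcases classical_or_exc h with hcl | hexc
  · rcases noR_of_lieTypeChar.{u} hr h with hm | hm
    · exact cross_mult h10 hn hC hrF hm
    · exact cross_cl hC.nonabelian hr hrF (PR.of_noR hm P hC.perfect (MulEquiv.refl _)) h10 hn hcl
  · exact cross_exc h10 hn hC hr hrF hexc

end lie

section alt

variable {F : Type u} [Field F] [Finite F] {n : ℕ}

theorem cross_tits (h10 : 10 ≤ n) {P : Subgroup (Matrix.GeneralLinearGroup (Fin n) F)} (hC : Core P)
    (h : Lie.IsoTits (Soc P)) : Nat.card (MulAut (Soc P)) ≤ (n + 4).factorial := by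
  have hout := H867.TitsOut.card_out_le h
  obtain ⟨e⟩ := h
  have hs : IsSimpleGroup (Soc P) := hC.simple
  have hcard : Nat.card (Soc P) = 2 ^ 11 * 3 ^ 3 * 5 ^ 2 * 13 := by
    rw [Nat.card_congr e.toEquiv]
    exact Cfsg.Agent.S1074.result.2.2.2
  rw [← Cfsg.Agent.H934.OutB.card_out_mul (Soc P) hC.nonabelian, hcard]
  exact (Nat.mul_le_mul_right _ hout).trans (fac (a := 10) _ (by decide +kernel) h10)

theorem cross_alt (p : ℕ) [CharP F p] [Fact p.Prime] (h10 : 10 ≤ n)
    {P : Subgroup (Matrix.GeneralLinearGroup (Fin n) F)} (hC : Core P) (h : IsAlternating (Soc P)) : Nat.card (MulAut (Soc P)) ≤ (n + 4).factorial := by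
  have := Fintype.ofFinite F
  obtain ⟨m, hm, ⟨e⟩⟩ := h
  by_cases h6 : m = 6
  · subst h6
    rw [Nat.card_congr (MulAut.congr e).toEquiv, H38.Ppd.card_aut_six]
    exact fac (a := 10) _ (by decide +kernel) h10
  · have h4 : Nat.card (MulAut (Soc P)) = m.factorial := by
      rw [Nat.card_congr (MulAut.congr e).toEquiv,
        ← Nat.card_congr (Equiv.ofBijective _ (Cfsg.Agent.S2119.result m (by omega) h6)),
        Nat.card_eq_fintype_card, Fintype.card_perm, Fintype.card_fin]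
    rw [h4]
    apply Nat.factorial_le
    by_cases h8 : m ≤ 8
    · omega
    · have h2 := Cfsg.Agent.S2653.result p n m P ((scalars (Fin n) F).subgroupOf P) ⟨e⟩ (by omega)
      split_ifs at h2 <;> omega

end alt

end Cfsg.Agent.H2.Rb.Cx
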