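import Cfsg.Agent.H2.Rb.CrossB
import Cfsg.Agent.H2.Rb.Basic
import Cfsg.Agent.H489.OutSpor
import Cfsg.Agent.H921.SporLe
import Cfsg.Agent.H921.SporSuz
import Cfsg.Agent.H806.LsFiLe
import Cfsg.Agent.H489.DegHe
import Cfsg.Agent.H489.DegHN
import Cfsg.Agent.H489.DegTh
import Cfsg.Agent.H489.DegLy
import Cfsg.Agent.H489.DegON
import Cfsg.Agent.H489.DegRu
import Cfsg.Agent.NotCT.Orders
import Cfsg.Agent.S2048
import Cfsg.Agent.H592.Ppd.RowM

/-!
# S3691 (S): the sporadic groups (helper2)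

* `cross_spor` : a row with a sporadic `Soc P` has `|Aut (Soc P)| ≤ (n + 4)!`, or `q = 2`, `n ≥ 23` and
  `|Aut (Soc P)| ≤ 2 ^ 113` (the Baby Monster).
-/

set_option autoImplicit false
set_option exponentiation.threshold 2000

universe u v w

namespace Cfsg.Agent.H2.Rb.Cx

open Cfsg Cfsg.Geo Cfsg.Agent.H912.Bd Cfsg.Agent.H915.LD Cfsg.Agent.NotCT
open Cfsg.Agent.H2.Rb.C100 Matrix

variable {F : Type u} [Field F] [Finite F] {n k m : ℕ} {P : Subgroup (GL (Fin n) F)}

/-- `|Soc P|` divides `|GL_n(q)|` -/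
theorem card_soc_dvd (P : Subgroup (GL (Fin n) F)) :
    Nat.card (Soc P) ∣ ∏ i : Fin n, (Nat.card F ^ n - Nat.card F ^ (i : ℕ)) := by
  have := Fintype.ofFinite F
  have h1 : Nat.card (Soc P) ∣ Nat.card P := Subgroup.card_quotient_dvd_card _
  have h2 : Nat.card P ∣ Nat.card (GL (Fin n) F) := Subgroup.card_subgroup_dvd_card P
  have h3 := Matrix.card_GL_field (𝔽 := F) n
  rw [Nat.card_eq_fintype_card (α := F), ← h3]
  exact h1.trans h2

/-- primes dividing `|Soc P|` -/
theorem exists_of_prime {r : ℕ} (hr : r.Prime) (hrF : ¬ r ∣ Nat.card F) (hd : r ∣ Nat.card (Soc P)) :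
    ∃ i, 1 ≤ i ∧ i ≤ n ∧ r ∣ Nat.card F ^ i - 1 := by
  have h1 := hd.trans (card_soc_dvd P)
  obtain ⟨i, -, hi⟩ := (Prime.dvd_finsetProd_iff hr.prime _).1 h1
  have hin : (i : ℕ) < n := i.2
  refine ⟨n - i, by omega, by omega, ?_⟩
  have h2 : Nat.card F ^ n - Nat.card F ^ (i : ℕ) = Nat.card F ^ (i : ℕ) * (Nat.card F ^ (n - i) - 1) := by
    rw [Nat.mul_sub, mul_one, ← pow_add]
    congr 2
    omega
  rw [h2] at hi
  rcases (Nat.Prime.dvd_mul hr).1 hi with h3 | h3
  · exact absurd (hr.dvd_of_dvd_pow h3) hrF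
  · exact h3

/-- The numbers of a row. -/
theorem q_cases (h : Row k m P) : Nat.card F = 2 ∨ (Nat.card F = 3 ∧ 18 ≤ n) ∨ (Nat.card F = 4 ∧ k = 9 ∧ n ≤ 17) ∨
    ((Nat.card F = 3 ∨ Nat.card F = 4 ∨ Nat.card F = 5 ∨ Nat.card F = 17) ∧ k = 6 ∧ n ≤ 11) := by
  have h1 := h.num.nlt
  have h2 := h.num.kle
  rcases h.num.bad with h3 | ⟨h3, h4⟩ | ⟨h3, h4⟩ | ⟨h3, h4⟩
  · exact Or.inl h3
  · exact Or.inr (Or.inl ⟨h3, by omega⟩)
  · exact Or.inr (Or.inr (Or.inl ⟨h3, h4, by omega⟩))
  · exact Or.inr (Or.inr (Or.inr ⟨h3, h4, by omega⟩))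

theorem p_of (p : ℕ) [CharP F p] (hp : p.Prime) : p ∣ Nat.card F := by
  have := Fintype.ofFinite F
  have : Fact p.Prime := ⟨hp⟩
  obtain ⟨a, -, ha⟩ := FiniteField.card F p
  rw [Nat.card_eq_fintype_card, ha]
  exact dvd_pow_self p a.ne_zero

/-- The characteristics. -/
theorem p_cases (h : Row k m P) {p : ℕ} [CharP F p] (hp : p.Prime) :
    p = 2 ∨ p = 3 ∨ ((p = 5 ∨ p = 17) ∧ Nat.card F = p ∧ n ≤ 11) := by
  have hd := p_of (F := F) p hp
  rcases q_cases h with h1 | ⟨h1, -⟩ | ⟨h1, -⟩ | ⟨h1 | h1 | h1 | h1, -, h2⟩ <;> rw [h1] at hd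
  · exact Or.inl ((Nat.prime_dvd_prime_iff_eq hp Nat.prime_two).1 hd)
  · exact Or.inr (Or.inl ((Nat.prime_dvd_prime_iff_eq hp Nat.prime_three).1 hd))
  · exact Or.inl ((Nat.prime_dvd_prime_iff_eq hp Nat.prime_two).1 (hp.dvd_of_dvd_pow (n := 2) (by simpa using hd)))
  · exact Or.inr (Or.inl ((Nat.prime_dvd_prime_iff_eq hp Nat.prime_three).1 hd))
  · exact Or.inl ((Nat.prime_dvd_prime_iff_eq hp Nat.prime_two).1 (hp.dvd_of_dvd_pow (n := 2) (by simpa using hd)))
  · have := (Nat.prime_dvd_prime_iff_eq hp (by norm_num)).1 hd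
    exact Or.inr (Or.inr ⟨Or.inl this, by rw [h1, this], h2⟩)
  · have := (Nat.prime_dvd_prime_iff_eq hp (by norm_num)).1 hd
    exact Or.inr (Or.inr ⟨Or.inr this, by rw [h1, this], h2⟩)

/-- the bound from the order -/
theorem spor_of (h : Row k m P) (hs : IsSporadicGroup (Soc P)) {N : ℕ} (hN : Nat.card (Soc P) = N) {a : ℕ}
    (ha : 2 * N ≤ (a + 4).factorial) (han : a ≤ n) : Nat.card (MulAut (Soc P)) ≤ (n + 4).factorial := by
  have h1 : IsSimpleGroup (Soc P) := h.core.simple
  rw [← Cfsg.Agent.H934.OutB.card_out_mul (Soc P) h.core.nonabelian, hN]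
  exact (Nat.mul_le_mul_right _ (H489.card_out_sporadic hs)).trans (ha.trans (Nat.factorial_le (by omega)))

/-- `GL_10(5)` has no subgroup of order `3 ^ 7` -/
theorem gl_five : ¬ 3 ^ 7 ∣ ∏ i : Fin 10, (5 ^ 10 - 5 ^ (i : ℕ)) := by decide +kernel

/-- `GL_16(2)` has no subgroup of order `3 ^ 13` -/
theorem gl_two : ¬ 3 ^ 13 ∣ ∏ i : Fin 16, (2 ^ 16 - 2 ^ (i : ℕ)) := by decide +kernel

theorem o47_two : ∀ i < 23, 1 ≤ i → ¬ 47 ∣ 2 ^ i - 1 := by decide +kernel

theorem o47_four : ∀ i < 23, 1 ≤ i → ¬ 47 ∣ 4 ^ i - 1 := by decide +kernel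

/-- a prime divisor of `m` divides the order -/
theorem dvd_of_row (h : Row k m P) (hs : IsSporadicGroup (Soc P)) {N : ℕ} (hN : Nat.card (Soc P) = N) : m ∣ N := by
  have h1 := h.dvd_card (MulEquiv.refl _)
  have h2 : IsSimpleGroup (Soc P) := h.core.simple
  have h6 := Cfsg.Agent.H934.OutB.card_out_mul (Soc P) h.core.nonabelian
  rw [← h6, hN] at h1
  rcases (Nat.Prime.dvd_mul h.num.prime).1 h1 with h3 | h3
  · have h4 := H489.card_out_sporadic hs
    have h5 : 0 < Nat.card (Out (Soc P)) := by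
      have h7 : 0 < Nat.card (MulAut (Soc P)) := Nat.card_pos
      rw [← h6] at h7
      exact Nat.pos_of_mul_pos_right h7
    have h8 := (Nat.le_of_dvd h5 h3).trans h4
    have h9 := h.num.seven_le h.num.prime dvd_rfl
    exact absurd (h9.trans h8) (by norm_num)
  · exact h3

/-- `Fi₂₃`: degree not 16 -/
theorem fi23_ne (h : Row k m P) (hs : IsSporadicGroup (Soc P)) (hh : Spor.IsoFi23 (Soc P)) : n ≠ 16 := by
  intro hn
  have hq : Nat.card F = 2 ∨ (Nat.card F = 4 ∧ k = 9) := by
    rcases q_cases h with h6 | ⟨h6, h7⟩ | ⟨h6, h7, -⟩ | ⟨-, -, h6⟩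
    · exact Or.inl h6
    · omega
    · exact Or.inr ⟨h6, h7⟩
    · omega
  subst hn
  rcases hq with hq | ⟨hq, hk⟩
  · have h1 := card_soc_dvd P
    rw [hq, Orders.fi23 hh] at h1
    exact gl_two (dvd_trans (by decide +kernel) h1)
  · have hm : m = 19 := by
      have h1 := h.num.eq_or
      have h2 := h.num.prime
      rw [hk] at h1
      rcases h1 with h1 | h1
      · rw [h1] at h2; norm_num at h2
      · exact h1
    have h3 := dvd_of_row h hs (Orders.fi23 hh)
    rw [hm] at h3
    exact absurd h3 (by decide +kernel)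

/-- **The sporadic groups.** -/
theorem cross_spor (h : Row k m P) (hs : IsSporadicGroup (Soc P)) :
    Nat.card (MulAut (Soc P)) ≤ (n + 4).factorial ∨
      (Nat.card F = 2 ∧ 23 ≤ n ∧ Nat.card (MulAut (Soc P)) ≤ 2 ^ 113) := by
  obtain ⟨p, hpF⟩ := CharP.exists F
  have hp : p.Prime := CharP.char_is_prime F p
  have hc := h.core
  have hpc := p_cases h hp
  have hqc := q_cases h
  have hn10 := h.num.ten
  have hn39 := h.num.le39
  rcases id hs with hh | hh | hh | hh | hh | hh | hh | hh | hh | hh | hh | hh | hh | hh | hh | hh | hh | hh | hh | hh | hh | hh | hh | hh | hh | hh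
  · exact Or.inl (spor_of h hs (Orders.m11 hh) (a := 10) (by decide +kernel) (by omega))
  · exact Or.inl (spor_of h hs (Orders.m12 hh) (a := 10) (by decide +kernel) (by omega))
  · exact Or.inl (spor_of h hs (Orders.m22 hh) (a := 10) (by decide +kernel) (by omega))
  · exact Or.inl (spor_of h hs (Orders.m23 hh) (a := 10) (by decide +kernel) (by omega))
  · exact Or.inl (spor_of h hs (Orders.m24 hh) (a := 10) (by decide +kernel) (by omega))
  · exact Or.inl (spor_of h hs (Orders.j1 hh) (a := 10) (by decide +kernel) (by omega))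
  · exact Or.inl (spor_of h hs (Orders.j2 hh) (a := 10) (by decide +kernel) (by omega))
  · exact Or.inl (spor_of h hs (Orders.j3 hh) (a := 10) (by decide +kernel) (by omega))
  · refine Or.inl (spor_of h hs (Orders.j4 hh) (a := 20) (by decide +kernel) ?_)
    obtain ⟨e⟩ := hh
    have hs4 : IsSimpleGroup Cfsg.Spor.J4 := (MulEquiv.isSimpleGroup_congr e).1 hc.simple
    have h1 := H489.Deg.le_of_bd hc e Cfsg.Agent.S2042.result (r := 23) (by norm_num)
      ((H921.Spor.J4.J4_twentythree' hs4).bd (F := F) (by norm_num)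
        (H489.Deg.cast_ne (F := F) hp (by norm_num) (by omega)))
    omega
  · exact Or.inl (spor_of h hs (Orders.co1 hh) (a := 20) (by decide +kernel)
      (hh.elim fun e => H921.Spor.Le.co1_le hp hc e))
  · exact Or.inl (spor_of h hs (Orders.co2 hh) (a := 20) (by decide +kernel)
      (hh.elim fun e => H921.Spor.Le.co2_le hp hc e))
  · exact Or.inl (spor_of h hs (Orders.co3 hh) (a := 20) (by decide +kernel)
      (hh.elim fun e => H921.Spor.Le.co3_le hp hc e))
  · exact Or.inl (spor_of h hs (Orders.mcl hh) (a := 10) (by decide +kernel) (by omega))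
  · exact Or.inl (spor_of h hs (Orders.hs hh) (a := 10) (by decide +kernel) (by omega))
  · refine Or.inl (spor_of h hs (Orders.suz hh) (a := 11) (by decide +kernel) ?_)
    by_cases h5 : p = 5
    · by_contra hcon
      have hn : n = 10 := by omega
      have hq : Nat.card F = 5 := by
        rcases hpc with h6 | h6 | ⟨-, h6, -⟩
        · omega
        · omega
        · rw [h6, h5]
      subst hn
      have h1 := card_soc_dvd P
      rw [hq, Orders.suz hh] at h1
      exact gl_five (dvd_trans (by decide +kernel) h1)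
    · obtain ⟨e⟩ := hh
      have := H489.Deg.le_of_bd hc e Cfsg.Agent.S2048.result (r := 5) (by norm_num)
        (H921.Spor.Suz.Suz_five.bd (F := F) (by norm_num)
          (H489.Deg.cast_ne (F := F) hp (by norm_num : (5 : ℕ).Prime) h5))
      omega
  · exact Or.inl (spor_of h hs (Orders.he hh) (a := 10) (by decide +kernel) (by omega))
  · exact Or.inl (spor_of h hs (Orders.ru hh) (a := 14) (by decide +kernel)
      (hh.elim fun e => H489.Deg.Ru.ru_le hp hc e))
  · exact Or.inl (spor_of h hs (Orders.on hh) (a := 14) (by decide +kernel)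
      (hh.elim fun e => H489.Deg.ON.on_le hp hc e))
  · refine Or.inl (spor_of h hs (Orders.ly hh) (a := 20) (by decide +kernel) ?_)
    obtain ⟨e⟩ := hh
    by_cases h5 : p = 5
    · have h1 := H489.Deg.Ly.ly_le hp hc e
      rcases hpc with h6 | h6 | ⟨-, -, h6⟩ <;> omega
    · have := H489.Deg.le_of_bd hc e Cfsg.Agent.S2050.result (r := 5) (by norm_num)
        (H489.Deg.Ly.ly_five (F := F) (H489.Deg.cast_ne (F := F) hp (by norm_num : (5 : ℕ).Prime) h5))
      omega
  · exact Or.inl (spor_of h hs (Orders.fi22 hh) (a := 16) (by decide +kernel)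
      (hh.elim fun e => H806.Ls.fi22_le hp hc e))
  · refine Or.inl (spor_of h hs (Orders.fi23 hh) (a := 17) (by decide +kernel) ?_)
    have hn16 : 16 ≤ n := hh.elim fun e => H806.Ls.fi23_le hp hc e
    by_contra hcon
    exact fi23_ne h hs hh (by omega)
  · exact Or.inl (spor_of h hs (Orders.fi24 hh) (a := 24) (by decide +kernel)
      (hh.elim fun e => H921.Spor.Le.fi24_le hp hc e))
  · refine Or.inl (spor_of h hs (Orders.hn hh) (a := 20) (by decide +kernel) ?_)
    obtain ⟨e⟩ := hh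
    by_cases h5 : p = 5
    · have h1 := H489.Deg.HN.hn_le hp hc e
      rcases hpc with h6 | h6 | ⟨-, -, h6⟩ <;> omega
    · have := H489.Deg.le_of_bd hc e Cfsg.Agent.S2056.result (r := 5) (by norm_num)
        (H489.Deg.HN.hn_five (F := F) (H489.Deg.cast_ne (F := F) hp (by norm_num : (5 : ℕ).Prime) h5))
      omega
  · refine Or.inl (spor_of h hs (Orders.th hh) (a := 24) (by decide +kernel) ?_)
    obtain ⟨e⟩ := hh
    exact H489.Deg.le_of_bd hc e Cfsg.Agent.S2057.result (r := 7) (by norm_num)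
      (H592.Ppd.th_seven.bd (F := F) (by norm_num)
        (H489.Deg.cast_ne (F := F) hp (by norm_num : (7 : ℕ).Prime) (by omega)))
  · by_cases hn28 : 28 ≤ n
    · exact Or.inl (spor_of h hs (Orders.b hh) (a := 28) (by decide +kernel) hn28)
    · have hcard := Orders.b hh
      obtain ⟨e⟩ := hh
      by_cases hp2 : p = 2
      · have hq : Nat.card F = 2 ∨ (Nat.card F = 4 ∧ n ≤ 17) := by
          have hd := p_of (F := F) p hp
          rw [hp2] at hd
          rcases hqc with h6 | ⟨h6, h7⟩ | ⟨h6, -, h7⟩ | ⟨h6 | h6 | h6 | h6, -, h7⟩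
          · exact Or.inl h6
          · rw [h6] at hd; omega
          · exact Or.inr ⟨h6, h7⟩
          · rw [h6] at hd; omega
          · exact Or.inr ⟨h6, by omega⟩
          · rw [h6] at hd; omega
          · rw [h6] at hd; omega
        have h47 : ¬ 47 ∣ Nat.card F := by
          rcases hq with hq | ⟨hq, -⟩ <;> rw [hq] <;> norm_num
        obtain ⟨i, hi1, hin, hi⟩ := exists_of_prime (P := P) (r := 47) (by norm_num) h47
          (by rw [hcard]; decide +kernel)
        rcases hq with hq | ⟨hq, hn17⟩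
        · rw [hq] at hi
          have hi23 : 23 ≤ i := by
            by_contra hcon
            exact o47_two i (by omega) hi1 hi
          refine Or.inr ⟨hq, by omega, ?_⟩
          have h2 : IsSimpleGroup (Soc P) := h.core.simple
          rw [← Cfsg.Agent.H934.OutB.card_out_mul (Soc P) h.core.nonabelian, hcard]
          exact (Nat.mul_le_mul_right _ (H489.card_out_sporadic hs)).trans (by decide +kernel)
        · rw [hq] at hi
          exact absurd hi (o47_four i (by omega) hi1)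
      · have hs2 : IsSimpleGroup Cfsg.Spor.BabyMonster := (MulEquiv.isSimpleGroup_congr e).1 h.core.simple
        have h1 := h.le_of_ls e (H489.Deg.cast_ne (F := F) hp Nat.prime_two hp2)
          (H806.Ls.b_ls_two (H806.Ls.nc_of_core h.core e))
        omega
  · exfalso
    obtain ⟨e⟩ := hh
    have h1 := H489.Deg.le_of_bd h.core e Cfsg.Agent.S2059.result (r := 7) (by norm_num)
      (H592.Ppd.m_seven.bd (F := F) (by norm_num) (H489.Deg.cast_ne (F := F) hp (by norm_num) (by omega)))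
    omega

end Cfsg.Agent.H2.Rb.Cx
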