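import Cfsg.Agent.H744.Ppd.Inst
import Cfsg.Agent.H744.Ppd.G2Wt
import Cfsg.Agent.H927.G2Main
import Cfsg.Agent.S1059
import Cfsg.Agent.H2.Rb.Basic

/-!
# Modules of `G₂(K)` in the defining characteristic: dimensions (from helper744's file for S5948, adapted by helper2)

`φ : G₂(K) → GL(ι, F)` with absolutely irreducible image, `|K| = |F| ^ j`:

* `ge_pow` : `6 * 2 ^ j ≤ |ι| + 6`;
* `ge_24` : `24 ≤ |ι|` for `j = 2`, `3 ≤ |F|`;
* **`not_g2`** : the row `G₂` of S5948 (task 2463).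
-/

set_option autoImplicit false
set_option linter.unusedSectionVars false
set_option linter.style.haveILetI false

namespace Cfsg.Agent.H2.Rb.C744G

open Cfsg.Agent.H744.Ppd

open Matrix (SpecialLinearGroup)
open Cfsg Cfsg.Geo
open Cfsg.Agent.H911 (lin)
open Cfsg.Agent.H911.SLTwo Cfsg.Agent.H875.Fn
open CoxeterSystem Cfsg.Agent.ChevalleyStructure.CoxeterGeom Cfsg.Agent.Tits.Roots Cfsg.Agent.Tits.Core
  Cfsg.Agent.Tits.Exchange Cfsg.Agent.Nodes.Reps Cfsg.Agent.Nodes.BNOf Cfsg.Agent.Nodes.StabComb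
  Cfsg.Agent.Nodes.Bruhat Cfsg.Agent.Nodes.OppDec Cfsg.Agent.Nodes.LeviDec Cfsg.Agent.KFacts.RgdOpp
  Cfsg.Agent.Omega.CR Cfsg.Agent.Omega.FOne.Lift.Sd Cfsg.Agent.H905.Md Cfsg.Agent.H650.Ppd
open Cfsg.Lie Cfsg.Agent.ChevalleyStructure Cfsg.Agent.ChevalleyStructure.CoxeterGeomTypes
  Cfsg.Agent.Nodes.RGDChev

universe u

section count

variable {W Y : Type*} [Group W] [Group Y] {cs : CoxeterSystem CoxeterMatrix.G₂ W} {p : ℕ} {T : Subgroup Y}
  {n : Fin 2 → Y} {X : (Fin 2 → ℤ) → Subgroup Y} {k V : Type*} [Field k] [AddCommGroup V] [Module k V]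
  (R : RGD cs H744.Ppd.ht.isCartan p T n X) [Finite Y] [Finite W] [Fact p.Prime] [CharP k p] {ρ : Y →* Module.End k V}
  [FiniteDimensional k V] [Nontrivial V]
  (hirr : ∀ L : Submodule k V, Ivt ρ (GG cs H744.Ppd.ht.isCartan T X) L → L = ⊥ ∨ L = ⊤)
include R hirr

theorem ge_one {i : Fin 2} (hi : i ∉ Jx cs H744.Ppd.ht.isCartan X ρ) :
    6 * Module.finrank k (D cs H744.Ppd.ht.isCartan X ρ) + 6 * Module.finrank k (Io cs H744.Ppd.ht.isCartan T X ρ i) ≤
      Module.finrank k V := by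
  fin_cases i
  · exact dim_ge_list R hirr hi [[], [0], [0, 1], [0, 1, 0], [0, 1, 0, 1], [0, 1, 0, 1, 0]]
      [[], [1], [1, 0], [1, 0, 1], [1, 0, 1, 0], [1, 0, 1, 0, 1]] (by decide +kernel) (by decide +kernel)
  · exact dim_ge_list R hirr hi [[], [1], [1, 0], [1, 0, 1], [1, 0, 1, 0], [1, 0, 1, 0, 1]]
      [[], [0], [0, 1], [0, 1, 0], [0, 1, 0, 1], [0, 1, 0, 1, 0]] (by decide +kernel) (by decide +kernel)

theorem ge_two (h0 : (0 : Fin 2) ∉ Jx cs H744.Ppd.ht.isCartan X ρ) (h1 : (1 : Fin 2) ∉ Jx cs H744.Ppd.ht.isCartan X ρ) :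
    12 * Module.finrank k (D cs H744.Ppd.ht.isCartan X ρ) + (6 * Module.finrank k (Io cs H744.Ppd.ht.isCartan T X ρ 0) +
      6 * Module.finrank k (Io cs H744.Ppd.ht.isCartan T X ρ 1)) ≤ Module.finrank k V := by
  exact dim_ge_list_two R hirr h0 h1 (by decide)
    [[], [0], [0, 1], [0, 1, 0], [0, 1, 0, 1], [0, 1, 0, 1, 0], [0, 1, 0, 1, 0, 1], [1], [1, 0], [1, 0, 1],
      [1, 0, 1, 0], [1, 0, 1, 0, 1]]
    [[], [1], [1, 0], [1, 0, 1], [1, 0, 1, 0], [1, 0, 1, 0, 1]]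
    [[], [0], [0, 1], [0, 1, 0], [0, 1, 0, 1], [0, 1, 0, 1, 0]] (by decide +kernel) (by decide +kernel)
    (by decide +kernel)

end count

/-! ### linear groups -/

section main

open Cfsg.Agent.H927.G2 (cs2 hc2 T2 n2 X2 rgd2 GG2 T2_comm T2_pow)

variable {F : Type u} [Field F] [Finite F] {ι : Type} [Fintype ι] [DecidableEq ι] [Nonempty ι]
  {P : Subgroup (Matrix.GeneralLinearGroup ι F)}
  (p : ℕ) [hp : Fact p.Prime] [CharP F p] {K : Type} [Field K] [Fintype K] [CharP K p]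
  {φ : chevG2.group K →* Matrix.GeneralLinearGroup ι F} (hφ : φ.range = P)
  (hP : ActsAbsolutelyIrreducibly (matrixSet P)) (h2 : 2 ≤ Fintype.card ι)
include p hφ hP h2

/-- not both nodes are in `J` -/
theorem exists_node : (0 : Fin 2) ∉ Jx cs2 hc2 (X2 K) (lin (acRep φ)) ∨ (1 : Fin 2) ∉ Jx cs2 hc2 (X2 K) (lin (acRep φ)) := by
  have hchar : CharP (AlgebraicClosure F) p := charP_of_injective_algebraMap (algebraMap F _).injective p
  have hirr := ac_irr (rgd2 (K := K) p) GG2 T2_comm hφ hP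
  have hD := finrank_D (rgd2 (K := K) p) hirr T2_comm
  obtain ⟨i, hi⟩ := exists_not_mem (rgd2 (K := K) p) hirr (by
    rw [hD, Module.finrank_fintype_fun_eq_card]; omega)
  fin_cases i
  · exact Or.inl hi
  · exact Or.inr hi

/-- one node -/
theorem ge_pow {j : ℕ} (hj : Nat.card K = Nat.card F ^ j) : 6 * 2 ^ j ≤ Fintype.card ι + 6 := by
  have hchar : CharP (AlgebraicClosure F) p := charP_of_injective_algebraMap (algebraMap F _).injective p
  have hirr := ac_irr (rgd2 (K := K) p) GG2 T2_comm hφ hP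
  have hD := finrank_D (rgd2 (K := K) p) hirr T2_comm
  have key : ∀ i : Fin 2, i ∉ Jx cs2 hc2 (X2 K) (lin (acRep φ)) → 6 * 2 ^ j ≤ Fintype.card ι + 6 := by
    intro i hi
    have h3 := ge_one (rgd2 (K := K) p) hirr hi
    have h4 := finrank_Io (rgd2 (K := K) p) hirr i
    obtain ⟨m, hm, h5⟩ := edge_pow_of_card (rgd2 (K := K) p) GG2 T2_comm hφ hP (sg_nd ht cs2 p i) hi hj
    have h6 := Nat.pow_le_pow_left hm j
    rw [hD, Module.finrank_fintype_fun_eq_card] at h3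
    rw [hD] at h4
    rw [h5] at h4
    have h7 := h4
    omega
  rcases exists_node p hφ hP h2 with h | h
  · exact key _ h
  · exact key _ h

/-- `|K| = |F| ^ 2` -/
theorem ge_24 (hq : 3 ≤ Nat.card F) (hj : Nat.card K = Nat.card F ^ 2) : 24 ≤ Fintype.card ι := by
  have hchar : CharP (AlgebraicClosure F) p := charP_of_injective_algebraMap (algebraMap F _).injective p
  have hirr := ac_irr (rgd2 (K := K) p) GG2 T2_comm hφ hP
  have hD := finrank_D (rgd2 (K := K) p) hirr T2_comm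
  have hfin : Module.finrank (AlgebraicClosure F) (ι → AlgebraicClosure F) = Fintype.card ι :=
    Module.finrank_fintype_fun_eq_card _
  obtain ⟨c, hc, hc0, χ, hχ⟩ := exists_chi (rgd2 (K := K) p) hirr T2_comm
  obtain ⟨j⟩ := Cfsg.Agent.H875.Psl2.exists_emb F K p
  obtain ⟨a, ha0, ha⟩ : ∃ a : ℕ, a ≠ 0 ∧ Nat.card F = p ^ a := by
    have := Fintype.ofFinite F
    obtain ⟨a, -, ha⟩ := FiniteField.card F p
    exact ⟨a, a.ne_zero, by rw [Nat.card_eq_fintype_card, ha]⟩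
  have hKp : Nat.card K = p ^ (a * 2) := by rw [hj, ha, pow_mul]
  have hgcd : Nat.gcd a (a * 2) = a := Nat.gcd_eq_left (Dvd.intro 2 rfl)
  have data := fun (i : Fin 2) (hi : i ∉ Jx cs2 hc2 (X2 K) (lin (acRep φ))) =>
    edge_data (rgd2 (K := K) p) GG2 T2_comm hφ hP (sg_nd ht cs2 p i) hi ha hKp (s := 2) (by rw [hgcd, mul_comm]) j hc hc0 hχ
  rw [hgcd] at data
  -- the dimensions of the edges
  have sq : ∀ {d m : ℕ}, m ≤ d → m ^ 2 ≤ d ^ 2 := fun h => Nat.pow_le_pow_left h 2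
  have one : ∀ (i : Fin 2), i ∉ Jx cs2 hc2 (X2 K) (lin (acRep φ)) → 24 ≤ Fintype.card ι ∨
      ∃ ι' : K →+* AlgebraicClosure F, ∀ t : Kˣ, lin (acRep φ) (sg ht K i (hh t)) c = ι' (t : K) ^ (1 + p ^ a) • c := by
    intro i hi
    obtain ⟨r₀, hr0, -, hr, hd⟩ := data i hi
    rcases (Cfsg.Agent.H875.Fn.two_le_card_SS (p := p) hr0).eq_or_lt with h3 | h3
    · right
      obtain ⟨b, hb⟩ := Cfsg.Agent.H875.Psl2.eq_pow_of_card_two p h3.symm
      refine ⟨(iterateFrobenius (AlgebraicClosure F) p b).comp j, fun t => ?_⟩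
      rw [hχ _ ((sg_nd ht cs2 p i).tor t), hr t, hb, RingHom.comp_apply, iterateFrobenius_def, ← pow_mul]
      congr 3
      rw [Finset.sum_range_succ, Finset.sum_range_one, pow_zero, pow_one]
    · left
      have h4 := ge_one (rgd2 (K := K) p) hirr hi
      have h5 := finrank_Io (rgd2 (K := K) p) hirr i
      have h6 : 3 ^ 2 ≤ _ := sq h3
      rw [hD, hfin] at h4
      rw [hD, hd] at h5
      omega
  have hq' : 3 ≤ p ^ a := by rw [← ha]; exact hq
  have hKc : Fintype.card K = (p ^ a) ^ 2 := by rw [← Nat.card_eq_fintype_card, hj, ha]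
  obtain ⟨φ₀, hφ₀, hne⟩ := exists_pair_D (rgd2 (K := K) p) hirr hc hc0
  rw [← hfin] at one ⊢
  have H := hx_g2 (K := K) cs2 p
  by_cases h0 : (0 : Fin 2) ∈ Jx cs2 hc2 (X2 K) (lin (acRep φ)) <;>
    by_cases h1 : (1 : Fin 2) ∈ Jx cs2 hc2 (X2 K) (lin (acRep φ))
  · rcases exists_node p hφ hP h2 with h | h
    · exact absurd h0 h
    · exact absurd h1 h
  · rcases one 1 h1 with h3 | ⟨ι', h3⟩
    · exact h3
    by_cases hp3 : p = 3
    · exact long24_three H hirr hc hφ₀ hne ι' ha0 hKc hp3 h0 h1 h3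
    · have hq4 : 4 ≤ p ^ a := by
        by_contra hcon
        have h4 : p ^ a = 3 := by omega
        have h5 : p ∣ 3 := h4 ▸ dvd_pow_self p ha0
        exact hp3 ((Nat.prime_dvd_prime_iff_eq hp.out Nat.prime_three).1 h5)
      exact long24 H hirr hc hφ₀ hne ι' ha0 hKc hp3 hq4 h0 h1 h3
  · rcases one 0 h0 with h3 | ⟨ι', h3⟩
    · exact h3
    exact short24 H hirr hc hφ₀ hne ι' ha0 hKc hq' h0 h1 h3
  · obtain ⟨m0, hm0, h3⟩ := edge_pow_of_card (rgd2 (K := K) p) GG2 T2_comm hφ hP (sg_nd ht cs2 p 0) h0 hj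
    obtain ⟨m1, hm1, h4⟩ := edge_pow_of_card (rgd2 (K := K) p) GG2 T2_comm hφ hP (sg_nd ht cs2 p 1) h1 hj
    have h5 := ge_two (rgd2 (K := K) p) hirr h0 h1
    have h6 := finrank_Io (rgd2 (K := K) p) hirr 0
    have h7 := finrank_Io (rgd2 (K := K) p) hirr 1
    rw [hD] at h5
    rw [hD, h3] at h6
    rw [hD, h4] at h7
    have h8 := sq hm0
    have h9 := sq hm1
    omega

end main

/-! ### the row -/

section row

open Cfsg.Agent.H927.G2 (GG2 fr_g2)
open Cfsg.Agent.H915.LD Cfsg.Agent.H2.Rb.C100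

variable {n k m : ℕ} {F : Type u} [Field F] [Finite F] {P : Subgroup (Matrix.GeneralLinearGroup (Fin n) F)}

/-- a prime divisor of `m` and of `q ^ i (q ^ j - 1) ...` -/
theorem dvd_of_prime {q n k m : ℕ} (h : Num q n k m) {r : ℕ} (hr : r.Prime) (hrm : r ∣ m) {j : ℕ} {Q : ℕ}
    (hQ : Q = q ^ j) (hd : r ∣ Q ^ 6 * (Q ^ 2 - 1) * (Q ^ 6 - 1)) : k ∣ 6 * j := by
  have h1 : ∀ i : ℕ, r ∣ Q ^ i - 1 → k ∣ j * i := by
    intro i hi
    rw [← h.pow_eq_one_iff hr hrm]
    have : Fact r.Prime := ⟨hr⟩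
    have hq := h.one_lt_q
    have h2 : 1 ≤ q ^ (j * i) := Nat.one_le_pow _ _ (by omega)
    rw [hQ, ← pow_mul, ← ZMod.natCast_eq_zero_iff, Nat.cast_sub h2, Nat.cast_pow, Nat.cast_one, sub_eq_zero] at hi
    exact hi
  rcases (Nat.Prime.dvd_mul hr).1 hd with h2 | h2
  · rcases (Nat.Prime.dvd_mul hr).1 h2 with h3 | h3
    · exfalso
      have h4 := hr.dvd_of_dvd_pow h3
      rw [hQ] at h4
      exact h.not_dvd_q hr hrm (hr.dvd_of_dvd_pow h4)
    · exact (h1 2 h3).trans ⟨3, by ring⟩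
  · rw [mul_comm]
    exact h1 6 h2

/-- the row `G₂` : only `G₂(4)` over the field with two elements -/
theorem not_g2 (h : Row k m P) (hg : ∃ r, r.Prime ∧ r ∣ m ∧ r ∣ Nat.card (Soc P)) {p : ℕ} [Fact p.Prime]
    [CharP F p] {K : Type} [Field K] [Fintype K] [CharP K p] (h3 : 3 ≤ Fintype.card K)
    (e : Soc P ≃* Lie.chevG2.group K) : 12 ≤ n ∧ Fintype.card K = 4 := by
  have hC := h.core
  have hn10 := h.num.ten
  obtain ⟨f⟩ := Cfsg.Agent.H48.DsChev.g2_equiv p hC h3 e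
  have hfr := fr_g2 p hC f
  obtain ⟨aK, -, haK⟩ := FiniteField.card K p
  have hcK : Nat.card K = p ^ (aK : ℕ) := by rw [Nat.card_eq_fintype_card, haK]
  obtain ⟨j, hj1, hj⟩ := card_pow_eq p aK.ne_zero (fun x => pow_eq_of_no_subfield hC.absIrred hC.no_subfield p aK (fun g hg => by
    rw [← hcK]; exact hfr g hg) x)
  have hKF : Nat.card K = Nat.card F ^ j := by rw [hcK, hj]
  have hne : Nonempty (Fin n) := hC.nonempty
  have h2 : 2 ≤ Fintype.card (Fin n) := by rw [Fintype.card_fin]; omega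
  have hφ : (P.subtype.comp f.symm.toMonoidHom).range = P := by
    rw [MonoidHom.range_comp, MonoidHom.range_eq_top.2 f.symm.surjective, ← MonoidHom.range_eq_map,
      Subgroup.range_subtype]
  have h4 := ge_pow p hφ hC.absIrred h2 hKF
  rw [Fintype.card_fin] at h4
  obtain ⟨r, hr, hrm, hrd⟩ := hg
  rw [Nat.card_congr e.toEquiv, Cfsg.Agent.S1059.result rfl, ← Nat.card_eq_fintype_card] at hrd
  have hk := dvd_of_prime h.num hr hrm hKF hrd
  have hk' := Nat.le_of_dvd (by omega) hk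
  have hkn := h.num.nlt
  have hj3 : j < 3 := by
    by_contra hcon
    have h5 : ∀ j : ℕ, 3 ≤ j → 2 * j + 1 ≤ 2 ^ j := by
      intro j hj
      induction j, hj using Nat.le_induction with
      | base => norm_num
      | succ j hj ih => rw [pow_succ]; omega
    have h6 := h5 j (by omega)
    omega
  have hj2 : j = 1 ∨ j = 2 := by omega
  rcases hj2 with rfl | rfl
  · obtain ⟨-, -, -, -, h5⟩ := Cfsg.Agent.H927.G2.core_g2 p hC (by rw [Nat.card_eq_fintype_card]; exact h3) e (by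
      rw [Fintype.card_fin]; omega)
    rw [Fintype.card_fin] at h5
    omega
  · have hq := h.num.one_lt_q
    rcases (show Nat.card F = 2 ∨ 3 ≤ Nat.card F by omega) with h5 | h5
    · obtain ⟨x, hx⟩ := hk
      have hx1 : x = 1 := by
        rcases Nat.eq_zero_or_pos x with h6 | h6
        · subst h6; omega
        · by_contra hne
          have h7 : k * 2 ≤ k * x := Nat.mul_le_mul_left k (by omega)
          omega
      subst hx1
      have h6 := h.num.kle
      refine ⟨by omega, ?_⟩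
      rw [← Nat.card_eq_fintype_card, hKF, h5]; norm_num
    · have h6 := ge_24 p hφ hC.absIrred h2 h5 hKF
      rw [Fintype.card_fin] at h6
      omega

end row

end Cfsg.Agent.H2.Rb.C744G
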