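import Cfsg.Agent.H744.Ppd.D4Inst
import Cfsg.Agent.H744.Ppd.D4Wt
import Cfsg.Agent.H2.Rb.G2Dim
import Cfsg.Agent.S1067

/-!
# Modules of `³D₄(q₀)` in the defining characteristic (from helper744's file for S5948, adapted by helper2)

`φ : ³D₄(q₀) → GL(ι, F)` with absolutely irreducible image, `q₀ ^ 3 = |F| ^ j`; `not_3d4` : the row `³D₄` of S5948 (task
2465).
-/

set_option autoImplicit false
set_option linter.unusedSectionVars false
set_option linter.style.haveILetI false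

namespace Cfsg.Agent.H2.Rb.C744D

open Cfsg.Agent.H2.Rb.C744G
open Cfsg.Agent.H744.Ppd Cfsg.Agent.H744.Ppd.D4

open Matrix (SpecialLinearGroup)
open Cfsg Cfsg.Geo
open Cfsg.Agent.H911 (lin)
open Cfsg.Agent.H911.SLTwo Cfsg.Agent.H875.Fn
open CoxeterSystem Cfsg.Agent.ChevalleyStructure.CoxeterGeom Cfsg.Agent.Tits.Roots Cfsg.Agent.Tits.Core
  Cfsg.Agent.Tits.Exchange Cfsg.Agent.Nodes.Reps Cfsg.Agent.Nodes.BNOf Cfsg.Agent.Nodes.StabComb
  Cfsg.Agent.Nodes.Bruhat Cfsg.Agent.Nodes.OppDec Cfsg.Agent.Nodes.LeviDec Cfsg.Agent.KFacts.RgdOpp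
  Cfsg.Agent.Omega.CR Cfsg.Agent.Omega.FOne.Lift.Sd Cfsg.Agent.H905.Md Cfsg.Agent.H650.Ppd
open Cfsg.Lie Cfsg.Agent.ChevalleyStructure Cfsg.Agent.ChevalleyStructure.CoxeterGeomTypes
open Cfsg.Agent.Nodes.RGDTwD4 (isCartan)
open Cfsg.Agent.Nodes.RGDFoldSL (Fx mem_Fx)

universe u

section count

variable {W Y : Type*} [Group W] [Group Y] {cs : CoxeterSystem CoxeterMatrix.G₂ W} {p : ℕ} {T : Subgroup Y}
  {n : Fin 2 → Y} {X : (Fin 2 → ℤ) → Subgroup Y} {k V : Type*} [Field k] [AddCommGroup V] [Module k V]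
  (R : RGD cs isCartan p T n X) [Finite Y] [Finite W] [Fact p.Prime] [CharP k p] {ρ : Y →* Module.End k V}
  [FiniteDimensional k V] [Nontrivial V]
  (hirr : ∀ L : Submodule k V, Ivt ρ (GG cs isCartan T X) L → L = ⊥ ∨ L = ⊤)
include R hirr

theorem ge_one {i : Fin 2} (hi : i ∉ Jx cs isCartan X ρ) :
    6 * Module.finrank k (D cs isCartan X ρ) + 6 * Module.finrank k (Io cs isCartan T X ρ i) ≤
      Module.finrank k V := by
  fin_cases i
  · exact dim_ge_list R hirr hi [[], [0], [0, 1], [0, 1, 0], [0, 1, 0, 1], [0, 1, 0, 1, 0]]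
      [[], [1], [1, 0], [1, 0, 1], [1, 0, 1, 0], [1, 0, 1, 0, 1]] (by decide +kernel) (by decide +kernel)
  · exact dim_ge_list R hirr hi [[], [1], [1, 0], [1, 0, 1], [1, 0, 1, 0], [1, 0, 1, 0, 1]]
      [[], [0], [0, 1], [0, 1, 0], [0, 1, 0, 1], [0, 1, 0, 1, 0]] (by decide +kernel) (by decide +kernel)

end count

/-! ### the fields -/

section fields

variable {K : Type} [Field K] [Fintype K] {q : ℕ} {φ : K →+* K}

theorem card_Fx3 (hK : Fintype.card K = q ^ 3) (hφ : ∀ x, φ x = x ^ q) : Nat.card (Fx φ 3) = q ^ 3 := by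
  have h1 : Fx φ 3 = ⊤ := by
    rw [eq_top_iff]
    intro x _
    rw [mem_Fx]
    exact Cfsg.Agent.H249.PPTwD4.phi3 hK hφ x
  rw [h1, ← hK, ← Nat.card_eq_fintype_card]
  exact Nat.card_congr Subfield.topEquiv.toEquiv

theorem card_Fx1 (hq : 1 < q) (hK : Fintype.card K = q ^ 3) (hφ : ∀ x, φ x = x ^ q) : Nat.card (Fx φ 1) = q := by
  have h1 := FixedCard.card_fixed (K := K) hq hK
  rw [← h1]
  refine Nat.card_congr (Equiv.subtypeEquivRight fun x => ?_)
  rw [mem_Fx, Function.iterate_one, hφ]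

/-- `t ^ |K| = t` on the torus -/
theorem T_pow (t : ↥(twistedD4 K q)) (ht : t ∈ Nodes.RGDTwD4.T K q) : t ^ Fintype.card K = t := by
  have ht' : (t : GL chevD4.Idx K) ∈ chevD4.diagonalSubgroup K := (Subgroup.mem_subgroupOf.1 ht).1
  obtain ⟨χ, h1⟩ := ChevalleyStructure.HMatDiagAll.mem_torus.1
    (ChevalleyStructure.HMatDiagAll.diagonalSubgroup_le_torus Nodes.RGDTwD4.hp.inList ht')
  apply Subtype.ext
  apply Units.ext
  rw [Subgroup.coe_pow, Units.val_pow_eq_pow_val, h1, Matrix.diagonal_pow]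
  congr 1
  funext i
  rw [Pi.pow_apply, FiniteField.pow_card]

end fields

/-! ### numbers -/

theorem geom_split (Q j : ℕ) : (1 + Q ^ j + (Q ^ j) ^ 2) * ∑ l ∈ Finset.range j, Q ^ l =
    ∑ l ∈ Finset.range (3 * j), Q ^ l := by
  have h1 : 3 * j = j + (j + j) := by ring
  rw [h1, Finset.sum_range_add, Finset.sum_range_add]
  simp only [pow_add, ← Finset.mul_sum]
  ring

theorem geom_bd {Q j r : ℕ} (hQ : 1 ≤ Q) (hr : r < Q) : r * ∑ l ∈ Finset.range j, Q ^ l ≤ Q ^ j - 1 := by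
  have h1 : (∑ l ∈ Finset.range j, Q ^ l) * (Q - 1) + 1 = Q ^ j := by
    induction j with
    | zero => simp
    | succ j ih =>
      rw [Finset.sum_range_succ, add_mul, pow_succ]
      obtain ⟨Q', rfl⟩ : ∃ Q', Q = Q' + 1 := ⟨Q - 1, by omega⟩
      rw [Nat.add_sub_cancel] at ih ⊢
      nlinarith
  have h2 : r * ∑ l ∈ Finset.range j, Q ^ l ≤ (Q - 1) * ∑ l ∈ Finset.range j, Q ^ l :=
    Nat.mul_le_mul_right _ (by omega)
  rw [mul_comm (Q - 1)] at h2
  omega

/-! ### linear groups -/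

section main

/-- the Coxeter system -/
local notation "cs4" => CoxeterMatrix.toCoxeterSystem CoxeterMatrix.G₂

variable {F : Type u} [Field F] [Finite F] {ι : Type} [Fintype ι] [DecidableEq ι] [Nonempty ι]
  {P : Subgroup (Matrix.GeneralLinearGroup ι F)}
  (p : ℕ) [hp : Fact p.Prime] [CharP F p] {K : Type} [Field K] [Fintype K] [CharP K p] {q : ℕ} {φ : K →+* K}
  (hK : Fintype.card K = q ^ 3) (hφ : ∀ x, φ x = x ^ q)
  {θ : ↥(twistedD4 K q) →* Matrix.GeneralLinearGroup ι F} (hθ : θ.range = P)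
  (hP : ActsAbsolutelyIrreducibly (matrixSet P))

/-- the root groups -/
local notation "Jn" => Jx cs4 isCartan (Nodes.RGDTwD4.X φ q) (lin (acRep θ))

include hK hφ in
theorem GG4 : GG cs4 isCartan (Nodes.RGDTwD4.T K q) (Nodes.RGDTwD4.X φ q) = ⊤ :=
  KFacts.RgdRigid.GG_eq_top (Nodes.RGDTwD4.G1_eq_top cs4 hK hφ)

include p hK hφ hθ hP

theorem exists_node (h2 : 2 ≤ Fintype.card ι) : (1 : Fin 2) ∉ Jn ∨ ((1 : Fin 2) ∈ Jn ∧ (0 : Fin 2) ∉ Jn) := by
  have : Finite CoxeterMatrix.G₂.Group := Cfsg.Agent.H249.PPTwD4.finiteW cs4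
  have hchar : CharP (AlgebraicClosure F) p := charP_of_injective_algebraMap (algebraMap F _).injective p
  have hirr := ac_irr (Nodes.RGDTwD4.rgd cs4 hK hφ p) (GG4 hK hφ) Cfsg.Agent.H249.PPTwD4.T_comm hθ hP
  have hD := finrank_D (Nodes.RGDTwD4.rgd cs4 hK hφ p) hirr Cfsg.Agent.H249.PPTwD4.T_comm
  obtain ⟨i, hi⟩ := exists_not_mem (Nodes.RGDTwD4.rgd cs4 hK hφ p) hirr (by
    rw [hD, Module.finrank_fintype_fun_eq_card]; omega)
  by_cases h1 : (1 : Fin 2) ∈ Jn
  · right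
    refine ⟨h1, ?_⟩
    fin_cases i
    · exact hi
    · exact absurd h1 hi
  · exact Or.inl h1

/-- a bound from an edge -/
theorem edge_ge {i : Fin 2} (hi : i ∉ Jn) {d : ℕ}
    (hd : d ≤ Module.finrank (AlgebraicClosure F) (Le cs4 isCartan (Nodes.RGDTwD4.T K q) (Nodes.RGDTwD4.X φ q)
      (lin (acRep θ)) {i})) : 6 * d ≤ Fintype.card ι + 6 := by
  have : Finite CoxeterMatrix.G₂.Group := Cfsg.Agent.H249.PPTwD4.finiteW cs4
  have hchar : CharP (AlgebraicClosure F) p := charP_of_injective_algebraMap (algebraMap F _).injective p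
  have hirr := ac_irr (Nodes.RGDTwD4.rgd cs4 hK hφ p) (GG4 hK hφ) Cfsg.Agent.H249.PPTwD4.T_comm hθ hP
  have hD := finrank_D (Nodes.RGDTwD4.rgd cs4 hK hφ p) hirr Cfsg.Agent.H249.PPTwD4.T_comm
  have h3 := ge_one (Nodes.RGDTwD4.rgd cs4 hK hφ p) hirr hi
  have h4 := finrank_Io (Nodes.RGDTwD4.rgd cs4 hK hφ p) hirr i
  rw [hD, Module.finrank_fintype_fun_eq_card] at h3
  rw [hD] at h4
  omega

/-- the short node -/
theorem short_ge (hi : (1 : Fin 2) ∉ Jn) {a f s : ℕ} (hF : Nat.card F = p ^ a) (hE : q ^ 3 = p ^ f)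
    (hs : s * Nat.gcd a f = f) : 6 * 2 ^ s ≤ Fintype.card ι + 6 := by
  have : Finite CoxeterMatrix.G₂.Group := Cfsg.Agent.H249.PPTwD4.finiteW cs4
  have := Fintype.ofFinite (Fx φ 3)
  obtain ⟨m, hm, h5⟩ := edge_pow (Nodes.RGDTwD4.rgd cs4 hK hφ p) (GG4 hK hφ) Cfsg.Agent.H249.PPTwD4.T_comm hθ hP
    (nd_ss hK hφ cs4 p) hi hF (by rw [card_Fx3 hK hφ]; exact hE) hs
  refine edge_ge p hK hφ hθ hP hi ?_
  rw [h5]
  exact Nat.pow_le_pow_left hm s

/-- the long node -/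
theorem long_ge (hq : 1 < q) (hi : (0 : Fin 2) ∉ Jn) {a f s : ℕ} (hF : Nat.card F = p ^ a) (hE : q = p ^ f)
    (hs : s * Nat.gcd a f = f) : 6 * 2 ^ s ≤ Fintype.card ι + 6 := by
  have : Finite CoxeterMatrix.G₂.Group := Cfsg.Agent.H249.PPTwD4.finiteW cs4
  have := Fintype.ofFinite (Fx φ 1)
  obtain ⟨m, hm, h5⟩ := edge_pow (Nodes.RGDTwD4.rgd cs4 hK hφ p) (GG4 hK hφ) Cfsg.Agent.H249.PPTwD4.T_comm hθ hP
    (nd_sl hK hφ cs4 p) hi hF (by rw [card_Fx1 hq hK hφ]; exact hE) hs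
  refine edge_ge p hK hφ hθ hP hi ?_
  rw [h5]
  exact Nat.pow_le_pow_left hm s

/-- the long node alone -/
theorem long_ge' (hq : 1 < q) (h1 : (1 : Fin 2) ∈ Jn) (h0 : (0 : Fin 2) ∉ Jn) {a j : ℕ} (ha : a ≠ 0) (hj : j ≠ 0)
    (hF : Nat.card F = p ^ a) (hE : q = p ^ (a * j)) :
    8 ^ j ≤ Fintype.card ι ∧ (j = 1 → 3 ≤ Nat.card F → 24 ≤ Fintype.card ι) := by
  have : Finite CoxeterMatrix.G₂.Group := Cfsg.Agent.H249.PPTwD4.finiteW cs4
  have i1 := Fintype.ofFinite (Fx φ 1)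
  have i3 := Fintype.ofFinite (Fx φ 3)
  have c1 : Fintype.card (Fx φ 1) = q := by rw [← Nat.card_eq_fintype_card]; exact card_Fx1 hq hK hφ
  have c3 : Fintype.card (Fx φ 3) = q ^ 3 := by rw [← Nat.card_eq_fintype_card]; exact card_Fx3 hK hφ
  have hchar : CharP (AlgebraicClosure F) p := charP_of_injective_algebraMap (algebraMap F _).injective p
  have R := Nodes.RGDTwD4.rgd (K := K) cs4 hK hφ p
  have H := hx_d4 hK hφ cs4 p
  have hirr := ac_irr R (GG4 hK hφ) Cfsg.Agent.H249.PPTwD4.T_comm hθ hP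
  have hfin : Module.finrank (AlgebraicClosure F) (ι → AlgebraicClosure F) = Fintype.card ι :=
    Module.finrank_fintype_fun_eq_card _
  obtain ⟨c, hc, hc0, χ, hχ⟩ := exists_chi R hirr Cfsg.Agent.H249.PPTwD4.T_comm
  obtain ⟨ι₀⟩ := Cfsg.Agent.H875.Psl2.exists_emb F (Fx φ 3) p
  have hgcd : Nat.gcd a (a * j) = a := Nat.gcd_eq_left (Dvd.intro j rfl)
  obtain ⟨r₀, hr0, hrlt, hr, -⟩ := edge_data R (GG4 hK hφ) Cfsg.Agent.H249.PPTwD4.T_comm hθ hP
    (nd_sl hK hφ cs4 p) h0 hF (by rw [card_Fx1 hq hK hφ]; exact hE) (s := j) (by rw [hgcd, mul_comm])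
    (ι₀.comp (incl φ)) hc hc0 hχ
  rw [hgcd] at hrlt hr
  obtain ⟨φ₀, hφ₀, hne⟩ := exists_pair_D R hirr hc hc0
  have hQ1 : 1 ≤ p ^ a := Nat.one_le_pow _ _ hp.out.pos
  have hqj : q = (p ^ a) ^ j := by rw [hE, pow_mul]
  set b : ℕ := r₀ * ∑ l ∈ Finset.range j, (p ^ a) ^ l with hb
  set cS : ℕ := r₀ * ∑ l ∈ Finset.range (3 * j), (p ^ a) ^ l with hcS
  have hbc : cS = (1 + q + q ^ 2) * b := by
    rw [hcS, hb, ← geom_split, hqj]
    ring
  have htor0 : ∀ t : (Fx φ 1)ˣ, lin (acRep θ) (sl hK hφ (hh t)) c = ι₀ (incl φ (t : Fx φ 1)) ^ b • c := fun t => by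
    rw [hχ _ ((nd_sl hK hφ cs4 p).tor t), hr t]
    rfl
  have h3 : IsOcc (lin (acRep θ)) (ss hK hφ) (sl hK hφ) (incl φ) ι₀ c 0 (b : ℤ) :=
    ⟨fun t => by rw [fix_J H.Ns h1 hc, zpow_zero, one_smul], fun t => by rw [htor0, zpow_natCast]⟩
  have h4 := h3.refl_l H.two
  have hcS1 : 1 ≤ cS := by
    rw [hbc]
    have hb1 : b ≠ 0 := by
      rw [hb]
      refine Nat.mul_ne_zero hr0 ?_
      have h5 : 1 ≤ ∑ l ∈ Finset.range j, (p ^ a) ^ l := by
        rw [← pow_zero (p ^ a)]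
        exact Finset.single_le_sum (f := fun l => (p ^ a) ^ l) (fun _ _ => Nat.zero_le _)
          (Finset.mem_range.2 (Nat.pos_of_ne_zero hj))
      omega
    exact Nat.one_le_iff_ne_zero.2 (Nat.mul_ne_zero (by omega) hb1)
  have hcS2 : cS ≤ Fintype.card (Fx φ 3) - 1 := by
    rw [c3, hqj, ← pow_mul, mul_comm j 3]
    exact geom_bd hQ1 hrlt
  have S := H.str_sl hirr hc hφ₀ hne h0 ι₀ hcS1 hcS2 (fun t => by
    rw [h4.1 t]
    congr 1
    rw [← zpow_natCast, hbc]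
    congr 1
    push_cast
    ring)
  have h5 := S.dim_le p
  rw [card_SS_geom hrlt, hfin] at h5
  have h6 := two_le_card_SS (p := p) hr0
  refine ⟨?_, ?_⟩
  · have h7 := Nat.pow_le_pow_left h6 (3 * j)
    rw [pow_mul] at h7
    exact h7.trans h5
  · rintro rfl hF3
    rcases h6.eq_or_lt with h7 | h7
    · obtain ⟨e, he⟩ := Cfsg.Agent.H875.Psl2.eq_pow_of_card_two p h7.symm
      rw [pow_one] at hqj
      rw [← hfin]
      have H' : Hx R 1 0 (ss hK hφ) (sl hK hφ) (incl φ) (nrm φ) (1 + p ^ a + (p ^ a) ^ 2) := by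
        rw [← hqj]; exact H
      refine long24_d4 H' hirr hc hφ₀ hne ((iterateFrobenius (AlgebraicClosure F) p e).comp ι₀) ha (by rw [c3, hqj])
        (by rw [c1, hqj]) (by rw [← hF]; exact hF3) h1 h0 (fun t => ?_)
      rw [htor0, hb, Finset.sum_range_one, pow_zero, mul_one, he, RingHom.comp_apply, iterateFrobenius_def]
    · have h8 : 3 ^ 3 ≤ _ := Nat.pow_le_pow_left h7 (3 * 1)
      omega

end main

/-! ### the row -/

section row

open Cfsg.Agent.H915.LD Cfsg.Agent.H2.Rb.C100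

variable {n k m : ℕ} {F : Type u} [Field F] [Finite F] {P : Subgroup (Matrix.GeneralLinearGroup (Fin n) F)}

/-- `k ∣ 4 j` -/
theorem dvd_of_prime {q n k m : ℕ} (h : Num q n k m) {r : ℕ} (hr : r.Prime) (hrm : r ∣ m) {j Q : ℕ}
    (hQ : q ^ j = Q ^ 3) (hd : r ∣ Q ^ 12 * (Q ^ 2 - 1) * (Q ^ 6 - 1) * (Q ^ 8 + Q ^ 4 + 1)) : k ∣ 4 * j := by
  have : Fact r.Prime := ⟨hr⟩
  rw [← h.pow_eq_one_iff hr hrm]
  have hq := h.one_lt_q
  have hrQ : ¬ r ∣ Q := fun h1 => by
    have h2 : r ∣ q ^ j := by rw [hQ]; exact dvd_pow h1 (by norm_num)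
    exact h.not_dvd_q hr hrm (hr.dvd_of_dvd_pow h2)
  have hQ0 : 0 < Q := Nat.pos_of_ne_zero fun h0 => hrQ (h0 ▸ dvd_zero r)
  have hmain : (Q : ZMod r) ^ 12 = 1 := by
    have key : ∀ i : ℕ, r ∣ Q ^ i - 1 → (Q : ZMod r) ^ i = 1 := by
      intro i hi
      have h2 : 1 ≤ Q ^ i := Nat.one_le_pow _ _ hQ0
      rwa [← ZMod.natCast_eq_zero_iff, Nat.cast_sub h2, Nat.cast_pow, Nat.cast_one, sub_eq_zero] at hi
    rcases (Nat.Prime.dvd_mul hr).1 hd with h2 | h2
    · rcases (Nat.Prime.dvd_mul hr).1 h2 with h3 | h3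
      · rcases (Nat.Prime.dvd_mul hr).1 h3 with h4 | h4
        · exact absurd (hr.dvd_of_dvd_pow h4) hrQ
        · have := key 2 h4
          rw [show 12 = 2 * 6 from rfl, pow_mul, this, one_pow]
      · have := key 6 h3
        rw [show 12 = 6 * 2 from rfl, pow_mul, this, one_pow]
    · rw [← ZMod.natCast_eq_zero_iff] at h2
      push_cast at h2
      linear_combination ((Q : ZMod r) ^ 4 - 1) * h2
  have h3 : (q : ZMod r) ^ (4 * j) = (Q : ZMod r) ^ 12 := by
    rw [mul_comm 4 j, pow_mul]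
    have h4 : ((q : ZMod r)) ^ j = (Q : ZMod r) ^ 3 := by
      rw [← Nat.cast_pow, hQ, Nat.cast_pow]
    rw [h4, ← pow_mul]
  rw [h3, hmain]

/-- `q = 2`, `k = 6` -/
theorem kill_six {n m : ℕ} (h : Num 2 n 6 m) : False := by
  have h1 := h.dvd
  have h2 := h.cop 2 (by norm_num) (by norm_num)
  have h3 := h.cop 3 (by norm_num) (by norm_num)
  have h4 : m ∣ 3 * (3 * 7) := by
    norm_num at h1 ⊢
    exact h1
  have h5 : Nat.Coprime m 3 := by norm_num at h2; exact h2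
  have h6 : Nat.Coprime m 7 := by norm_num at h3; exact h3
  have h7 := (Nat.Coprime.mul_right h5 (Nat.Coprime.mul_right h5 h6)).eq_one_of_dvd h4
  have h8 := h.one_lt_m
  omega

theorem pow8 (j : ℕ) (hj : 2 ≤ j) : 24 * j ≤ 8 ^ j := by
  induction j, hj using Nat.le_induction with
  | base => norm_num
  | succ j hj ih => rw [pow_succ]; omega

theorem pow2 (j : ℕ) (hj : 2 ≤ j) : 8 * j + 6 ≤ 6 * 2 ^ j := by
  induction j, hj using Nat.le_induction with
  | base => norm_num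
  | succ j hj ih => rw [pow_succ]; omega

theorem pow86 (j : ℕ) (hj : 1 ≤ j) : 24 * j + 6 ≤ 6 * 8 ^ j := by
  induction j, hj using Nat.le_induction with
  | base => norm_num
  | succ j hj ih => rw [pow_succ]; omega

/-- the row `³D₄` : only `³D₄(2)` over the field with two elements -/
theorem not_3d4 (h : Row k m P) (hg : ∃ r, r.Prime ∧ r ∣ m ∧ r ∣ Nat.card (Soc P)) {p : ℕ} [hp : Fact p.Prime]
    [CharP F p] {K : Type} [Field K] [Fintype K] [CharP K p] {q₀ : ℕ} (hq : IsPrimePow q₀)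
    (hK : Fintype.card K = q₀ ^ 3) (e : Soc P ≃* Lie.twistedD4 K q₀) : 12 ≤ n ∧ q₀ = 2 := by
  have hC := h.core
  have hn10 := h.num.ten
  have hnlt := h.num.nlt
  obtain ⟨f⟩ := Cfsg.Agent.H48.DsChev.d4_equiv hC hq hK e
  obtain ⟨φ, hφ⟩ := D4Fixed.exists_frob hq hK
  have hq1 : 1 < q₀ := hq.one_lt
  obtain ⟨aK, -, haK⟩ := FiniteField.card K p
  have hne : Nonempty (Fin n) := hC.nonempty
  have h2 : 2 ≤ Fintype.card (Fin n) := by rw [Fintype.card_fin]; omega
  have hθ : (P.subtype.comp f.symm.toMonoidHom).range = P := by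
    rw [MonoidHom.range_comp, MonoidHom.range_eq_top.2 f.symm.surjective, ← MonoidHom.range_eq_map,
      Subgroup.range_subtype]
  have : Finite CoxeterMatrix.G₂.Group := Cfsg.Agent.H249.PPTwD4.finiteW CoxeterMatrix.G₂.toCoxeterSystem
  obtain ⟨j, hj1, hj⟩ := card_pow_eq p aK.ne_zero (fun x => pow_eq_of_no_subfield hC.absIrred hC.no_subfield p aK
    (fun g hg => trace_pow (Nodes.RGDTwD4.rgd CoxeterMatrix.G₂.toCoxeterSystem hK hφ p) (GG4 hK hφ)
      Cfsg.Agent.H249.PPTwD4.T_comm hθ hC.absIrred (fun t ht => by rw [← haK]; exact T_pow t ht) hg) x)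
  have hjq : Nat.card F ^ j = q₀ ^ 3 := by rw [hj, ← haK, hK]
  obtain ⟨r, hr, hrm, hrd⟩ := hg
  rw [Nat.card_congr e.toEquiv, Cfsg.Agent.S1067.result hq hK] at hrd
  have hk := dvd_of_prime h.num hr hrm hjq hrd
  have hk' := Nat.le_of_dvd (by omega) hk
  obtain ⟨a, ha0, ha⟩ : ∃ a : ℕ, a ≠ 0 ∧ Nat.card F = p ^ a := by
    have := Fintype.ofFinite F
    obtain ⟨a, -, ha⟩ := FiniteField.card F p
    exact ⟨a, a.ne_zero, by rw [Nat.card_eq_fintype_card, ha]⟩
  obtain ⟨g, -, hgq⟩ := (Nat.dvd_prime_pow hp.out).1 (show q₀ ∣ p ^ (aK : ℕ) by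
    rw [← haK, hK]; exact dvd_pow_self q₀ (by norm_num))
  have hag : a * j = 3 * g := by
    have h3 : p ^ (a * j) = p ^ (3 * g) := by
      rw [pow_mul, ← ha, hjq, hgq, ← pow_mul, mul_comm]
    exact Nat.pow_right_injective hp.out.two_le h3
  have hnode := exists_node p hK hφ hθ hC.absIrred h2
  by_cases h3 : 3 ∣ j
  · obtain ⟨j', rfl⟩ := h3
    have hj' : 1 ≤ j' := by omega
    have hg' : g = a * j' := by
      have : a * (3 * j') = 3 * (a * j') := by ring
      omega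
    rcases hnode with h1 | ⟨h1, h0⟩
    · exfalso
      have h4 := short_ge p hK hφ hθ hC.absIrred h1 ha (f := a * (3 * j')) (by rw [hag, hgq, ← pow_mul, mul_comm])
        (s := 3 * j') (by rw [Nat.gcd_eq_left (Dvd.intro (3 * j') rfl), mul_comm])
      rw [Fintype.card_fin, pow_mul] at h4
      have h5 := pow86 j' hj'
      norm_num at h4
      omega
    · obtain ⟨h4, h5⟩ := long_ge' p hK hφ hθ hC.absIrred hq1 h1 h0 ha0 (j := j') (by omega) ha (by rw [hgq, hg'])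
      rw [Fintype.card_fin] at h4 h5
      rcases hj'.eq_or_lt with h6 | h6
      · rcases (show Nat.card F = 2 ∨ 3 ≤ Nat.card F by have := h.num.one_lt_q; omega) with h7 | h7
        · rw [← h6] at hk hk'
          have h8 : k = 6 ∨ k = 12 := by
            have h9 := h.num.six_le
            obtain ⟨x, hx⟩ := hk
            have hx2 : x = 1 ∨ x = 2 := by
              rcases Nat.lt_or_ge x 3 with h10 | h10
              · interval_cases x
                · omega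
                · exact Or.inl rfl
                · exact Or.inr rfl
              · have h11 : k * 3 ≤ k * x := Nat.mul_le_mul_left k h10
                omega
            rcases hx2 with rfl | rfl
            · right; omega
            · left; omega
          rcases h8 with rfl | h8
          · have h9 := h.num
            rw [h7] at h9
            exact (kill_six h9).elim
          · have h9 := h.num.kle
            refine ⟨by omega, ?_⟩
            rw [h7, ← h6, mul_one] at hjq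
            exact (Nat.pow_left_injective (by norm_num : (3 : ℕ) ≠ 0) hjq).symm
        · have h8 := h5 h6.symm h7
          omega
      · have h7 := pow8 j' h6
        omega
  · exfalso
    have h4 : 3 ∣ a := by
      have h5 : 3 ∣ a * j := ⟨g, hag⟩
      exact (Nat.prime_three.dvd_mul.1 h5).resolve_right h3
    obtain ⟨a', rfl⟩ := h4
    have hg' : g = a' * j := by
      have : 3 * a' * j = 3 * (a' * j) := by ring
      omega
    have hj2 : 2 ≤ j := by
      by_contra hcon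
      have : j = 1 := by omega
      subst this
      omega
    have h5 : 6 * 2 ^ j ≤ Fintype.card (Fin n) + 6 := by
      rcases hnode with h1 | ⟨-, h0⟩
      · exact short_ge p hK hφ hθ hC.absIrred h1 ha (f := 3 * a' * j) (by rw [hag, hgq, ← pow_mul, mul_comm])
          (s := j) (by rw [Nat.gcd_eq_left (Dvd.intro j rfl), mul_comm])
      · refine long_ge p hK hφ hθ hC.absIrred hq1 h0 ha (f := a' * j) (by rw [hgq, hg']) (s := j) ?_
        have h6 : Nat.gcd (3 * a') (a' * j) = a' := by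
          rw [mul_comm 3 a', Nat.gcd_mul_left, show Nat.gcd 3 j = 1 from (Nat.Prime.coprime_iff_not_dvd Nat.prime_three).2 h3, mul_one]
        rw [h6, mul_comm]
    rw [Fintype.card_fin] at h5
    have h6 := pow2 j hj2
    omega

end row

end Cfsg.Agent.H2.Rb.C744D
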