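import Cfsg.Agent.H915.LD
import Cfsg.Agent.H912.KnownSplit
import Cfsg.Agent.H203.LSDef

/-!
# S3691, small primitive primes (S): interface (adapted by helper2 from helper100's interface of S5948)

Subgroups of `GL_n(q)`, `10 ≤ n ≤ 39`, containing an element of prime order `m ∈ {k + 1, 2 k + 1}`, `m` a primitive prime
divisor of `q ^ k - 1`, `n < 2 k`.

* `Num q n k m` : the numbers. Every prime `r ∣ m` has `k ∣ r - 1`, `k + 1 ≤ r`, `n + 3 ≤ 2 r`, `7 ≤ r`.
* `Row k m P` : `P ≤ GL_n(F)` is a core (perfect, simple modulo scalars, absolutely irreducible, over no proper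
  subfield) normalised by an element of order `m`.
* `Nat' P` : the outcome: `P` contains `SL_n`, or all isometries of a symplectic form, or the isometries of
  determinant one of a unitary form, or `Ω` of a quadratic form.
* `Row.exists_aut`, `Row.dvd_card` : `Aut (Soc P)` has an element of order `m`.
* `Num.kill`, `Row.kill` : the numeric criterion for a contradiction.
* `Row.le_of_ls`, `Row.le_of_bd` : lower bounds for `n`.
-/

set_option autoImplicit false
set_option linter.unusedSectionVars false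

namespace Cfsg.Agent.H2.Rb.C100

open Cfsg Cfsg.Geo Matrix
open Cfsg.Agent.H915.LD

universe u v w

/-- The numbers. -/
structure Num (q n k m : ℕ) : Prop where
  ten : 10 ≤ n
  kle : k ≤ n
  nlt : n < 2 * k
  prime : m.Prime
  mle : m ≤ 2 * k + 1
  le39 : n ≤ 39
  bad : q = 2 ∨ (q = 3 ∧ k = 18) ∨ (q = 4 ∧ k = 9) ∨ ((q = 3 ∨ q = 4 ∨ q = 5 ∨ q = 17) ∧ k = 6)
  dvd : m ∣ q ^ k - 1
  prim : ∀ q₀ j i : ℕ, 1 ≤ j → q₀ ^ j = q → 1 ≤ i → i < j * k → Nat.Coprime m (q₀ ^ i - 1)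

namespace Num

variable {q n k m : ℕ} (h : Num q n k m)
include h

theorem cop (i : ℕ) (h1 : 1 ≤ i) (hi : i < k) : Nat.Coprime m (q ^ i - 1) :=
  h.prim q 1 i le_rfl (pow_one q) h1 (by rwa [one_mul])

theorem six_le : 6 ≤ k := by
  have h1 := h.ten
  have h2 := h.nlt
  omega

theorem m_ne : m ≠ 0 := h.prime.ne_zero

theorem one_lt_m : 1 < m := h.prime.one_lt

theorem one_lt_q : 1 < q := by
  by_contra hq
  have h1 := h.dvd
  have h2 := h.six_le
  have h3 := h.cop 1 (le_refl 1) (by omega)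
  have h4 : q = 0 ∨ q = 1 := by omega
  rcases h4 with h4 | h4
  · subst h4
    rw [pow_one, Nat.zero_sub, Nat.coprime_zero_right] at h3
    have := h.one_lt_m
    omega
  · subst h4
    rw [pow_one, Nat.sub_self, Nat.coprime_zero_right] at h3
    have := h.one_lt_m
    omega

/-- primes dividing `m` have `q` of order exactly `k` -/
theorem pow_eq_one_iff {r : ℕ} (hr : r.Prime) (hrm : r ∣ m) (i : ℕ) : ((q : ZMod r)) ^ i = 1 ↔ k ∣ i := by
  have : Fact r.Prime := ⟨hr⟩
  have hq := h.one_lt_q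
  have key : ∀ i, ((q : ZMod r)) ^ i = 1 ↔ r ∣ q ^ i - 1 := by
    intro i
    have h1 : 1 ≤ q ^ i := Nat.one_le_pow _ _ (by omega)
    rw [← ZMod.natCast_eq_zero_iff, Nat.cast_sub h1, Nat.cast_pow, Nat.cast_one, sub_eq_zero]
  have hk : ((q : ZMod r)) ^ k = 1 := (key k).2 (hrm.trans h.dvd)
  constructor
  · intro hi
    have h1 : orderOf (q : ZMod r) ∣ k := orderOf_dvd_of_pow_eq_one hk
    have h2 : orderOf (q : ZMod r) ∣ i := orderOf_dvd_of_pow_eq_one hi
    have hk0 : 0 < k := by have := h.six_le; omega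
    have h3 : orderOf (q : ZMod r) = k := by
      by_contra hne
      have h4 : orderOf (q : ZMod r) ≤ k := Nat.le_of_dvd hk0 h1
      have h5 : 0 < orderOf (q : ZMod r) := Nat.pos_of_dvd_of_pos h1 hk0
      have h6 := h.cop _ h5 (lt_of_le_of_ne h4 hne)
      have h7 : r ∣ q ^ orderOf (q : ZMod r) - 1 := (key _).1 (pow_orderOf_eq_one _)
      have h8 := Nat.dvd_gcd hrm h7
      rw [Nat.Coprime] at h6
      rw [h6] at h8
      exact hr.one_lt.ne' (Nat.dvd_one.1 h8)
    rwa [h3] at h2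
  · rintro ⟨j, rfl⟩
    rw [pow_mul, hk, one_pow]

theorem not_dvd_q {r : ℕ} (hr : r.Prime) (hrm : r ∣ m) : ¬ r ∣ q := by
  intro hq
  have h1 := hrm.trans h.dvd
  have h2 : r ∣ q ^ k := dvd_pow hq (by have := h.six_le; omega)
  have h3 : 1 ≤ q ^ k := Nat.one_le_pow _ _ (by have := h.one_lt_q; omega)
  have h4 : r ∣ 1 := by
    have h5 := (Nat.dvd_sub h2 h1)
    have h6 : q ^ k - (q ^ k - 1) = 1 := by omega
    rwa [h6] at h5
  exact hr.one_lt.ne' (Nat.dvd_one.1 h4)

/-- `k ∣ r - 1` -/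
theorem dvd_sub_one {r : ℕ} (hr : r.Prime) (hrm : r ∣ m) : k ∣ r - 1 := by
  have : Fact r.Prime := ⟨hr⟩
  rw [← h.pow_eq_one_iff hr hrm]
  apply ZMod.pow_card_sub_one_eq_one
  intro h0
  rw [ZMod.natCast_eq_zero_iff] at h0
  exact h.not_dvd_q hr hrm h0

theorem succ_le {r : ℕ} (hr : r.Prime) (hrm : r ∣ m) : k + 1 ≤ r := by
  have h1 := Nat.le_of_dvd (by have := hr.one_lt; omega) (h.dvd_sub_one hr hrm)
  have := hr.one_lt
  omega

theorem le_two_mul {r : ℕ} (hr : r.Prime) (hrm : r ∣ m) : n + 3 ≤ 2 * r := by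
  have h1 := h.succ_le hr hrm
  have h2 := h.nlt
  omega

theorem seven_le {r : ℕ} (hr : r.Prime) (hrm : r ∣ m) : 7 ≤ r := by
  have h1 := h.succ_le hr hrm
  have h2 := h.six_le
  omega

theorem exists_prime : ∃ r, r.Prime ∧ r ∣ m := ⟨m, h.prime, dvd_rfl⟩

theorem eq_or : m = k + 1 ∨ m = 2 * k + 1 := by
  obtain ⟨c, hc⟩ := h.dvd_sub_one h.prime dvd_rfl
  have h1 := h.prime.one_lt
  have h2 := h.mle
  have h3 := h.six_le
  have h4 : c < 3 := by
    by_contra hcon
    have : k * 3 ≤ k * c := Nat.mul_le_mul_left k (by omega)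
    omega
  interval_cases c <;> omega

theorem coprime_q : Nat.Coprime m q := by
  rw [Nat.coprime_iff_gcd_eq_one]
  by_contra hne
  obtain ⟨r, hr, hrd⟩ := Nat.exists_prime_and_dvd hne
  exact h.not_dvd_q hr (hrd.trans (Nat.gcd_dvd_left _ _)) (hrd.trans (Nat.gcd_dvd_right _ _))

end Num

variable {n : ℕ} {F : Type u} [Field F] [Finite F] {k m : ℕ} {P : Subgroup (GL (Fin n) F)}

/-- **A row.** -/
structure Row (k m : ℕ) (P : Subgroup (GL (Fin n) F)) : Prop where
  core : Core P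
  num : Num (Nat.card F) n k m
  elt : ∃ g : GL (Fin n) F, orderOf g = m ∧ ∀ x ∈ P, g * x * g⁻¹ ∈ P

/-- **The outcome**: `P` is one of the classical groups of `F^n`. -/
def Nat' (P : Subgroup (GL (Fin n) F)) : Prop :=
  specialLinear (Fin n) F ≤ P ∨
  (∃ f : (Fin n → F) → (Fin n → F) → F, IsSymplecticForm f ∧
    ∀ x : GL (Fin n) F, FixesForm {(x : Matrix (Fin n) (Fin n) F)} f → x ∈ P) ∨
  (∃ (τ : F ≃+* F) (f : (Fin n → F) → (Fin n → F) → F), IsUnitaryForm τ f ∧
    ∀ x : GL (Fin n) F, FixesForm {(x : Matrix (Fin n) (Fin n) F)} f →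
      Matrix.GeneralLinearGroup.det x = 1 → x ∈ P) ∨
  (∃ Q : (Fin n → F) → F, IsNondegenerateQuadraticForm Q ∧ omegaGL Q ≤ P)

end Cfsg.Agent.H2.Rb.C100
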