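import Cfsg.Agent.H2.Rb.Inst

/-!
# S3691, plus type: the designated primes (helper2)

* `D1 F q m k l r i` : a primitive prime power `r ^ i` of `q ^ k - 1` for which the list lemmas in dimensions `2m - 2`, `2m - 1`,
  `2m` hold (together with an element of order `l`)
* `des_big` : from `Big`;  `des_even` : `m` even
-/

set_option autoImplicit false
set_option linter.unusedSectionVars false

namespace Cfsg.Agent.H2.Rb

open Module QuadraticMap Cfsg Cfsg.Geo Cfsg.Agent.LieClassical.OrthCore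
  Cfsg.Agent.H449.Reg Cfsg.Agent.H884.El Cfsg.Agent.H826.RgF Cfsg.Agent.H851.Rl

/-- the designated prime power `r ^ i` for `k` -/
structure D1 (F : Type) [Field F] (m k l r i : ℕ) : Prop where
  pp : PP (Nat.card F) k r
  hi : 1 ≤ i
  dvd : r ^ i ∣ Nat.card F ^ k - 1
  lo0 : LO F (2 * m) k (r ^ i) l
  lo1 : (2 : F) ≠ 0 → LO F (2 * m - 1) k (r ^ i) l
  lo2 : k ≤ 2 * m - 2 → (2 : F) = 0 → LO F (2 * m - 2) k (r ^ i) l
  lo2' : k + 2 ≤ 2 * m - 2 → LO F (2 * m - 2) k (r ^ i) l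
  ls2 : (2 : F) = 0 → LS F (2 * m - 2) k (r ^ i) l

theorem ppq {p f k t : ℕ} (hf : 1 ≤ f) (h : PP p (f * k) t) : PP (p ^ f) k t := by
  refine ⟨h.prime, ?_⟩
  push_cast
  rw [orderOf_pow_of_dvd (by omega) (by rw [h.ord]; exact Dvd.intro k rfl), h.ord]
  exact Nat.mul_div_cancel_left k hf

theorem ppq' {F : Type} [Field F] {p f k t : ℕ} (hf : 1 ≤ f) (hF : Nat.card F = p ^ f) (h : PP p (f * k) t) :
    PP (Nat.card F) k t := by
  rw [hF]
  exact ppq hf h

theorem des_big {F : Type} [Field F] [Fintype F] {p f m k r a : ℕ} (hP : H659.CovCore.S5948Stmt.{0}) (hF : Nat.card F = p ^ f)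
    (h : Big p f k r a) (hm : 6 ≤ m) (hk : k ≤ 2 * m - 2) (hkm : 2 * m < 2 * k) (l : ℕ) : D1 F m k l r a where
  pp := ppq' h.hf hF ⟨h.prime, h.ord⟩
  hi := by
    by_contra hcon
    have h0 : a = 0 := by omega
    have := h.big
    rw [h0, pow_zero] at this
    omega
  dvd := by rw [hF]; exact h.dvd
  lo0 := lo_big hP hF h (by omega) (by omega) (by omega)
  lo1 := fun _ => lo_big hP hF h (by omega) (by omega) (by omega)
  lo2 := fun _ _ => lo_big hP hF h (by omega) (by omega) (by omega)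
  lo2' := fun _ => lo_big hP hF h (by omega) (by omega) (by omega)
  ls2 := fun h2 => ls_big hP h2 hF h (by omega) (by omega) (by omega)

theorem exists_l {F : Type} [Field F] {p f c : ℕ} (hp : p.Prime) (hf : 1 ≤ f) (hF : Nat.card F = p ^ f) (hc : 5 ≤ c) (ho : Odd c) :
    ∃ l, PP (Nat.card F) c l := by
  have h5 : f * 5 ≤ f * c := Nat.mul_le_mul_left f hc
  obtain ⟨l, hl, h⟩ := Lib.Zsigmondy.exists_prime_orderOf (a := p) (n := f * c) hp.two_le (by omega) (by omega) (by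
    rintro ⟨-, h6⟩
    have h1 : f = 1 := by
      by_contra h1
      have := Nat.mul_le_mul (by omega : 2 ≤ f) hc
      omega
    rw [h1, one_mul] at h6
    rw [h6] at ho
    exact (by decide : ¬ Odd 6) ho)
  exact ⟨l, ppq' hf hF ⟨hl, h⟩⟩

theorem pp_two_12 : PP 2 12 13 := ⟨by norm_num, (orderOf_eq_iff (by norm_num)).2 ⟨by decide, by decide⟩⟩
theorem pp_two_7 : PP 2 7 127 := ⟨by norm_num, (orderOf_eq_iff (by norm_num)).2 ⟨by decide +kernel, by decide +kernel⟩⟩
theorem pp_two_18 : PP 2 18 19 := ⟨by norm_num, (orderOf_eq_iff (by norm_num)).2 ⟨by decide +kernel, by decide +kernel⟩⟩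
theorem pp_two_9 : PP 2 9 73 := ⟨by norm_num, (orderOf_eq_iff (by norm_num)).2 ⟨by decide +kernel, by decide +kernel⟩⟩
theorem pp_three_18 : PP 3 18 37 := ⟨by norm_num, (orderOf_eq_iff (by norm_num)).2 ⟨by decide +kernel, by decide +kernel⟩⟩
theorem pp_three_9 : PP 3 9 757 := ⟨by norm_num, (orderOf_eq_iff (by norm_num)).2 ⟨by decide +kernel, by decide +kernel⟩⟩
theorem pp_two_20 : PP 2 20 41 := ⟨by norm_num, (orderOf_eq_iff (by norm_num)).2 ⟨by decide +kernel, by decide +kernel⟩⟩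
theorem pp_two_11 : PP 2 11 89 := ⟨by norm_num, (orderOf_eq_iff (by norm_num)).2 ⟨by decide +kernel, by decide +kernel⟩⟩
theorem pp_three_11 : PP 3 11 3851 := ⟨by norm_num, (orderOf_eq_iff (by norm_num)).2 ⟨by decide +kernel, by decide +kernel⟩⟩

theorem des_ref_two {F : Type} [Field F] [Fintype F] {m k l r : ℕ}
    (hKS : ∀ (T : Type) [Group T] [Finite T] [IsSimpleGroup T], IsKnownSimple' T) (hF : Nat.card F = 2) (hpp : PP 2 k r)
    (h0 : (2, 2 * m, k, r, l) ∈ refList) (h2 : (2, 2 * m - 2, k, r, l) ∈ refList) : D1 F m k l r 1 := by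
  have h20 : (2 : F) = 0 := by
    have h1 := Nat.cast_card_eq_zero F
    rw [← Nat.card_eq_fintype_card, hF] at h1
    exact_mod_cast h1
  refine ⟨by rw [hF]; exact hpp, le_rfl, ?_, ?_, fun h => absurd h20 h, fun _ _ => ?_, fun _ => ?_, fun h => ?_⟩
  · rw [pow_one, hF]
    exact (hpp.dvd_iff (by norm_num) _).2 dvd_rfl
  · rw [pow_one]
    exact lo_ref hKS hF h0
  · rw [pow_one]
    exact lo_ref hKS hF h2
  · rw [pow_one]
    exact lo_ref hKS hF h2
  · rw [pow_one]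
    exact ls_ref hKS h hF h2

/-- **the designated primes**, `m` even -/
theorem des_even {F : Type} [Field F] [Fintype F] {p f m : ℕ} (hP : H659.CovCore.S5948Stmt.{0})
    (hKS : ∀ (T : Type) [Group T] [Finite T] [IsSimpleGroup T], IsKnownSimple' T) (hp : p.Prime) (hf : 1 ≤ f)
    (hF : Nat.card F = p ^ f) (hm : Even m) (hm6 : 6 ≤ m) (hS : m ≤ 7 → 2 < p ^ f) :
    ∃ l r2 i2 r4 i4, PP (Nat.card F) (m - 1) l ∧ D1 F m (2 * m - 2) l r2 i2 ∧ D1 F m (2 * m - 4) l r4 i4 := by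
  have hbig : ∀ k, 8 ≤ k → k ≤ 2 * m - 2 → 2 * m < 2 * k → (p, f, k) ∉ [(2, 1, 6), (2, 1, 8), (2, 1, 10), (2, 1, 12), (2, 1, 18),
      (2, 1, 20), (3, 1, 6), (3, 1, 18), (5, 1, 6), (17, 1, 6), (2, 2, 6), (2, 2, 9)] → ∃ r i, ∀ l, D1 F m k l r i := by
    intro k hk hk2 hk3 h
    obtain ⟨r, hr⟩ := H951.Rl.exists_big hp hf (by omega) h
    exact ⟨r, _, fun l => des_big hP hF hr hm6 hk2 hk3 l⟩
  obtain ⟨l0, hl0⟩ := exists_l (c := m - 1) hp hf hF (by omega) (by
    obtain ⟨a, ha⟩ := hm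
    exact ⟨a - 1, by omega⟩)
  have h7 : m ≤ 7 → ¬ (p = 2 ∧ f = 1) := by
    rintro h ⟨rfl, rfl⟩
    have := hS h
    norm_num at this
  by_cases e8 : m = 8 ∧ p = 2 ∧ f = 1
  · obtain ⟨rfl, rfl, rfl⟩ := e8
    obtain ⟨r, i, h⟩ := hbig 14 (by norm_num) (by norm_num) (by norm_num) (by decide)
    have hF' : Nat.card F = 2 := by rw [hF, pow_one]
    exact ⟨127, r, i, 13, 1, by rw [hF']; exact pp_two_7, h 127,
      des_ref_two hKS hF' pp_two_12 (by decide) (by decide)⟩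
  by_cases e12 : m = 12 ∧ p = 2 ∧ f = 1
  · obtain ⟨rfl, rfl, rfl⟩ := e12
    obtain ⟨r, i, h⟩ := hbig 22 (by norm_num) (by norm_num) (by norm_num) (by decide)
    have hF' : Nat.card F = 2 := by rw [hF, pow_one]
    exact ⟨89, r, i, 41, 1, by rw [hF']; exact pp_two_11, h 89,
      des_ref_two hKS hF' pp_two_20 (by decide) (by decide)⟩
  by_cases e10 : m = 10 ∧ p = 2 ∧ f = 1
  · obtain ⟨rfl, rfl, rfl⟩ := e10
    obtain ⟨r, i, h⟩ := hbig 16 (by norm_num) (by norm_num) (by norm_num) (by decide)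
    have hF' : Nat.card F = 2 := by rw [hF, pow_one]
    exact ⟨73, 19, 1, r, i, by rw [hF']; exact pp_two_9,
      des_ref_two hKS hF' pp_two_18 (by decide) (by decide), h 73⟩
  by_cases e10' : m = 10 ∧ p = 3 ∧ f = 1
  · obtain ⟨rfl, rfl, rfl⟩ := e10'
    obtain ⟨r, i, h⟩ := hbig 16 (by norm_num) (by norm_num) (by norm_num) (by decide)
    have hF' : Nat.card F = 3 := by rw [hF, pow_one]
    have h2 : (2 : F) ≠ 0 := by
      intro h0
      have h1 := Nat.cast_card_eq_zero F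
      rw [← Nat.card_eq_fintype_card, hF'] at h1
      have h3 : (1 : F) = ((3 : ℕ) : F) - 2 := by norm_num
      rw [h1, h0, sub_zero] at h3
      exact one_ne_zero h3
    refine ⟨757, 37, 1, r, i, by rw [hF']; exact pp_three_9, ⟨by rw [hF']; exact pp_three_18, le_rfl, ?_, ?_, fun _ => ?_,
      fun _ h => absurd h h2, fun h => absurd h (by norm_num), fun h => absurd h h2⟩, h 757⟩
    · rw [pow_one, hF']
      exact (pp_three_18.dvd_iff (by norm_num) _).2 dvd_rfl
    · rw [pow_one]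
      exact lo_ref hKS hF' (by decide)
    · rw [pow_one]
      exact lo_ref hKS hF' (by decide)
  obtain ⟨r2, i2, h2⟩ := hbig (2 * m - 2) (by omega) (by omega) (by omega) (by
    intro h
    obtain ⟨a, ha⟩ := hm
    simp only [List.mem_cons, Prod.mk.injEq, List.not_mem_nil, or_false] at h
    omega)
  obtain ⟨r4, i4, h4⟩ := hbig (2 * m - 4) (by omega) (by omega) (by omega) (by
    intro h
    obtain ⟨a, ha⟩ := hm
    simp only [List.mem_cons, Prod.mk.injEq, List.not_mem_nil, or_false] at h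
    omega)
  exact ⟨l0, r2, i2, r4, i4, hl0, h2 l0, h4 l0⟩

end Cfsg.Agent.H2.Rb
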