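import Cfsg.Agent.H2.Rb.Main

/-!
# S3691, piece (S): prime divisors of the orders of automorphism groups (helper2)

* `dvd_aut`, `dv_L`, `dv_S`, `dv_U`, ... : a prime `l ≥ 7` dividing `|Aut S|` divides `sz X q` (`q < 128`);
* `card_aut_L2` : `|Aut L_2(p)| = p (p ^ 2 - 1)`;
* `lines_kill` : an element of prime order `m > n`, `m` prime to `q - 1`, stabilises no decomposition into lines;
* `alt_kill`, `tits_kill`, `dvd_of_spor` : alternating groups, the Tits group, sporadic groups;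
* `card_dvd_of_row` : the order of a group normalising a core.
-/

set_option autoImplicit false
set_option exponentiation.threshold 2000

universe u v w

namespace Cfsg.Agent.H2.Rb.Cx

open Cfsg Cfsg.Geo Cfsg.Agent.H912.Bd Cfsg.Agent.H912.Five Cfsg.Agent.H915.LD Cfsg.Agent.OrdDiv Matrix
open Cfsg.Agent.H902 Cfsg.Agent.H902.Names Cfsg.Agent.H203.LS Cfsg.Agent.H936.List12
open Cfsg.Agent.H2.Rb.C100 Cfsg.Agent.NotCT

section aut

variable {S : Type v} [Group S] [Finite S] [IsSimpleGroup S]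

theorem dvd_aut (hna : ¬ IsMulCommutative S) {g : Grp} {X : Art.Sh} {p f : ℕ} (hg : IsLie g X p f)
    (h : OrdDiv.Real g S) (hr : Art.Real X p f (Nat.card S)) {q : ℕ} (hq : p ^ f = q) (hlt : q < 128)
    {l : ℕ} (hl : l.Prime) (h7 : 7 ≤ l) (hd : l ∣ Nat.card (MulAut S)) : l ∣ sz X q := by
  subst hq
  obtain ⟨c, h1, h2, -⟩ := H364.OutLie.card_out (fun hc => hna ⟨⟨hc⟩⟩) hg h hr
  rw [← H934.OutB.card_out_mul S hna, h1] at hd
  have hf := f_le hr.hp hlt
  unfold sz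
  rw [← hr.eq]
  rcases (Nat.Prime.dvd_mul hl).1 hd with h3 | h3
  · rcases (Nat.Prime.dvd_mul hl).1 h3 with h4 | h4
    · rcases (Nat.Prime.dvd_mul hl).1 (h4.trans h2) with h5 | h5
      · exfalso
        have h6 : l ∣ 2 ^ 3 * 3 := h5
        rcases (Nat.Prime.dvd_mul hl).1 h6 with h7' | h7'
        · have := Nat.le_of_dvd (by norm_num) (hl.dvd_of_dvd_pow h7')
          omega
        · have := Nat.le_of_dvd (by norm_num) h7'
          omega
      · exact h5.mul_right _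
    · exfalso
      have := Nat.le_of_dvd hr.hf h4
      omega
  · exact h3.mul_left _

variable {l : ℕ} (hl : l.Prime) (h7 : 7 ≤ l) (hd : l ∣ Nat.card (MulAut S))
include hl h7 hd

theorem dv_L (hna : ¬ IsMulCommutative S) {n q : ℕ} (hn : 2 ≤ n) (hn2 : n = 2 → 4 ≤ q) (hlt : q < 128)
    (h : IsL n q S) : l ∣ sz (.L n) q := by
  obtain ⟨K, iK, iKf, hK, ⟨e⟩⟩ := h
  obtain ⟨p, f, hp, hf, hq⟩ := card_pow K
  rw [hK] at hq
  subst hq
  refine dvd_aut hna (.psl n p f) ⟨K, iK, iKf, hK, ⟨e⟩⟩ ?_ rfl hlt hl h7 hd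
  rw [Nat.card_congr e.toEquiv]
  exact psl_real hp hf hK hn hn2

theorem dv_S (hna : ¬ IsMulCommutative S) {n q : ℕ} (hn : 2 ≤ n) (hn2 : n = 2 → 3 ≤ q) (hlt : q < 128)
    (h : IsS n q S) : l ∣ sz (.C n) q := by
  obtain ⟨K, iK, iKf, hK, ⟨e⟩⟩ := h
  obtain ⟨p, f, hp, hf, hq⟩ := card_pow K
  rw [hK] at hq
  subst hq
  refine dvd_aut hna (.psp n p f) ⟨K, iK, iKf, hK, ⟨e⟩⟩ ?_ rfl hlt hl h7 hd
  rw [Nat.card_congr e.toEquiv]
  exact psp_real hp hf hK hn hn2

theorem dv_OP (hna : ¬ IsMulCommutative S) {n q : ℕ} (hn : 4 ≤ n) (hlt : q < 128)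
    (h : IsOP n q S) : l ∣ sz (.D n) q := by
  obtain ⟨K, iK, iKf, hK, ⟨e⟩⟩ := h
  obtain ⟨p, f, hp, hf, hq⟩ := card_pow K
  rw [hK] at hq
  subst hq
  refine dvd_aut hna (.oplus n p f) ⟨K, iK, iKf, hK, ⟨e⟩⟩ ?_ rfl hlt hl h7 hd
  rw [Nat.card_congr e.toEquiv]
  exact oplus_real hp hf hK hn

theorem dv_OM (hna : ¬ IsMulCommutative S) {K : Type} [Field K] [Fintype K] {n : ℕ} (hn : 4 ≤ n)
    (hlt : Fintype.card K < 128) {a b : K} (hab : ∀ z₁ z₂ : K, z₁ ^ 2 + a * z₁ * z₂ + b * z₂ ^ 2 = 0 → z₁ = 0 ∧ z₂ = 0)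
    (e : S ≃* POmega K (quadFormMinus (n - 1) K a b)) : l ∣ sz (.DD n) (Fintype.card K) := by
  obtain ⟨p, f, hp, hf, hq⟩ := card_pow K
  refine dvd_aut hna (.ominus n p f) ⟨K, inferInstance, inferInstance, a, b, hq.symm, hab, ⟨e⟩⟩ ?_ hq hlt hl h7 hd
  rw [Nat.card_congr e.toEquiv]
  exact ominus_real hp hf hq.symm hn hab

theorem dv_OO (hna : ¬ IsMulCommutative S) {n q : ℕ} (hn : 3 ≤ n) (hlt : q < 128) (ho : Odd q) (h : IsOO n q S) :
    l ∣ sz (.C n) q := by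
  obtain ⟨K, iK, iKf, hK, ⟨e⟩⟩ := h
  subst hK
  obtain ⟨p, f, hp, hf, hq⟩ := card_pow K
  refine dvd_aut hna (.oodd n p f hn (by rwa [hq])) ⟨K, inferInstance, inferInstance, hq.symm, ⟨e⟩⟩ ?_ hq hlt hl h7 hd
  rw [Nat.card_congr e.toEquiv]
  exact oodd_real hp hf hq.symm hn (by rwa [hq])

theorem dv_U (hna : ¬ IsMulCommutative S) {n q : ℕ} (hn : 3 ≤ n) (hn2 : ¬ (n = 3 ∧ q = 2)) (hlt : q < 128)
    (h : IsU n q S) : l ∣ sz (.U n) q := by
  obtain ⟨K, iK, iKf, hK, ⟨e⟩⟩ := h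
  obtain ⟨p, f', hp, hf', hq'⟩ := card_pow K
  have hc : CharP K p := H364.OutLie.charP_of_card hp hf' hq'.symm
  obtain ⟨f, hf, rfl⟩ := H364.LieNam.root_eq' hp hc (by norm_num) hK
  refine dvd_aut hna (.psu n p f) ⟨K, iK, iKf, hK, ⟨e⟩⟩ ?_ rfl hlt hl h7 hd
  rw [Nat.card_congr e.toEquiv]
  exact psu_real hp hf hK hn hn2

theorem dv_G2 (hna : ¬ IsMulCommutative S) {q : ℕ} (h3 : 3 ≤ q) (hlt : q < 128) (h : H912.Bd.IsG2 q S) :
    l ∣ sz .G2 q := by
  obtain ⟨K, iK, iKf, hK, ⟨e⟩⟩ := h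
  obtain ⟨p, f, hp, hf, hq⟩ := card_pow K
  rw [hK] at hq
  subst hq
  refine dvd_aut hna (.g2 p f) ⟨K, iK, iKf, hK, ⟨e⟩⟩ ⟨hp, hf, h3, ?_⟩ rfl hlt hl h7 hd
  rw [Nat.card_congr e.toEquiv, OrdDiv.table.{0}.g2 K, hK]
  change 1 * _ = (p ^ f) ^ 6 * (_ * _)
  ring

theorem dv_TD4 (hna : ¬ IsMulCommutative S) {K : Type} [Field K] [Fintype K] {q : ℕ} (hq : IsPrimePow q)
    (hK : Fintype.card K = q ^ 3) (hlt : q < 128) (e : S ≃* Lie.twistedD4 K q) : l ∣ sz .TD4 q := by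
  obtain ⟨p, f', hp, hf', hq'⟩ := card_pow K
  have hc : CharP K p := H364.OutLie.charP_of_card hp hf' hq'.symm
  obtain ⟨f, hf, rfl⟩ := H364.LieNam.root_eq' hp hc (by norm_num) hK
  refine dvd_aut hna (.td4 p f) ⟨K, inferInstance, inferInstance, hK, ⟨e⟩⟩ ⟨hp, hf, trivial, ?_⟩ rfl hlt hl h7 hd
  rw [Nat.card_congr e.toEquiv, OrdDiv.table.{0}.td4 K _ hq hK]
  change 1 * _ = (p ^ f) ^ 12 * (_ * _ * _)
  ring

end aut

theorem sz_L2' (q : ℕ) : sz (.L 2) q = q * (q ^ 2 - 1) := by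
  change q ^ (2 * (2 - 1) / 2) * ∏ i ∈ Finset.range (2 - 1), (q ^ (i + 2) - 1) = _
  simp

section psl

variable {S : Type v} [Group S] [Finite S] [IsSimpleGroup S]

theorem dv_F4 {l : ℕ} (hl : l.Prime) (h7 : 7 ≤ l) (hd : l ∣ Nat.card (MulAut S)) (hna : ¬ IsMulCommutative S) {q : ℕ}
    (hlt : q < 128) (h : H912.Bd.IsF4 q S) : l ∣ sz .F4 q := by
  obtain ⟨K, iK, iKf, hK, ⟨e⟩⟩ := h
  obtain ⟨p, f, hp, hf, hq⟩ := card_pow K
  rw [hK] at hq
  subst hq
  refine dvd_aut hna (.f4 p f) ⟨K, iK, iKf, hK, ⟨e⟩⟩ ⟨hp, hf, trivial, ?_⟩ rfl hlt hl h7 hd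
  rw [Nat.card_congr e.toEquiv, OrdDiv.table.{0}.f4 K _ hK]
  change 1 * _ = (p ^ f) ^ 24 * (_ * _ * _ * _)
  ring

theorem dv_Sz {l : ℕ} (hl : l.Prime) (h7 : 7 ≤ l) (hd : l ∣ Nat.card (MulAut S)) (hna : ¬ IsMulCommutative S)
    {K : Type} [Field K] [Fintype K] {m : ℕ} (hm : 1 ≤ m)
    (hK : Fintype.card K = 2 ^ (2 * m + 1)) (hlt : 2 ^ (2 * m + 1) < 128) (e : S ≃* Lie.Sz K (2 ^ (m + 1))) :
    l ∣ sz .Sz (2 ^ (2 * m + 1)) := by
  refine dvd_aut hna (.sz 2 (2 * m + 1)) ⟨K, inferInstance, inferInstance, m, hm, hK, rfl, ⟨e⟩⟩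
    ⟨Nat.prime_two, by omega, ⟨rfl, odd_two_mul_add_one m, by omega⟩, ?_⟩ rfl hlt hl h7 hd
  rw [Nat.card_congr e.toEquiv, OrdDiv.table.{0}.sz K m hm hK]
  change 1 * _ = (2 ^ (2 * m + 1)) ^ 2 * (_ * _)
  ring

/-- `|Aut L_2(p)|` -/
theorem card_aut_L2 {p : ℕ} (hp : p.Prime) (h4 : 4 ≤ p) (h : IsL 2 p S) :
    Nat.card (MulAut S) = p * (p ^ 2 - 1) := by
  obtain ⟨K, iK, iKf, hK, ⟨e⟩⟩ := h
  have : Fact p.Prime := ⟨hp⟩
  have hK1 : Fintype.card K = p ^ 1 := by rw [hK, pow_one]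
  have h1 := Cfsg.Agent.S0813.result p 1 le_rfl hK1 2 le_rfl (fun _ => by rwa [pow_one])
  rw [H364.OutLie.card_pgl le_rfl, hK1] at h1
  have hr := psl_real (n := 2) hp le_rfl hK1 le_rfl (fun _ => by rwa [pow_one])
  have h2 := hr.eq
  have h3 : (p ^ 1) ^ Art.NN (.L 2) * Art.num (.L 2) (p ^ 1) = sz (.L 2) p := by
    rw [pow_one]; rfl
  rw [h3, sz_L2'] at h2
  rw [H364.OutLie.mulaut_congr e, h1, if_pos rfl, one_mul, one_mul, ← h2]
  rfl

end psl

/-- a prime power has one prime divisor -/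
theorem not_pp {r k a b : ℕ} (hr : r.Prime) (ha : a.Prime) (hb : b.Prime) (hab : a ≠ b) (h1 : a ∣ r ^ k)
    (h2 : b ∣ r ^ k) : False := by
  have h3 := (Nat.prime_dvd_prime_iff_eq ha hr).1 (ha.dvd_of_dvd_pow h1)
  have h4 := (Nat.prime_dvd_prime_iff_eq hb hr).1 (hb.dvd_of_dvd_pow h2)
  exact hab (h3.trans h4.symm)

section kill

variable {F : Type u} [Field F] [Finite F] {n : ℕ}

theorem fact_kill {l m : ℕ} (hl : l.Prime) (hm : m < l) : ¬ l ∣ m.factorial := fun h =>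
  absurd ((Nat.Prime.dvd_factorial hl).1 h) (by omega)

theorem alt_kill {l : ℕ} (hl : l.Prime) (hln : n + 2 < l) (h10 : 10 ≤ n) (p : ℕ) [CharP F p] [Fact p.Prime]
    {P : Subgroup (Matrix.GeneralLinearGroup (Fin n) F)} (hd : l ∣ Nat.card (MulAut (Soc P)))
    (h : IsAlternating (Soc P)) : False := by
  have := Fintype.ofFinite F
  obtain ⟨m, hm, ⟨e⟩⟩ := h
  by_cases h6 : m = 6
  · subst h6
    rw [Nat.card_congr (MulAut.congr e).toEquiv, H38.Ppd.card_aut_six] at hd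
    have h1 : l ∣ 2 ^ 5 * (3 ^ 2 * 5) := hd
    rcases (Nat.Prime.dvd_mul hl).1 h1 with h2 | h2
    · have := Nat.le_of_dvd (by norm_num) (hl.dvd_of_dvd_pow h2)
      omega
    · rcases (Nat.Prime.dvd_mul hl).1 h2 with h3 | h3
      · have := Nat.le_of_dvd (by norm_num) (hl.dvd_of_dvd_pow h3)
        omega
      · have := Nat.le_of_dvd (by norm_num) h3
        omega
  · have h4 : Nat.card (MulAut (Soc P)) = m.factorial := by
      rw [Nat.card_congr (MulAut.congr e).toEquiv,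
        ← Nat.card_congr (Equiv.ofBijective _ (Cfsg.Agent.S2119.result m (by omega) h6)),
        Nat.card_eq_fintype_card, Fintype.card_perm, Fintype.card_fin]
    rw [h4] at hd
    refine fact_kill hl ?_ hd
    by_cases h8 : m ≤ 8
    · omega
    · have h2 := Cfsg.Agent.S2653.result p n m P ((scalars (Fin n) F).subgroupOf P) ⟨e⟩ (by omega)
      split_ifs at h2 <;> omega

theorem tits_kill {l : ℕ} (hl : l.Prime) (hl13 : 13 < l) {P : Subgroup (Matrix.GeneralLinearGroup (Fin n) F)}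
    (hC : Core P) (hd : l ∣ Nat.card (MulAut (Soc P))) (h : Lie.IsoTits (Soc P)) : False := by
  have hout := H867.TitsOut.card_out_le h
  obtain ⟨e⟩ := h
  have hs : IsSimpleGroup (Soc P) := hC.simple
  have hcard : Nat.card (Soc P) = 2 ^ 11 * 3 ^ 3 * 5 ^ 2 * 13 := by
    rw [Nat.card_congr e.toEquiv]
    exact Cfsg.Agent.S1074.result.2.2.2
  have h6 := Cfsg.Agent.H934.OutB.card_out_mul (Soc P) hC.nonabelian
  rw [← h6, hcard] at hd
  rcases (Nat.Prime.dvd_mul hl).1 hd with h3 | h3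
  · have h5 : 0 < Nat.card (Out (Soc P)) := by
      have h7 : 0 < Nat.card (MulAut (Soc P)) := Nat.card_pos
      rw [← h6] at h7
      exact Nat.pos_of_mul_pos_right h7
    exact absurd (hl13.trans_le ((Nat.le_of_dvd h5 h3).trans hout)) (by norm_num)
  · have hle : ∀ a b : ℕ, 0 < a → a ≤ 13 → l ∣ a ^ b → False := fun a b ha hab h8 => by
      have := Nat.le_of_dvd ha (hl.dvd_of_dvd_pow h8)
      omega
    rcases (Nat.Prime.dvd_mul hl).1 h3 with h4 | h4
    · rcases (Nat.Prime.dvd_mul hl).1 h4 with h4 | h4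
      · rcases (Nat.Prime.dvd_mul hl).1 h4 with h4 | h4
        · exact hle 2 11 (by norm_num) (by norm_num) h4
        · exact hle 3 3 (by norm_num) (by norm_num) h4
      · exact hle 5 2 (by norm_num) (by norm_num) h4
    · exact hle 13 1 (by norm_num) (by norm_num) (by rwa [pow_one])

/-- decompositions into lines -/
theorem lines_kill {t : ℕ} {D : Fin t → Submodule F (Fin n → F)} (hD : IsMDecomposition 1 D) {g : GL (Fin n) F}
    (hgD : g ∈ decompositionStabilizer D) {m : ℕ} (hm : m.Prime) (hg : orderOf g = m) (hnm : n < m)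
    (hq : m.Coprime (Nat.card F - 1)) : False := by
  have := Fintype.ofFinite F
  have htn : t = n := by
    have := H922.mul_eq_card hD
    rwa [Fintype.card_fin, mul_one] at this
  subst htn
  obtain ⟨ψ, hψ⟩ := H907.Mx.exists_permHom hD
  set x : decompositionStabilizer D := ⟨g, hgD⟩ with hx
  have hxm : x ^ m = 1 := by
    apply Subtype.ext
    have : g ^ m = 1 := by rw [← hg, pow_orderOf_eq_one]
    exact this
  have hψx : ψ x = 1 := by
    have h1 : orderOf (ψ x) ∣ m := orderOf_dvd_of_pow_eq_one (by rw [← map_pow, hxm, map_one])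
    rcases (Nat.dvd_prime hm).1 h1 with h2 | h2
    · exact orderOf_eq_one_iff.1 h2
    · exfalso
      have h3 : orderOf (ψ x) ∣ Nat.card (Equiv.Perm (Fin t)) := orderOf_dvd_natCard _
      rw [h2, Nat.card_perm, Nat.card_eq_fintype_card (α := Fin t), Fintype.card_fin] at h3
      exact fact_kill hm hnm h3
  have hv : ∀ i, ∃ v ∈ D i, v ≠ 0 ∧ ∀ w ∈ D i, ∃ c : F, c • v = w := by
    intro i
    obtain ⟨v, hv0, hv⟩ := finrank_eq_one_iff'.1 (hD.finrank_eq i)
    refine ⟨v, v.2, fun h0 => hv0 (Subtype.ext h0), fun w hw => ?_⟩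
    obtain ⟨c, hc⟩ := hv ⟨w, hw⟩
    exact ⟨c, congrArg Subtype.val hc⟩
  choose v hvm hv0 hv using hv
  set A : Matrix (Fin t) (Fin t) F := (g : Matrix (Fin t) (Fin t) F) with hA
  have hAm : A ^ m = 1 := by
    rw [hA, ← Units.val_pow_eq_pow_val, ← hg, pow_orderOf_eq_one, Units.val_one]
  have hc : ∀ i : Fin t, A *ᵥ (v i) = v i := by
    intro i
    have h1 : Matrix.toLin' A (v i) ∈ D (ψ x i) := by
      rw [← hψ x i]
      exact Submodule.mem_map_of_mem (hvm i)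
    rw [hψx, Equiv.Perm.one_apply] at h1
    obtain ⟨c, hc⟩ := hv _ _ h1
    rw [Matrix.toLin'_apply] at hc
    have hpow : ∀ j : ℕ, (A ^ j) *ᵥ (v i) = c ^ j • v i := by
      intro j
      induction j with
      | zero => rw [pow_zero, pow_zero, Matrix.one_mulVec, one_smul]
      | succ j ih => rw [pow_succ', ← Matrix.mulVec_mulVec, ih, Matrix.mulVec_smul, ← hc, smul_smul, pow_succ]
    have h2 := hpow m
    rw [hAm, Matrix.one_mulVec] at h2
    have hcm : c ^ m = 1 := by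
      by_contra hne
      apply hv0 i
      have h3 : (c ^ m - 1) • v i = 0 := by rw [sub_smul, one_smul, ← h2, sub_self]
      exact (smul_eq_zero.1 h3).resolve_left (sub_ne_zero.2 hne)
    have hc0 : c ≠ 0 := by
      rintro rfl
      rw [zero_pow hm.ne_zero] at hcm
      exact zero_ne_one hcm
    have hcq : c ^ (Nat.card F - 1) = 1 := by
      rw [Nat.card_eq_fintype_card]
      exact FiniteField.pow_card_sub_one_eq_one c hc0
    have hc1 : c = 1 := by
      have h3 : orderOf c ∣ m := orderOf_dvd_of_pow_eq_one hcm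
      have h4 : orderOf c ∣ Nat.card F - 1 := orderOf_dvd_of_pow_eq_one hcq
      have h5 := Nat.dvd_gcd h3 h4
      rw [hq] at h5
      exact orderOf_eq_one_iff.1 (Nat.dvd_one.1 h5)
    rw [← hc, hc1, one_smul]
  have hg1 : g = 1 := by
    apply Units.ext
    rw [Units.val_one]
    apply Matrix.toLin'.injective
    have h3 : (⨆ i, D i) ≤ LinearMap.eqLocus (Matrix.toLin' A) (Matrix.toLin' (1 : Matrix (Fin t) (Fin t) F)) := by
      rw [iSup_le_iff]
      intro i w hw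
      rw [LinearMap.mem_eqLocus]
      obtain ⟨a, rfl⟩ := hv i w hw
      rw [map_smul, map_smul, Matrix.toLin'_apply, Matrix.toLin'_apply, hc, Matrix.one_mulVec]
    rw [hD.iSup_eq_top] at h3
    apply LinearMap.ext
    intro w
    have h4 := h3 (Submodule.mem_top (x := w))
    rwa [LinearMap.mem_eqLocus] at h4
  rw [hg1, orderOf_one] at hg
  exact hm.one_lt.ne hg

/-- the order of a group normalising a core -/
theorem card_dvd_of_row {k m : ℕ} {P H : Subgroup (GL (Fin n) F)} (h : Row k m P)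
    (hH : ∀ x ∈ H, ∀ y ∈ P, x * y * x⁻¹ ∈ P) : Nat.card H ∣ (Nat.card F - 1) * Nat.card (MulAut (Soc P)) := by
  have hC := h.core
  have hF := Fintype.ofFinite F
  have hN : H ≤ Subgroup.normalizer (P : Set (GL (Fin n) F)) := fun g hg => mem_normalizer (hH g hg)
  let f : H →* MulAut (Soc P) := (conjSoc hC.absIrred).comp (Subgroup.inclusion hN)
  have hfin : Finite (MulAut (Soc P)) := inferInstance
  have h1 : Nat.card f.ker ∣ Nat.card F - 1 := by
    have hle : (f.ker.map H.subtype) ≤ scalars (Fin n) F := by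
      rintro _ ⟨x, hx, rfl⟩
      exact scalar_of_conjSoc hC (g := Subgroup.inclusion hN x) hx
    have h2 : Nat.card (f.ker.map H.subtype) = Nat.card f.ker :=
      (Nat.card_congr (Subgroup.equivMapOfInjective _ _ (Subgroup.subtype_injective _)).toEquiv).symm
    rw [← h2]
    exact (Subgroup.card_dvd_of_le hle).trans H251.GeoCard.card_scalars_dvd
  have h2 : Nat.card H = Nat.card f.ker * Nat.card f.range := by
    rw [← Subgroup.index_ker, mul_comm]
    exact (Subgroup.index_mul_card _).symm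
  rw [h2]
  exact Nat.mul_dvd_mul h1 (Subgroup.card_subgroup_dvd_card _)

/-- a prime larger than 5 dividing the order of the automorphism group of a sporadic group -/
theorem dvd_of_spor {l : ℕ} (hl : l.Prime) (h3 : 3 ≤ l) {P : Subgroup (GL (Fin n) F)} (hC : Core P)
    (hs : IsSporadicGroup (Soc P)) (hd : l ∣ Nat.card (MulAut (Soc P))) {N : ℕ} (hN : Nat.card (Soc P) = N) :
    l ∣ N := by
  have h2 : IsSimpleGroup (Soc P) := hC.simple
  have h6 := Cfsg.Agent.H934.OutB.card_out_mul (Soc P) hC.nonabelian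
  rw [← h6, hN] at hd
  rcases (Nat.Prime.dvd_mul hl).1 hd with h4 | h4
  · have h5 : 0 < Nat.card (Out (Soc P)) := by
      have h7 : 0 < Nat.card (MulAut (Soc P)) := Nat.card_pos
      rw [← h6] at h7
      exact Nat.pos_of_mul_pos_right h7
    exact absurd (h3.trans ((Nat.le_of_dvd h5 h4).trans (H489.card_out_sporadic hs))) (by norm_num)
  · exact h4

end kill

end Cfsg.Agent.H2.Rb.Cx
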