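import Cfsg.Agent.H2.Rb.StructA
import Cfsg.Agent.H370.Rg.Zsig
import Cfsg.Agent.H364.LieNam
import Cfsg.Agent.OrdDiv.Table
import Cfsg.Agent.H902.Zs

/-!
# S3691 (S): the good prime (helper2)

`Row.good` : if the socle is of Lie type in the characteristic of `F`, then `m` divides its order. Otherwise `m` divides
the degree `e` of the field of definition; a primitive prime divisor of `p ^ (e D) - 1` (`D ≥ 2` the largest exponent)
divides `|Soc P|`, but its order is at least `2 m`, hence larger than `a n`, `|F| = p ^ a`.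
-/

set_option autoImplicit false
set_option linter.unusedSectionVars false

namespace Cfsg.Agent.H2.Rb.C100

open Cfsg Cfsg.Geo Matrix
open Cfsg.Agent.H915.LD Cfsg.Agent.H902 Cfsg.Agent.H902.Names
open Cfsg.Agent.H251.GeoCard

universe u v w

theorem dvd_of_mul {m d N M C : ℕ} (hd : 0 < d) (h : d * M = C * N) (h1 : m * d ∣ N) : m ∣ M := by
  obtain ⟨c, rfl⟩ := h1
  refine ⟨C * c, ?_⟩
  apply Nat.eq_of_mul_eq_mul_left hd
  rw [h]
  ring

/-- a prime `m ≥ 7` dividing the diagonal part divides the order -/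
theorem dd_dvd {X : Art.Sh} {p f M : ℕ} (h : Art.Real X p f M) {m : ℕ} (h7 : 7 ≤ m)
    (hd : m ∣ Art.dd X (p ^ f)) : m ∣ M := by
  have heq := h.eq
  have hok := h.ok
  have small : ∀ a b : ℕ, 0 < a → a ≤ 4 → m ∣ Nat.gcd a b → False := by
    intro a b ha0 ha h1
    have := Nat.le_of_dvd ha0 (h1.trans (Nat.gcd_dvd_left _ _))
    omega
  set q := p ^ f with hq
  have hq0 : 0 < q := pow_pos h.hp.pos _
  cases X with
  | L n =>
    have h1 : m ∣ n := hd.trans (Nat.gcd_dvd_left _ _)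
    have hn0 : 0 < n := by have := hok.1; omega
    have h2 := Nat.le_of_dvd hn0 h1
    have h3 : Nat.gcd n (q - 1) ∣ q - 1 := Nat.gcd_dvd_right _ _
    have h4 : m ∣ q - 1 := hd.trans h3
    refine dvd_of_mul (d := Nat.gcd n (q - 1)) (Nat.gcd_pos_of_pos_left _ hn0) heq ?_
    obtain ⟨t, ht⟩ : ∃ t, n - 1 = t + 1 + 1 := ⟨n - 3, by omega⟩
    change _ ∣ ∏ i ∈ Finset.range (n - 1), (q ^ (i + 2) - 1)
    rw [ht, Finset.prod_range_succ', Finset.prod_range_succ', mul_assoc]
    refine Dvd.dvd.mul_left (Nat.mul_dvd_mul (h4.trans ?_) (h3.trans ?_)) _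
    · have := Nat.sub_dvd_pow_sub_pow q 1 (0 + 1 + 2)
      rwa [one_pow] at this
    · have := Nat.sub_dvd_pow_sub_pow q 1 (0 + 2)
      rwa [one_pow] at this
  | U n =>
    have h1 : m ∣ n := hd.trans (Nat.gcd_dvd_left _ _)
    have hn0 : 0 < n := by have := hok.1; omega
    have h2 := Nat.le_of_dvd hn0 h1
    have h3 : Nat.gcd n (q + 1) ∣ q + 1 := Nat.gcd_dvd_right _ _
    have h4 : m ∣ q + 1 := hd.trans h3
    refine dvd_of_mul (d := Nat.gcd n (q + 1)) (Nat.gcd_pos_of_pos_left _ hn0) heq ?_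
    obtain ⟨t, ht⟩ : ∃ t, n - 1 = t + 1 + 1 := ⟨n - 3, by omega⟩
    change _ ∣ ∏ i ∈ Finset.range (n - 1), (if Even i then q ^ (i + 2) - 1 else q ^ (i + 2) + 1)
    rw [ht, Finset.prod_range_succ', Finset.prod_range_succ', mul_assoc]
    refine Dvd.dvd.mul_left (Nat.mul_dvd_mul (h4.trans ?_) (h3.trans ?_)) _
    · rw [if_neg (by decide)]
      have := (show Odd (0 + 1 + 2) by decide).nat_add_dvd_pow_add_pow q 1
      rwa [one_pow] at this
    · rw [if_pos (by decide), zero_add, ← one_pow 2, Nat.sq_sub_sq]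
      exact Dvd.intro _ rfl
  | C n => exact (small _ _ (by norm_num) (by norm_num) hd).elim
  | D n => exact (small _ _ (by norm_num) (by norm_num) hd).elim
  | DD n => exact (small _ _ (by norm_num) (by norm_num) hd).elim
  | E6 => exact (small _ _ (by norm_num) (by norm_num) hd).elim
  | E7 => exact (small _ _ (by norm_num) (by norm_num) hd).elim
  | TE6 => exact (small _ _ (by norm_num) (by norm_num) hd).elim
  | _ =>
    have h1 : m ∣ 1 := hd
    have := Nat.le_of_dvd one_pos h1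
    omega

variable {n : ℕ} {F : Type u} [Field F] [Finite F] {k m : ℕ} {P : Subgroup (GL (Fin n) F)}

/-- **The good prime.** -/
theorem Row.good (h : Row k m P) (p : ℕ) [hp : Fact p.Prime] [CharP F p] (hT : IsLieTypeChar p (Soc P)) :
    ∃ r, r.Prime ∧ r ∣ m ∧ r ∣ Nat.card (Soc P) := by
  have hs : IsSimpleGroup (Soc P) := h.core.simple
  have hm := h.num.prime
  refine ⟨m, hm, dvd_rfl, ?_⟩
  by_contra hcon
  have h7 := h.num.seven_le hm dvd_rfl
  obtain ⟨g, X, e, hg, hreal, hr⟩ := H364.LieNam.lie_nam OrdDiv.table hp.out hT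
  have h1 : m ∣ Nat.card (MulAut (Soc P)) := h.dvd_card (MulEquiv.refl _)
  rw [← H934.OutB.card_out_mul (Soc P) h.core.nonabelian] at h1
  have h2 := (hm.dvd_mul.1 h1).resolve_right hcon
  have h3 : m ∣ e := by
    by_contra h3
    exact H370.Rg.not_dvd_out_of h.core.nonabelian hg hreal hr hm (by omega) h3
      (fun h4 => hcon (dd_dvd hr h7 h4)) h2
  have hD := (Art.DM_ge hr).1
  have he0 : 0 < e := hr.hf
  have h4 : m ≤ e := Nat.le_of_dvd he0 h3
  have h5 : m * 2 ≤ e * Art.DM X := Nat.mul_le_mul h4 hD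
  obtain ⟨l, hl, ho, -, hlp⟩ := H370.Rg.exists_rk (p := p) (f := e) (k := Art.DM X) hp.out (by omega) (by omega)
  have h6 : l ∣ Nat.card (Soc P) := hr.dvd_of_order_DM hl ho (by omega)
  have h8 : l ∣ Nat.card (GL (Fin n) F) :=
    (h6.trans (Subgroup.card_quotient_dvd_card _)).trans (Subgroup.card_subgroup_dvd_card P)
  obtain ⟨a, ha0, ha⟩ : ∃ a : ℕ, 0 < a ∧ Nat.card F = p ^ a := by
    have := Fintype.ofFinite F
    obtain ⟨a, -, ha⟩ := FiniteField.card F p
    exact ⟨a, a.pos, by rw [Nat.card_eq_fintype_card, ha]⟩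
  have h9 : ¬ l ∣ Nat.card F := by
    rw [ha]
    exact fun h0 => hlp (hl.dvd_of_dvd_pow h0)
  obtain ⟨i, hi1, hi2, hi3⟩ := div_of_dvd_card_fin hl h9 h8
  rw [ha, Art.dvd_iff hp.out, ho] at hi3
  have h10 := Nat.le_of_dvd (Nat.mul_pos ha0 (by omega)) hi3
  -- `a k ≤ m - 1`
  have h11 : a * k ≤ m - 1 := by
    by_contra hlt
    have h12 := h.num.prim p a (m - 1) ha0 ha.symm (by omega) (by omega)
    rw [Nat.Prime.coprime_iff_not_dvd hm] at h12
    apply h12
    have hmf : Fact m.Prime := ⟨hm⟩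
    have hpm : ((p : ℕ) : ZMod m) ≠ 0 := by
      rw [Ne, ZMod.natCast_eq_zero_iff]
      intro h13
      exact h.num.not_dvd_q hm dvd_rfl (by rw [ha]; exact h13.trans (dvd_pow_self p ha0.ne'))
    have h13 := ZMod.pow_card_sub_one_eq_one hpm
    have h14 : 1 ≤ p ^ (m - 1) := Nat.one_le_pow _ _ hp.out.pos
    rw [← ZMod.natCast_eq_zero_iff, Nat.cast_sub h14, Nat.cast_pow, Nat.cast_one, sub_eq_zero]
    exact h13
  have h12 := h.num.nlt
  have h13 : a * i ≤ a * (2 * k) := Nat.mul_le_mul_left a (by omega)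
  have h14 : a * (2 * k) = 2 * (a * k) := by ring
  omega

end Cfsg.Agent.H2.Rb.C100
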