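import Cfsg.Agent.H826.RgF.Defs
import Cfsg.Agent.H128.Rg.SpAbs
import Cfsg.Agent.H128.Rg.RefAbs
import Cfsg.Agent.H951.Rl.BigN

/-!
# S3691: the list lemmas `LO`, `LS` from large primitive prime powers (helper2)
-/

set_option autoImplicit false
set_option linter.unusedSectionVars false

namespace Cfsg.Agent.H2.Rb

open Module QuadraticMap Cfsg Cfsg.Geo Cfsg.Agent.LieClassical.OrthCore
  Cfsg.Agent.H449.Reg Cfsg.Agent.H884.El Cfsg.Agent.H826.RgF Cfsg.Agent.H851.Rl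

variable {F : Type} [Field F] [Fintype F] {p f n k r a b : ℕ}

theorem num_big (hF : Nat.card F = p ^ f) (h : Big p f k r a) (hn : 10 ≤ n) (hk : k ≤ n) (hkn : n < 2 * k) :
    Cfsg.Agent.H278.Cov.Num (Fintype.card F) n k (r ^ a) := by
  rw [← Nat.card_eq_fintype_card, hF]
  exact Cfsg.Agent.H449.Reg.num_of h.hp h.hf ⟨h.prime, h.ord⟩ hn hk hkn h.big h.dvd

/-- orthogonal groups -/
theorem lo_big (hP : H659.CovCore.S5948Stmt.{0}) (hF : Nat.card F = p ^ f) (h : Big p f k r a) (hn : 10 ≤ n) (hk : k ≤ n)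
    (hkn : n < 2 * k) : LO F n k (r ^ a) b := by
  intro V _ _ _ Q hQ hd A hA ⟨g, hg, ho⟩ _
  rw [← hd]
  refine og_abs hP hQ hA hg (k := k) ?_
  rw [ho, hd]
  exact num_big hF h hn hk hkn

/-- symplectic groups -/
theorem ls_big (hP : H659.CovCore.S5948Stmt.{0}) (h2 : (2 : F) = 0) (hF : Nat.card F = p ^ f) (h : Big p f k r a) (hn : 10 ≤ n)
    (hk : k ≤ n) (hkn : n < 2 * k) : LS F n k (r ^ a) b := by
  intro V _ _ _ Q hQ hd A hA ⟨g, hg, ho⟩ _
  rw [← hd]
  refine H128.Rg.sp_abs hP h2 hQ hA hg (k := k) ?_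
  rw [ho, hd]
  exact num_big hF h hn hk hkn

theorem El.dvd {F V : Type} [Field F] [AddCommGroup V] [Module F V] {A : Subgroup (V ≃ₗ[F] V)} {r : ℕ} (h : El A r) :
    r ∣ Nat.card A := by
  obtain ⟨g, hg, ho⟩ := h
  have h1 : orderOf (⟨g, hg⟩ : A) = r := by rw [← ho, Subgroup.orderOf_mk]
  rw [← h1]
  exact orderOf_dvd_natCard _

/-- orthogonal groups, refined single cases -/
theorem lo_ref (hKS : ∀ (T : Type) [Group T] [Finite T] [IsSimpleGroup T], IsKnownSimple' T) {q n k r l : ℕ}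
    (hF : Nat.card F = q) (hm : (q, n, k, r, l) ∈ refList) : LO F n k r l := by
  intro V _ _ _ Q hQ hd A hA h1 h2
  exact H128.Rg.ref_abs hKS hQ hA hm hF hd (El.dvd h1) (El.dvd h2)

/-- symplectic groups, refined single cases -/
theorem ls_ref (hKS : ∀ (T : Type) [Group T] [Finite T] [IsSimpleGroup T], IsKnownSimple' T) (h2 : (2 : F) = 0) {q n k r l : ℕ}
    (hF : Nat.card F = q) (hm : (q, n, k, r, l) ∈ refList) : LS F n k r l := by
  intro V _ _ _ Q hQ hd A hA h3 h4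
  exact H128.Rg.ref_sp hKS h2 hQ hA hm hF hd (El.dvd h3) (El.dvd h4)

end Cfsg.Agent.H2.Rb
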