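import Cfsg.Agent.H2.Rb.Basic
import Cfsg.Agent.H156.Ppd.Lift
import Cfsg.Agent.H156.Ppd.DMain
import Cfsg.Agent.H925.NatMain
import Cfsg.Agent.OddHalf.NI.OmegaPlus
import Cfsg.Agent.H905.MdJ
import Cfsg.Agent.S0293

/-!
# S3691 (S), small primes, the row `PΩ⁺_{2l}(K)` in its own characteristic (from helper156's file for S5948, adapted by helper2)

**`nat_pplus`** : `Soc P ≃ PΩ⁺_{2l}(K)`, `char K = char F`, `l ≥ 4`, a prime divisor of `m` divides `|Soc P|`: `P = Ω(Q)`.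
-/

set_option autoImplicit false
set_option linter.unusedSectionVars false

namespace Cfsg.Agent.H2.Rb.C156

open Cfsg.Agent.H156.Ppd

open CoxeterSystem Cfsg.Agent.ChevalleyStructure.CoxeterGeom Cfsg.Agent.Tits.Roots Cfsg.Agent.Tits.Core
  Cfsg.Agent.Nodes.Reps Cfsg.Agent.Nodes.BNOf Cfsg.Agent.Nodes.Bruhat Cfsg.Agent.Nodes.RGDLib
open QuadraticMap
open Cfsg.Agent.LieClassical Cfsg.Agent.LieClassical.OrthCore Cfsg.Agent.LieClassical.OrthTrans
open Cfsg.Agent.LieClassical.OrthSimple Cfsg.Agent.LieClassical.OrthFinite Cfsg.Agent.LieClassical.OrthForms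
open Cfsg.Agent.TitsThree Cfsg.Agent.TitsThree.KSideO Cfsg.Agent.TitsThree.StdData
open Cfsg.Agent.Nodes Cfsg.Agent.Nodes.WittAll Cfsg.Agent.Nodes.WittInst Cfsg.Agent.Nodes.WittU
  Cfsg.Agent.TitsThree.Siegel Cfsg.Agent.TitsThree.SiegelGen
  Cfsg.Agent.TitsThree.WittFrame Cfsg.Agent.TitsThree.WBridge Cfsg.Agent.TitsThree.WittWeyl
  Cfsg.Agent.TitsThree.FrameCN
open Cfsg.Agent.Nodes.WittRoot (Mono)
open Cfsg.Agent.Nodes.WittRGD (Tor)
open Cfsg.Agent.H905.Md Cfsg.Agent.H915.LD Cfsg.Agent.H925.Nat Cfsg.Agent.H2.Rb.C100 Cfsg.Agent.H911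
open Cfsg.Agent.H67.Cross
open Cfsg.Agent.KFacts.MulOdd.Inst (Lv)
open Cfsg.Agent.OddHalf.NI.Mult (up lo dg Coord)
open Cfsg Cfsg.Geo
open scoped MatrixGroups Matrix

universe u

/-! ### arithmetic -/

section arith

variable {q n k m : ℕ} (h : Num q n k m) {r : ℕ} (hr : r.Prime) (hrm : r ∣ m)
include h hr hrm

theorem dvd_mul_of_dvd {j e : ℕ} (hd : r ∣ (q ^ j) ^ e - 1) : k ∣ j * e := by
  rw [← h.pow_eq_one_iff hr hrm]
  have hq := h.one_lt_q
  have h1 : 1 ≤ (q ^ j) ^ e := Nat.one_le_pow _ _ (Nat.one_le_pow _ _ (by omega))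
  rw [← ZMod.natCast_eq_zero_iff, Nat.cast_sub h1, Nat.cast_pow, Nat.cast_pow, Nat.cast_one, sub_eq_zero,
    ← pow_mul] at hd
  exact hd

/-- the bound for the dimension -/
theorem plus_lt {l : ℕ} (hl : 4 ≤ l) {j : ℕ} (hj : 1 ≤ j) {N g : ℕ}
    (hcard : g * N = (q ^ j) ^ (l * (l - 1)) * ((q ^ j) ^ l - 1) * ∏ i ∈ Finset.range (l - 1), ((q ^ j) ^ (2 * (i + 1)) - 1))
    (hd : r ∣ N) : n < 4 * (l - 1) * j := by
  have hd' : r ∣ g * N := hd.mul_left g
  rw [hcard] at hd'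
  have key : ∀ {e : ℕ}, 0 < e → e ≤ 2 * (l - 1) → r ∣ (q ^ j) ^ e - 1 → n < 4 * (l - 1) * j := by
    intro e he0 he hre
    have h1 := Nat.le_of_dvd (Nat.mul_pos hj he0) (dvd_mul_of_dvd h hr hrm hre)
    have h2 := h.nlt
    have h3 : j * e ≤ j * (2 * (l - 1)) := Nat.mul_le_mul_left _ he
    calc n < 2 * k := h2
      _ ≤ 2 * (j * (2 * (l - 1))) := Nat.mul_le_mul_left _ (h1.trans h3)
      _ = 4 * (l - 1) * j := by ring
  rcases hr.dvd_mul.1 hd' with h1 | h1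
  · rcases hr.dvd_mul.1 h1 with h2 | h2
    · exact absurd (hr.dvd_of_dvd_pow (hr.dvd_of_dvd_pow h2)) (h.not_dvd_q hr hrm)
    · exact key (by omega) (by omega) h2
  · rw [Prime.dvd_finsetProd_iff hr.prime] at h1
    obtain ⟨i, hi, h2⟩ := h1
    rw [Finset.mem_range] at hi
    exact key (by omega) (by omega) h2

end arith

/-! ### the group `Ω⁺` -/

section group

variable {K : Type} [Field K] [Finite K] {n : ℕ}

theorem hfin (n : ℕ) : Finite ((Fin (n + 2) ⊕ Fin (n + 2) → K) ≃ₗ[K] (Fin (n + 2) ⊕ Fin (n + 2) → K)) :=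
  Finite.of_injective (fun g : (Fin (n + 2) ⊕ Fin (n + 2) → K) ≃ₗ[K] (Fin (n + 2) ⊕ Fin (n + 2) → K) =>
    (g : (Fin (n + 2) ⊕ Fin (n + 2) → K) → (Fin (n + 2) ⊕ Fin (n + 2) → K))) DFunLike.coe_injective

/-- the torus -/
abbrev TT (n : ℕ) (K : Type) [Field K] : Subgroup (E (plusForm (n + 2) K)) :=
  (Tor (toFrame (wplus (n + 2) K)) (E (plusForm (n + 2) K))).subgroupOf (E (plusForm (n + 2) K))

/-- the root groups -/
abbrev XX (n : ℕ) (K : Type) [Field K] (x : Fin (n + 2) → ℤ) : Subgroup (E (plusForm (n + 2) K)) :=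
  (WittRGDD.rg (toFrame (wplus (n + 2) K)) x).subgroupOf (E (plusForm (n + 2) K))

theorem TT_comm : ∀ s ∈ TT n K, ∀ t ∈ TT n K, s * t = t * s := by
  intro s hs t ht
  have hA := amb_plus (F := K) (n + 2)
  exact Subtype.ext (torus_comm hA.V0 (Or.inl rfl) (hA.iso _ s.2) (hA.iso _ t.2) hs.2 ht.2)

theorem TT_pow {Q : ℕ} (hQ : ∀ a : K, a ^ Q = a) : ∀ t ∈ TT n K, t ^ Q = t := by
  intro t ht
  have hA := amb_plus (F := K) (n + 2)
  exact Subtype.ext (torus_pow hA.V0 (Or.inl rfl) hQ (hA.iso _ t.2) ht.2)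

theorem dg_mem (i : Fin (n + 2)) (t : Kˣ) : OddHalf.NI.OmegaPlus.s (wplus (n + 2) K) i (dg t) ∈ TT n K := by
  rw [Subgroup.mem_subgroupOf]
  refine ⟨Subtype.property _, fun z => ⟨_, ?_, OddHalf.NI.OmegaPlus.s_dg_apply (wplus (n + 2) K) i t z⟩⟩
  exact Units.ne_zero _

theorem ts (x : Fin (n + 2)) : TS (TT n K) (XX n K (-sr x)) :=
  ts_of_lo (OddHalf.NI.OmegaPlus.s (wplus (n + 2) K) x) ((OddHalf.NI.OmegaPlus.coord (wplus (n + 2) K)).lo x) (dg_mem x)

theorem card_XX (x : Fin (n + 2)) : Nat.card (XX n K (-sr x)) = Nat.card K := by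
  have h1 := (OddHalf.NI.OmegaPlus.coord (wplus (n + 2) K)).lo x
  have h2 : Function.Injective fun a : K => OddHalf.NI.OmegaPlus.s (wplus (n + 2) K) x (lo a) := by
    intro a b hab
    have h3 : (lo a : Matrix.SpecialLinearGroup (Fin 2) K) = lo b := OddHalf.NI.OmegaPlus.phi_injective _ _ hab
    have h4 := congrArg (fun g : Matrix.SpecialLinearGroup (Fin 2) K => g.1 1 0) h3
    simpa [lo] using h4
  have h3 : Nat.card (XX n K (-sr x)) = Nat.card (Set.range fun a : K =>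
      OddHalf.NI.OmegaPlus.s (wplus (n + 2) K) x (lo a)) := by
    rw [← h1]
    rfl
  rw [h3, Nat.card_range_of_injective h2]

theorem noCE {p : ℕ} (hp : p.Prime) [CharP K p] (i : Fin (n + 2)) {r : ℕ} (hr : r.Prime) (hne : r ≠ p) :
    NoCE p r ↥(Lv (XX n K) i) :=
  noCE_of_coord (OddHalf.NI.OmegaPlus.coord (wplus (n + 2) K)) (OddHalf.NI.OmegaPlus.phi_injective _ _) hp hr hne

end group

/-- **The row.** -/
theorem nat_pplus {F : Type u} [Field F] [Finite F] {n k m : ℕ} {P : Subgroup (GL (Fin n) F)} (h : Row k m P)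
    (hg : ∃ r, r.Prime ∧ r ∣ m ∧ r ∣ Nat.card (Soc P)) (p : ℕ) [hp : Fact p.Prime] [CharP F p]
    {K : Type} [Field K] [Fintype K] [CharP K p] {l : ℕ} (hl : 4 ≤ l)
    (e : Soc P ≃* POmega K (quadFormPlus l K)) : Nat' P := by
  classical
  obtain ⟨d, rfl⟩ : ∃ d, l = d + 2 := ⟨l - 2, by omega⟩
  have hC := h.core
  obtain ⟨r, hr, hrm, hrc⟩ := hg
  have hcard := S0293.result (F := K) rfl (d + 2) hl
  rw [Nat.card_congr e.toEquiv] at hrc
  have hG : Good (plusForm (d + 2) K) := by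
    apply good_of_finite (nondeg_plusForm (d + 2) K)
    rw [Module.finrank_fintype_fun_eq_card, Fintype.card_sum, Fintype.card_fin]
    omega
  rw [← coe_plusForm] at e
  have hfin := hfin (K := K) d
  have hA := amb_plus (F := K) (d + 2)
  have h0 := adm_plus (F := K) (d + 2)
  have hWf : Finite (TypeD.M d).Group := TypeD.finite_W (TypeD.M d).toCoxeterSystem
  have hR := rgd_restrict (rgdD hA h0 (TypeD.M d).toCoxeterSystem (p := p))
    (E (plusForm (d + 2) K)) (fun x _ => rgD_le _ hA x) (fun i => WittRGDD.nn_mem hA i)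
  have hperf : commutator ↥(E (plusForm (d + 2) K)) = ⊤ := Five.commutator_top hG.E_perfect
  have hG1 : G1 (TypeD.M d).toCoxeterSystem (TypeD.isCartan d) (XX d K) = ⊤ := by
    have h1 := G1D_eq_top (wplus (d + 2) K) (MonoidHom.id (E (plusForm (d + 2) K))) Function.surjective_id h0
      (TypeD.M d).toCoxeterSystem
    rw [← h1]
    congr 1
    funext x
    exact (Subgroup.map_id _).symm
  obtain ⟨Y, _, _, f, φ, n₁, C⟩ := H156.Ppd.exists_cov hC hR hG1 hperf (toPOmega_surjective hG) e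
  have hpp : p.Prime := Fact.out
  have rk : ∀ i, ∀ r : ℕ, r.Prime → r ≠ p → NoCE p r ↥(Lv (XX d K) i) := fun i r hr hne => noCE hpp i hr hne
  have hT : ∀ s ∈ (TT d K).comap f, ∀ t ∈ (TT d K).comap f, s * t = t * s :=
    comap_comm C.ker C.cop C.surj hR rk C.gen TT_comm
  obtain ⟨a, ha⟩ : ∃ a : ℕ+, Fintype.card K = p ^ (a : ℕ) := ⟨(FiniteField.card K p).choose, (FiniteField.card K p).choose_spec.2⟩
  have hpow : ∀ t ∈ (TT d K).comap f, t ^ p ^ (a : ℕ) = t :=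
    comap_pow C.ker C.cop C.surj hR rk C.gen TT_comm (TT_pow fun x => by rw [← ha]; exact FiniteField.pow_card x)
  have hD := C.finrank_D hC hT
  obtain ⟨j, hj1, hj⟩ := C.exists_j hC hT a.pos.ne' hpow
  rw [← ha] at hj
  have hlt : n < 4 * (d + 1) * j := by
    rw [← hj] at hcard
    exact plus_lt h.num hr hrm hl hj1 hcard hrc
  have hKc : Nat.card K = Nat.card F ^ j := by rw [hj, Nat.card_eq_fintype_card]
  have hIo : ∀ i, i ∉ Jx (TypeD.M d).toCoxeterSystem (TypeD.isCartan d) (fun x => Nodes.RGDLift.lft p f (XX d K x)) (lrep φ) →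
      j ≤ Module.finrank F (Io (TypeD.M d).toCoxeterSystem (TypeD.isCartan d) ((TT d K).comap f)
        (fun x => Nodes.RGDLift.lft p f (XX d K x)) (lrep φ) i) + 1 := by
    intro i hi
    exact C.edge_Io hR hC hi hD (by rw [card_XX, hKc]) (ts i)
  have hnV := C.nontriv hC
  have hdim : Module.finrank F (Fin n → F) = n := by rw [Module.finrank_fintype_fun_eq_card, Fintype.card_fin]
  by_cases hd4 : d = 2
  · exfalso
    subst hd4
    have h1 := dFour mAD4_eq C.rgd (C.hirr hC) C.gen (C.hnt hC) hD hIo (by rw [hdim]; exact hlt)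
    rw [hdim] at h1
    have := h.num.ten
    omega
  · have hd3 : 3 ≤ d := by omega
    obtain ⟨hJ, hL⟩ := DSg.dAll C.rgd (C.hirr hC) hd3 C.gen (C.hnt hC) hD hIo (by rw [hdim]; exact hlt)
    obtain ⟨σ, θ, hθ⟩ := C.ident hC (ψ := mt (E (plusForm (d + 2) K))) (o := (0 : Fin (d + 2)))
      (span_E hG (by rw [Fintype.card_sum, Fintype.card_fin]; omega))
      (natAt_D hA (by omega) rfl (TypeD.M d).toCoxeterSystem)
      (fixD (by omega) rfl (TypeD.M d).toCoxeterSystem) (surjD hA rfl) hR hJ hD hL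
    obtain ⟨τ, rfl⟩ := ringEquiv_of_surj σ (identify_surj hC hθ)
    have hCj : CjOf (omegaGL (quadFormPlus (d + 2) F)) P := by
      refine cjOf_of (mem_omega_iff'' hG) (map_omega_glm τ fun v => ?_) hθ
      rw [coe_plusForm]
      exact quadFormPlus_map τ v
    obtain ⟨Q₁, hQ₁, hP, -⟩ := hCj.omega_form (by
      rw [← coe_plusForm]
      exact H925.isND_of_nondeg (nondeg_plusForm (d + 2) F))
    exact Or.inr (Or.inr (Or.inr ⟨Q₁, hQ₁, hP.ge⟩))

end Cfsg.Agent.H2.Rb.C156
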