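import Cfsg.Agent.H650.Ppd.Edge
import Cfsg.Agent.H650.Ppd.Count
import Cfsg.Agent.H2.Rb.Basic
import Cfsg.Agent.H887.DS.SixTen
import Cfsg.Agent.H911.AdA

/-!
# S3691 (S), small primes: `PSL_N(K)` in its own characteristic (from helper650's file for S5948, adapted by helper2)

* `nd_A` : the nodes of `SL(l + 1, E)`;
* `Row.le_of_dvd` : `r ∣ m`, `r ∣ |K| ^ e - 1`, `|K| = |F| ^ j` imply `k ≤ j e`;
* **`nat_psl`** : `Row k m P`, `Soc P ≃ PSL_N(K)`, `char K = char F` imply `Nat' P`.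
-/

set_option autoImplicit false
set_option linter.unusedSectionVars false
set_option linter.style.haveILetI false

namespace Cfsg.Agent.H2.Rb.C650

open Cfsg.Agent.H650.Ppd

open Matrix CoxeterSystem Cfsg.Agent.ChevalleyStructure.CoxeterGeom Cfsg.Agent.Tits.Roots Cfsg.Agent.Tits.Core
  Cfsg.Agent.Tits.Exchange Cfsg.Agent.Nodes.Reps Cfsg.Agent.Nodes.BNOf Cfsg.Agent.Nodes.StabComb
  Cfsg.Agent.Nodes.Bruhat Cfsg.Agent.Nodes.OppDec Cfsg.Agent.Nodes.LeviDec Cfsg.Agent.KFacts.RgdOpp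
  Cfsg.Agent.Omega.CR Cfsg.Agent.Omega.FOne.Lift.Sd Cfsg.Agent.H905.Md Cfsg.Agent.Nodes.RootsA
open Cfsg Cfsg.Geo
open Cfsg.Agent.H911 (lin)
open Cfsg.Agent.H911.Ad (bk bk_U bk_Lo bk_hh_mem)
open Cfsg.Agent.LieRecognition.BNCox (cA)
open Cfsg.Agent.Nodes.RGDTypeA (X_sr X_neg_sr mem_XX)
open Cfsg.Agent.H915.LD (Core Soc)
open Cfsg.Agent.H2.Rb.C100 (Row Num Nat')

universe u v

/-! ### nodes -/

theorem nd_A {E : Type*} [Field E] {l : ℕ} (i : Fin l) :
    Nd (Nodes.RGDTypeA.T (Fin (l + 1)) E) (Nodes.RGDTypeA.X E) i (bk E i) where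
  up x := by
    rw [X_sr, mem_XX]
    simp only [bk_U]
  lo x := by
    rw [X_neg_sr, mem_XX]
    simp only [bk_Lo]
  tor s := bk_hh_mem i s

/-! ### orders -/

section order

variable {n : ℕ} {F : Type u} [Field F] [Finite F] {k m : ℕ} {P : Subgroup (GL (Fin n) F)}

theorem le_of_dvd {q : ℕ} (h : Num q n k m) {r : ℕ} (hr : r.Prime) (hrm : r ∣ m) {Q j e : ℕ} (hQ : q ^ j = Q)
    (hj : 1 ≤ j) (he : 1 ≤ e) (hd : r ∣ Q ^ e - 1) : k ≤ j * e := by
  have : Fact r.Prime := ⟨hr⟩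
  refine Nat.le_of_dvd (Nat.mul_pos hj he) ?_
  rw [← h.pow_eq_one_iff hr hrm]
  have hq := h.one_lt_q
  have h1 : 1 ≤ Q ^ e := Nat.one_le_pow _ _ (by rw [← hQ]; exact Nat.pow_pos (by omega))
  rw [← ZMod.natCast_eq_zero_iff, Nat.cast_sub h1, Nat.cast_pow, Nat.cast_one, sub_eq_zero] at hd
  rw [← hd, ← hQ, Nat.cast_pow, pow_mul]

/-- a prime divisor of `m` dividing `|SL_N(K)|` -/
theorem le_of_dvd_sl (h : Row k m P) {K : Type*} [Field K] [Fintype K] {j N : ℕ} (hj : 1 ≤ j)
    (hjK : Nat.card F ^ j = Nat.card K) (hN : 2 ≤ N) {r : ℕ} (hr : r.Prime) (hrm : r ∣ m)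
    (hd : r ∣ Nat.card (SpecialLinearGroup (Fin N) K)) : k ≤ j * N := by
  rw [H953.card_SL N (by omega), hr.dvd_mul] at hd
  rcases hd with hd | hd
  · exfalso
    have h1 := hr.dvd_of_dvd_pow hd
    rw [← Nat.card_eq_fintype_card, ← hjK] at h1
    exact h.num.not_dvd_q hr hrm (hr.dvd_of_dvd_pow h1)
  · obtain ⟨e, he, hde⟩ := (Prime.dvd_finsetProd_iff hr.prime _).1 hd
    rw [Finset.mem_Icc] at he
    have h1 := le_of_dvd h.num hr hrm (hjK.trans Nat.card_eq_fintype_card) hj (by omega) hde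
    exact h1.trans (Nat.mul_le_mul_left _ he.2)

end order

/-! ### the bound -/

section bound

variable {F : Type u} [Field F] [Finite F] {ι : Type} [Fintype ι] [DecidableEq ι] {P : Subgroup (GL ι F)}
  {K : Type} [Field K] [Fintype K] (p : ℕ) [hp : Fact p.Prime] [hFp : CharP F p] [hKp : CharP K p] {l : ℕ}
include hp hFp hKp

/-- `n ≥ N + C(N, 2) (2 ^ j - 2)` -/
theorem card_ge_A (hC : Core P) (hl : 2 ≤ l) (Φ : Soc P ≃* ProjectiveSpecialLinearGroup (Fin (l + 1)) K) {j : ℕ}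
    (hj : Nat.card K = Nat.card F ^ j) :
    (l + 1) + (l + 1).choose 2 * (2 ^ j - 2) ≤ Fintype.card ι := by
  obtain ⟨φ, hφ, -, -⟩ := psl_cover p hC.perfect (by omega) (fun h => by omega) Φ
  have h2 := nonempty_of_psl hC.perfect (by omega) (fun h => by omega) Φ
  haveI : Nonempty ι := Fintype.card_pos_iff.1 (by omega)
  haveI : Finite (cA l).Group := finite_W (cA l).toCoxeterSystem (isCartan l)
  haveI hchar : CharP (AlgebraicClosure F) p := charP_of_injective_algebraMap (algebraMap F _).injective p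
  have R := Nodes.RGDTypeA.rgd (cA l).toCoxeterSystem (isCartan l) (F := K) (p := p)
  have hG := gg_eq_top (T := Nodes.RGDTypeA.T (Fin (l + 1)) K)
    (Nodes.RGDTypeA.G1_eq_top (F := K) (cA l).toCoxeterSystem (isCartan l))
  have hirr := ac_irr R hG slT_comm hφ hC.absIrred
  have hD := finrank_D R hirr slT_comm
  obtain ⟨i, hi⟩ := exists_not_mem R hirr (by rw [hD, Module.finrank_fintype_fun_eq_card]; omega)
  obtain ⟨d, hd2, hd⟩ := edge_pow_of_card R hG slT_comm hφ hC.absIrred (nd_A i) hi hj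
  have h3 := dim_ge_A R hirr hi
  have h4 := finrank_Io R hirr i
  rw [hd, hD] at h4
  rw [hD, mul_one, Module.finrank_fintype_fun_eq_card] at h3
  have h5 : 2 ^ j ≤ d ^ j := Nat.pow_le_pow_left hd2 j
  have h6 : l + 1 ≤ (l + 1).choose (i.val + 1) := by
    have h3 := i.2
    by_cases h4 : i.val = 0
    · rw [h4]; simp
    · by_cases h5 : i.val + 1 = l
      · rw [h5, Nat.choose_succ_self_right]
      · have h6 := choose_two_le (m := l + 1) (k := i.val + 1) (by omega) (by omega)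
        refine le_trans ?_ h6
        rw [Nat.choose_two_right, Nat.le_div_iff_mul_le (by norm_num)]
        rw [Nat.add_sub_cancel]
        exact Nat.mul_le_mul le_rfl (by omega)
  have h7 : (l + 1).choose 2 * (2 ^ j - 2) ≤ (l + 1).choose 2 *
      Module.finrank (AlgebraicClosure F) (Io (cA l).toCoxeterSystem (isCartan l)
        (Nodes.RGDTypeA.T (Fin (l + 1)) K) (Nodes.RGDTypeA.X K) (lin (acRep φ)) i) :=
    Nat.mul_le_mul_left _ (by omega)
  exact (Nat.add_le_add h6 h7).trans h3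

end bound

/-! ### `SL_3(K)` in dimension 10 -/

section three

variable {F : Type u} [Field F] [Finite F] {ι : Type} [Fintype ι] [DecidableEq ι] {P : Subgroup (GL ι F)}
  {E : Type*} [Field E] [Finite E] (p : ℕ) [hp : Fact p.Prime] [hFp : CharP F p] [hEp : CharP E p]
include hp hFp hEp

open Cfsg.Agent.H887.DS in
theorem card_eq_of_ten (hC : Core P) (Φ : Soc P ≃* ProjectiveSpecialLinearGroup (Fin 3) E)
    (hn : Fintype.card ι = 10) : Nat.card E = Nat.card F := by
  haveI : Nonempty ι := Fintype.card_pos_iff.1 (by omega)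
  obtain ⟨φ, hφ, -, -, hirr, ε, v, ψ, a, b, hv0, hψ0, ha, hb, hf, hc⟩ := exists_rep3 p hC Φ (by omega)
  obtain ⟨j, hj, hFE⟩ := psl_card (l := 2) p hC.absIrred hC.perfect (by norm_num) (fun h => by omega) Φ hC.no_subfield
  have key : ∀ c, OneCase p 3 c (Fintype.card ι) → ∃ r i, 1 ≤ r ∧ r < p ∧ c = r * p ^ i := by
    rintro c (⟨r, e, hr, hrp, hce, -⟩ | ⟨e, e', -, -, hn'⟩)
    · exact ⟨r, e, hr, hrp, hce⟩
    · omega
  rcases hc with ⟨rfl, hc⟩ | ⟨rfl, hc⟩ | ⟨-, h6, h9⟩
  · obtain ⟨r, i, hr, hrp, rfl⟩ := key _ hc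
    exact card_eq_of_dvd hj hFE hr hrp (Cfsg.Agent.H887.DS.dvd_zero p hirr hv0 hψ0 le_rfl hf)
  · obtain ⟨r, i, hr, hrp, rfl⟩ := key _ hc
    exact card_eq_of_dvd hj hFE hr hrp (Cfsg.Agent.H887.DS.dvd_last p hirr hv0 hψ0 le_rfl hf)
  · omega

end three

/-! ### arithmetic -/

theorem four_lt_two_pow {j : ℕ} (hj : 4 ≤ j) : 4 * j ≤ 2 ^ j := by
  induction j, hj using Nat.le_induction with
  | base => norm_num
  | succ j hj ih => rw [pow_succ]; omega

theorem two_pow_bound {j : ℕ} (hj : 2 ≤ j) : 2 * j ≤ 2 ^ j := by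
  induction j, hj using Nat.le_induction with
  | base => norm_num
  | succ j hj ih => rw [pow_succ]; omega

theorem two_pow_bound' {j : ℕ} (hj : 3 ≤ j) : 2 * j + 1 ≤ 2 ^ j := by
  induction j, hj using Nat.le_induction with
  | base => norm_num
  | succ j hj ih => rw [pow_succ]; omega

/-- `N + C(N, 2) (2 ^ j - 2) ≥ 2 j N`, `N ≥ 4`, `j ≥ 2` -/
theorem arith_A {N j : ℕ} (hN : 4 ≤ N) (hj : 2 ≤ j) : 2 * (j * N) ≤ N + N.choose 2 * (2 ^ j - 2) := by
  have h1 : 3 * N ≤ 2 * N.choose 2 := by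
    have h2 : N.choose 2 * 2 = N * (N - 1) := by
      rw [Nat.choose_two_right, Nat.div_mul_cancel]
      exact (Nat.even_mul_pred_self N).two_dvd
    rw [mul_comm 2, h2, mul_comm 3]
    exact Nat.mul_le_mul_left _ (by omega)
  have h2 := two_pow_bound hj
  obtain ⟨x, hx⟩ : ∃ x, 2 ^ j = x + 2 := ⟨2 ^ j - 2, by omega⟩
  rw [hx, Nat.add_sub_cancel]
  have h3 : 2 * (j - 1) ≤ x := by omega
  obtain ⟨i, rfl⟩ : ∃ i, j = i + 1 := ⟨j - 1, by omega⟩
  rw [Nat.add_sub_cancel] at h3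
  have h4 : 2 * (N.choose 2 * x) ≥ 3 * N * x := by
    rw [← mul_assoc]
    exact Nat.mul_le_mul_right _ h1
  have h5 : 3 * N * x ≥ 3 * N * (2 * i) := Nat.mul_le_mul_left _ h3
  have hi : 1 ≤ i := by omega
  have h6 : N ≤ N * i := Nat.le_mul_of_pos_right _ hi
  nlinarith

/-! ### the row -/

section row

variable {n : ℕ} {F : Type u} [Field F] [Finite F] {k m : ℕ} {P : Subgroup (GL (Fin n) F)}
  {K : Type} [Field K] [Fintype K] (p : ℕ) [hp : Fact p.Prime] [hFp : CharP F p] [hKp : CharP K p]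
include hp hFp hKp

/-- **`PSL_N(K)` in its own characteristic.** -/
theorem nat_psl (h : Row k m P) (hg : ∃ r, r.Prime ∧ r ∣ m ∧ r ∣ Nat.card (Soc P)) {N : ℕ} (hN : 2 ≤ N)
    (h4 : N = 2 → 4 ≤ Fintype.card K) (e : Soc P ≃* Matrix.ProjectiveSpecialLinearGroup (Fin N) K) : Nat' P := by
  have hC := h.core
  have hn := h.num
  obtain ⟨l, rfl⟩ : ∃ l, N = l + 1 := ⟨N - 1, by omega⟩
  have hK4 : l = 1 → 4 ≤ Nat.card K := fun hl => by
    rw [Nat.card_eq_fintype_card]; exact h4 (by omega)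
  obtain ⟨j, hj, hjK⟩ := psl_card p hC.absIrred hC.perfect (by omega) hK4 e hC.no_subfield
  have hk : k ≤ j * (l + 1) := by
    obtain ⟨r, hr, hrm, hrT⟩ := hg
    refine le_of_dvd_sl h hj hjK hN hr hrm (hrT.trans ?_)
    rw [Nat.card_congr e.toEquiv]
    exact Subgroup.card_quotient_dvd_card _
  have hn10 := hn.ten
  have hnlt : n < 2 * (j * (l + 1)) := lt_of_lt_of_le hn.nlt (Nat.mul_le_mul_left _ hk)
  rcases Nat.lt_or_ge l 2 with hl | hl
  · -- `N = 2`
    exfalso
    obtain rfl : l = 1 := by omega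
    have := Fintype.ofFinite F
    obtain ⟨s, d, hs0, hs, hd2, hd⟩ := H875.Psl2.exists_pow p hC e
    rw [Fintype.card_fin] at hd
    have hsj : s = j := by
      rw [Nat.card_eq_fintype_card, Nat.card_eq_fintype_card, hs] at hjK
      exact (Nat.pow_right_injective (Fintype.one_lt_card (α := F)) hjK).symm
    subst hsj
    have h5 : 2 ^ s ≤ d ^ s := Nat.pow_le_pow_left hd2 s
    rcases Nat.lt_or_ge s 4 with h6 | h6
    · interval_cases s
      · omega
      · omega
      · rcases Nat.lt_or_ge d 3 with h7 | h7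
        · obtain rfl : d = 2 := by omega
          omega
        · have := Nat.pow_le_pow_left h7 3
          omega
    · have := four_lt_two_pow h6
      omega
  · have hjK' : Nat.card K = Nat.card F ^ j := hjK.symm
    rcases Nat.lt_or_ge j 2 with hj1 | hj2
    · obtain rfl : j = 1 := by omega
      have hl5 : 5 ≤ l := by omega
      have h5 : n < (l + 1).choose 2 := by
        have h6 : (l + 1).choose 2 * 2 = (l + 1) * l := by
          rw [Nat.choose_two_right, Nat.add_sub_cancel, Nat.div_mul_cancel]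
          rw [mul_comm]
          exact (Nat.even_mul_succ_self l).two_dvd
        nlinarith
      have h6 := psl_dim p hC.absIrred hC.perfect (by omega) hK4 e hl (Or.inl (by rwa [Fintype.card_fin]))
      rw [Fintype.card_fin] at h6
      obtain ⟨-, h7⟩ := psl_eq p hC.absIrred hC.perfect (by omega) hK4 e hC.no_subfield h6
      exact Or.inl h7.ge
    · exfalso
      have h5 := card_ge_A p hC hl e hjK'
      rw [Fintype.card_fin] at h5
      rcases Nat.lt_or_ge l 3 with hl3 | hl3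
      · obtain rfl : l = 2 := by omega
        have h6 : (2 + 1).choose 2 = 3 := rfl
        rw [h6] at h5
        rcases Nat.lt_or_ge j 3 with hj3 | hj3
        · obtain rfl : j = 2 := by omega
          have h7 := H887.DS.dim3 p hC e (by rw [Fintype.card_fin]; omega)
          rw [Fintype.card_fin] at h7
          have h8 := card_eq_of_ten p hC e (by rw [Fintype.card_fin]; omega)
          rw [hjK'] at h8
          have h9 : 1 < Nat.card F := Finite.one_lt_card
          nlinarith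
        · have := two_pow_bound' hj3
          omega
      · have := arith_A (N := l + 1) (j := j) (by omega) hj2
        omega

end row

end Cfsg.Agent.H2.Rb.C650
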