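import Cfsg.Agent.H2.Rb.Ree

/-!
# S3691 (S), small primes, defining characteristic: Ree groups, the row (from helper909's file for S5948, adapted by helper2)
-/

set_option autoImplicit false
set_option linter.unusedSectionVars false

namespace Cfsg.Agent.H2.Rb.C909


open Matrix
open Cfsg Cfsg.Geo Cfsg.Lie Cfsg.Agent.ChevalleyStructure.Ree Cfsg.Agent.ChevalleyStructure.Ree.Words
  Cfsg.Agent.ChevalleyStructure.Ree.Gens Cfsg.Agent.ChevalleyStructure.Ree.Normal
  Cfsg.Agent.ChevalleyStructure.Ree.Bruhat Cfsg.Agent.ChevalleyStructure.Ree.Blocks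
  Cfsg.Agent.LieRecognition.ReeSylowThree Cfsg.Agent.FixBN.ReeSplit Cfsg.Agent.H905.Md Cfsg.Agent.H915.LD
  Cfsg.Agent.H911 Cfsg.Agent.H2.Rb.C100 Cfsg.Agent.H141.ReeK

universe u v w

section period

variable {F : Type*} [Field F] [Finite F] {ι : Type} [Fintype ι] [DecidableEq ι] {K : Type*} [Field K] [Fintype K]
  {m : ℕ} {P : Subgroup (GL ι F)}

/-- the values of the torus character lie in `F` -/
theorem period_aux [CharP F 3] (hC : Core P) (hK : Fintype.card K = 3 ^ (2 * m + 1)) {θ : K →+* K}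
    (c : Ctx θ (3 ^ m)) (j : K →+* AlgebraicClosure F) {φ : ↥(twistedG2 K (3 ^ m)) →* GL ι F} (hφ : φ.range = P)
    {v : ι → AlgebraicClosure F} {r : ℕ} (hv : v ≠ 0)
    (hU : ∀ t u w, lin (acRep φ) (Data.U K (3 ^ m) t u w) v = v)
    (hT : ∀ α : Kˣ, lin (acRep φ) (Data.T c α) v = j (c.dd α) ^ r • v) (α : Kˣ) :
    (j (c.dd α) ^ r) ^ Nat.card F = j (c.dd α) ^ r := by
  classical
  have h3p : Fact (Nat.Prime 3) := ⟨Nat.prime_three⟩
  have hk : CharP (AlgebraicClosure F) 3 :=
    charP_of_injective_ringHom (algebraMap F (AlgebraicClosure F)).injective 3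
  have hfin : Finite ↥(twistedG2 K (3 ^ m)) := finite (Data.data c)
  have := Fintype.ofFinite F
  obtain ⟨f, hf0, hf⟩ := FiniteField.card F 3
  set fr : AlgebraicClosure F →+* AlgebraicClosure F := iterateFrobenius (AlgebraicClosure F) 3 f with hfr
  have hfrx : ∀ x, fr x = x ^ Nat.card F := by
    intro x
    rw [hfr, iterateFrobenius_def, Nat.card_eq_fintype_card, hf]
  have hfrF : ∀ a : F, fr (algebraMap F (AlgebraicClosure F) a) = algebraMap F (AlgebraicClosure F) a := by
    intro a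
    rw [hfrx, ← map_pow, Nat.card_eq_fintype_card, FiniteField.pow_card]
  have hcomm : ∀ g (x : ι → AlgebraicClosure F), lin (acRep φ) g (fr ∘ x) = fr ∘ lin (acRep φ) g x := by
    intro g x
    rw [lin_apply, lin_apply, acRep_apply]
    funext i
    have h1 := RingHom.map_mulVec fr ((φ g : Matrix ι ι F).map (algebraMap F (AlgebraicClosure F))) x i
    have h2 : ((φ g : Matrix ι ι F).map (algebraMap F (AlgebraicClosure F))).map fr =
        (φ g : Matrix ι ι F).map (algebraMap F (AlgebraicClosure F)) := by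
      ext a b
      exact hfrF _
    rw [h2] at h1
    exact h1.symm
  have hfrv : ∀ w, w ∈ uSub (Data.data c) → lin (acRep φ) w (fr ∘ v) = fr ∘ v := by
    rintro _ ⟨t, u, w, rfl⟩
    rw [hcomm, hU]
  obtain ⟨a, ha⟩ := fixed_unique (ree_sp1 hK (Data.data c)) (reeT_comm (Data.data c)) (ρ := lin (acRep φ))
    (fun L hL => acRep_irr hφ (H920.span_eq_top hC.absIrred) rfl L fun g _ v hv => hL g v hv) hv
    (by rintro _ ⟨t, u, w, rfl⟩; exact hU t u w) hfrv
  have hfr0 : fr ∘ v ≠ 0 := by
    intro h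
    apply hv
    funext i
    have h1 : fr (v i) = 0 := congrFun h i
    exact (map_eq_zero fr).1 h1
  have h1 := hcomm (Data.T c α) v
  have h2 : fr ∘ (j (c.dd α) ^ r • v) = fr (j (c.dd α) ^ r) • (fr ∘ v) := by
    funext i
    exact map_mul fr _ _
  rw [hT, h2] at h1
  have h3 : lin (acRep φ) (Data.T c α) (fr ∘ v) = j (c.dd α) ^ r • (fr ∘ v) := by
    rw [ha, map_smul, hT, smul_comm]
  rw [h3] at h1
  rw [← hfrx]
  exact (smul_left_injective (AlgebraicClosure F) hfr0 h1).symm

theorem dd_surj {θ : K →+* K} (c : Ctx θ (3 ^ m)) (x : Kˣ) : ∃ α : Kˣ, c.dd α = x := by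
  have h1 : Function.Injective (ddU c) := fun a b h => by rw [← ddInv_ddU c a, h, ddInv_ddU c b]
  obtain ⟨α, hα⟩ := (Finite.surjective_of_injective h1) x
  exact ⟨α, congrArg Units.val hα⟩

/-- **The exponent is periodic.** -/
theorem period [CharP F 3] (hC : Core P) (hK : Fintype.card K = 3 ^ (2 * m + 1)) {θ : K →+* K}
    (c : Ctx θ (3 ^ m)) (j : K →+* AlgebraicClosure F) {φ : ↥(twistedG2 K (3 ^ m)) →* GL ι F} (hφ : φ.range = P)
    {v : ι → AlgebraicClosure F} {r : ℕ} (hv : v ≠ 0)
    (hU : ∀ t u w, lin (acRep φ) (Data.U K (3 ^ m) t u w) v = v)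
    (hT : ∀ α : Kˣ, lin (acRep φ) (Data.T c α) v = j (c.dd α) ^ r • v) :
    Fintype.card K - 1 ∣ r * (Nat.card F - 1) := by
  classical
  obtain ⟨ζ, hζ⟩ := IsCyclic.exists_generator (α := Kˣ)
  have hord : orderOf ζ = Fintype.card K - 1 := by
    rw [orderOf_eq_card_of_forall_mem_zpowers hζ, Nat.card_eq_fintype_card, Fintype.card_units]
  rw [← hord]
  apply orderOf_dvd_of_pow_eq_one
  obtain ⟨α, hα⟩ := dd_surj c ζ
  have h1 := period_aux hC hK c j hφ hv hU hT α
  rw [hα, ← map_pow, ← map_pow, ← pow_mul] at h1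
  have h2 := j.injective h1
  apply Units.ext
  rw [Units.val_pow_eq_pow_val, Units.val_one]
  have hq : 1 ≤ Nat.card F := Nat.card_pos
  obtain ⟨q', hq'⟩ : ∃ q', Nat.card F = q' + 1 := ⟨Nat.card F - 1, by omega⟩
  rw [hq', Nat.add_sub_cancel]
  rw [hq', mul_add, mul_one, pow_add] at h2
  have h3 : (ζ : K) ^ r ≠ 0 := pow_ne_zero _ ζ.ne_zero
  exact mul_right_cancel₀ h3 (by rw [h2, one_mul])

end period

section small

open Cfsg.Agent.H909.ReeKer Cfsg.Agent.H909.Sp4Ker Cfsg.Agent.H875.Fn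

variable {k V : Type*} [Field k] [CharP k 3] [AddCommGroup V] [Module k V] [FiniteDimensional k V] {K : Type*}
  [Field K] [Fintype K]
  {ρ : ↥(twistedG2 K (3 ^ 1)) →* Module.End k V} {θ : K →+* K} (c : Ctx θ (3 ^ 1)) (j : K →+* k)

/-- the involution commutes with the columns -/
theorem comm_col (y : K) : Data.T c (-1) * (Data.N c * Data.U K (3 ^ 1) 0 y 0 * Data.N c) =
    (Data.N c * Data.U K (3 ^ 1) 0 y 0 * Data.N c) * Data.T c (-1) := by
  have D := Data.data c
  have h1 : Data.N c * Data.T c (-1) = Data.T c (-1) * Data.N c := by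
    have := D.n_h (-1)
    rwa [inv_neg, inv_one] at this
  have h2 : Data.T c (-1) * Data.U K (3 ^ 1) 0 y 0 = Data.U K (3 ^ 1) 0 y 0 * Data.T c (-1) := by
    rw [D.h_U]
    congr 1
    have e1 : ((-1 : Kˣ) : K) ^ (3 ^ (1 + 1) + 3) = 1 := by
      rw [Units.val_neg, Units.val_one]; norm_num
    rw [e1, one_mul, mul_zero, mul_zero]
  calc Data.T c (-1) * (Data.N c * Data.U K (3 ^ 1) 0 y 0 * Data.N c)
      = (Data.T c (-1) * Data.N c) * Data.U K (3 ^ 1) 0 y 0 * Data.N c := by group
    _ = Data.N c * (Data.T c (-1) * Data.U K (3 ^ 1) 0 y 0) * Data.N c := by rw [← h1]; group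
    _ = Data.N c * Data.U K (3 ^ 1) 0 y 0 * (Data.T c (-1) * Data.N c) := by rw [h2]; group
    _ = _ := by rw [← h1]; group

theorem dd_neg_one : c.dd (-1) = -1 := by
  unfold Ctx.dd
  rw [Units.val_neg, Units.val_one, map_neg, map_one]
  ring

theorem negone_sq : Data.T c (-1) * Data.T c (-1) = 1 := by
  rw [← (Data.data c).h_mul, neg_mul_neg, one_mul, (Data.data c).h_one]

/-- the vectors negated by the involution, exponent 13, `|K| = 27` -/
theorem ng_ge (hK : Fintype.card K = 3 ^ (2 * 1 + 1)) {v : V} {ψ : Module.Dual k V}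
    (hT : ∀ α : Kˣ, ρ (Data.T c α) v = j (c.dd α) ^ 13 • v)
    (hker : ∀ t u w t' u' w', ψ (ρ (Data.U K (3 ^ 1) t u w) (ρ
        (Data.N c * Data.U K (3 ^ 1) t' u' w' * Data.N c) v)) = j (ker (3 ^ 1) t u w t' u' w') ^ 13) :
    27 ≤ Module.finrank k (ng ρ (Data.T c (-1))) := by
  classical
  have hm : ∀ a b y, ρ (a * b) y = ρ a (ρ b y) := fun a b y => by rw [map_mul]; rfl
  have hzv : ρ (Data.T c (-1)) v = -v := by
    rw [hT, dd_neg_one, map_neg, map_one, neg_one_pow_eq_neg_one_iff_odd (by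
      intro h
      have h2 : (2 : k) = 0 := by
        linear_combination -h
      have h1 : ((2 : ℕ) : k) = 0 := by exact_mod_cast h2
      rw [CharP.cast_eq_zero_iff k 3] at h1
      omega) |>.2 (by decide), neg_one_smul]
  have hmem : ∀ y : K, ρ (Data.N c * Data.U K (3 ^ 1) 0 y 0 * Data.N c) v ∈ ng ρ (Data.T c (-1)) := by
    intro y
    rw [mem_ng, ← hm, comm_col, hm, hzv, map_neg]
  have hrows := rows_eq j hK (f := fun t u w => ψ.comp (ρ (Data.U K (3 ^ 1) t u w)))
    (w := fun t u w => ρ (Data.N c * Data.U K (3 ^ 1) t u w * Data.N c) v) (c := 13) hker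
  have h27 : Fintype.card K = 27 := by rw [hK]; norm_num
  have hred : red (Fintype.card K) ((1 + 3 ^ 1) * (13 - 0)) = 26 := by rw [h27]; decide
  have hex : ∀ κ : SS 3 26, ∃ G : Module.Dual k (ng ρ (Data.T c (-1))), ∀ y : K,
      G ⟨ρ (Data.N c * Data.U K (3 ^ 1) 0 y 0 * Data.N c) v, hmem y⟩ =
        (Nat.choose 13 0 : k) * j y ^ ((1 + 3 ^ 1) * 0 + (κ : ℕ)) := by
    intro κ
    refine exists_fun j (e := 3 ^ 1) (c := 13) (δ := 0)
      (fun u V' => (ψ.comp (ρ (Data.U K (3 ^ 1) 0 u (V' ^ (3 ^ 1 * 3))))).comp (ng ρ (Data.T c (-1))).subtype)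
      (fun y => ⟨ρ (Data.N c * Data.U K (3 ^ 1) 0 y 0 * Data.N c) v, hmem y⟩) hrows (Nat.zero_le _) ?_ ?_
    · rw [hred]
      exact κ.2
    · intro d hd _ hcol
      left
      rw [mul_zero, red_zero] at hcol
      by_contra hne
      exact red_ne_zero (by omega) hcol
  choose G hG using hex
  have h1 := le_of_powers j G (fun y => ⟨ρ (Data.N c * Data.U K (3 ^ 1) 0 y 0 * Data.N c) v, hmem y⟩)
    (fun _ => (Nat.choose 13 0 : k)) (fun κ => (1 + 3 ^ 1) * 0 + (κ : ℕ)) (fun _ => by simp) hG (by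
      intro i l hil
      have hi := (mem_SS.1 i.2).1
      have hl := (mem_SS.1 l.2).1
      change red _ ((1 + 3 ^ 1) * 0 + (i : ℕ)) = red _ ((1 + 3 ^ 1) * 0 + (l : ℕ)) at hil
      rw [h27, mul_zero, zero_add, zero_add, red_eq (by omega), red_eq (by omega)] at hil
      exact Subtype.ext hil)
  have h2 : (SS 3 26).card = 27 := by
    have := card3 (x := 2) (y := 2) (z := 2) (show 0 < 1 by norm_num) (show 1 < 2 by norm_num) (by norm_num)
      (by norm_num) (by norm_num)
    norm_num at this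
    exact this
  rwa [Fintype.card_coe, h2] at h1

end small

section row

open Cfsg.Agent.H909.ReeKer

variable {n : ℕ} {F : Type u} [Field F] [Finite F] {k m : ℕ} {P : Subgroup (GL (Fin n) F)}

theorem dvd_six {r Q : ℕ} (hr : r.Prime) (hQ : ¬ r ∣ Q) (h : r ∣ Q ^ 3 * (Q - 1) * (Q ^ 3 + 1)) :
    r ∣ Q ^ 6 - 1 := by
  rcases Nat.eq_zero_or_pos Q with rfl | hQ1
  · exact absurd (dvd_zero r) hQ
  obtain ⟨Q', rfl⟩ : ∃ Q', Q = Q' + 1 := ⟨Q - 1, by omega⟩
  have h2 : (Q' + 1) ^ 6 - 1 = (Q' + 1 - 1) * ((Q' + 1) ^ 2 + (Q' + 1) + 1) * ((Q' + 1) ^ 3 + 1) := by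
    have h3 : (Q' + 1) ^ 6 = (Q' + 1 - 1) * ((Q' + 1) ^ 2 + (Q' + 1) + 1) * ((Q' + 1) ^ 3 + 1) + 1 := by
      rw [Nat.add_sub_cancel]; ring
    omega
  rw [h2]
  rcases (Nat.Prime.dvd_mul hr).1 h with h3 | h3
  · rcases (Nat.Prime.dvd_mul hr).1 h3 with h4 | h4
    · exact absurd (hr.dvd_of_dvd_pow h4) hQ
    · exact (h4.mul_right _).mul_right _
  · exact h3.mul_left _

/-- **Ree groups in characteristic three.** -/
theorem not_ree_of [CharP F 3] (h : Row k m P) (hg : ∃ r, r.Prime ∧ r ∣ m ∧ r ∣ Nat.card (Soc P))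
    {K : Type v} [Field K] [Fintype K] {l : ℕ} (hl : 1 ≤ l) (hK : Fintype.card K = 3 ^ (2 * l + 1))
    (e : Soc P ≃* ↥(twistedG2 K (3 ^ l))) : False := by
  classical
  have h3p : Fact (Nat.Prime 3) := ⟨Nat.prime_three⟩
  have hk : CharP (AlgebraicClosure F) 3 :=
    charP_of_injective_ringHom (algebraMap F (AlgebraicClosure F)).injective 3
  have hC := h.core
  have hn := h.num.nlt
  have hten := h.num.ten
  -- `|F| ^ s = |K|`
  obtain ⟨s, hs, hFs⟩ := card_pow_eq (F := F) 3 (a := 2 * l + 1) (by omega)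
    (pow_eq_of_no_subfield hC.absIrred hC.no_subfield 3 _ fun g hg => by
      rw [← hK]
      exact (ree_both hC.absIrred hC.perfect hl hK e hg).1)
  have hF := Fintype.ofFinite F
  obtain ⟨f, hf0, hf⟩ := FiniteField.card F 3
  have hF3 : Nat.card F = 3 ^ (f : ℕ) := by rw [Nat.card_eq_fintype_card, hf]
  have hfs : (f : ℕ) * s = 2 * l + 1 := by
    rw [hF3, ← pow_mul] at hFs
    exact Nat.pow_right_injective (show 2 ≤ 3 by norm_num) hFs
  -- `k ≤ 6 s`
  obtain ⟨r', hr', hrm, hrc⟩ := hg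
  have hkd : k ∣ 6 * s := by
    refine k_dvd h hr' hrm ?_
    rw [Nat.card_congr e.toEquiv, Cfsg.Agent.LieRecognition.ReeFinal.card hK, ← hFs] at hrc
    rw [mul_comm, pow_mul]
    exact dvd_six hr' (fun h1 => h.num.not_dvd_q hr' hrm (hr'.dvd_of_dvd_pow h1)) hrc
  have hk2 : k ≤ 6 * s := Nat.le_of_dvd (by omega) hkd
  -- `s = 1`
  by_cases hs1 : s = 1
  · have h7 := Cfsg.Agent.H708.ReeSix.ree_eq_seven hC hl hK e (by rw [Fintype.card_fin]; omega)
    rw [Fintype.card_fin] at h7
    omega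
  have hs3 : 3 ≤ s := by
    have hodd : Odd (f * s : ℕ) := ⟨l, by rw [hfs]⟩
    have := (Nat.odd_mul.1 hodd).2
    obtain ⟨b, hb⟩ := this
    omega
  -- the coefficient
  obtain ⟨θ, c⟩ := exists_ctx hK
  obtain ⟨j⟩ := H141.ReeK.exists_emb F hK
  obtain ⟨φ, v, ψ, r, hφ, hinj, hr1, hr2, hψv, hU, hT, hψU, hψn, -, hker⟩ := core_coef hC hl hK e c j
  have hv : v ≠ 0 := by
    rintro rfl
    rw [map_zero] at hψv
    exact zero_ne_one hψv
  -- `r = t (1 + q + ...)`
  have hper := period hC hK c j hφ hv hU hT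
  have hq3 : 3 ^ 1 ≤ 3 ^ (f : ℕ) := Nat.pow_le_pow_right (by norm_num) f.pos
  have hGm := Gm_mul f s
  rw [hfs] at hGm
  obtain ⟨t, ht⟩ : Gm f s ∣ r := by
    rw [hK, hF3] at hper
    have h1 : 3 ^ (2 * l + 1) - 1 = Gm f s * (3 ^ (f : ℕ) - 1) := by omega
    rw [h1] at hper
    exact Nat.dvd_of_mul_dvd_mul_right (by omega) hper
  have ht1 : 1 ≤ t := by
    rcases Nat.eq_zero_or_pos t with rfl | h1
    · rw [mul_zero] at ht; omega
    · exact h1
  have ht2 : t ≤ 3 ^ (f : ℕ) - 1 := by
    have h1 : Gm f s * t ≤ Gm f s * (3 ^ (f : ℕ) - 1) := by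
      rw [← ht]
      rw [hK] at hr2
      omega
    exact Nat.le_of_mul_le_mul_left h1 (Gm_pos (by omega))
  rw [mul_comm] at ht
  have hfr : Module.finrank (AlgebraicClosure F) (Fin n → AlgebraicClosure F) = n := by
    rw [Module.finrank_fintype_fun_eq_card, Fintype.card_fin]
  rcases per_le (V := Fin n → AlgebraicClosure F) j hl hK hfs ht1 ht2
    (f := fun t u w => ψ.comp (lin (acRep φ) (Data.U K (3 ^ l) t u w)))
    (w := fun t u w => lin (acRep φ) (Data.N c * Data.U K (3 ^ l) t u w * Data.N c) v)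
    (by rw [← ht]; exact hker) with h4 | h4
  · rw [hfr] at h4
    have := four_mul_le hs3
    omega
  · rw [hfr, hK, ← hfs] at h4
    by_cases hs4 : 4 ≤ s
    · have h5 := three_mul_le hs4
      have h6 : 3 ^ s ≤ 3 ^ ((f : ℕ) * s) := Nat.pow_le_pow_right (by norm_num) (Nat.le_mul_of_pos_left _ f.pos)
      omega
    · have hs3' : s = 3 := by omega
      subst hs3'
      by_cases hf1 : (f : ℕ) = 1
      · -- `|K| = 27`
        rw [hf1] at hfs ht ht2
        have hl1 : l = 1 := by omega
        subst hl1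
        have hG13 : Gm 1 3 = 13 := by decide
        rw [hG13] at ht
        have h2k : (2 : AlgebraicClosure F) ≠ 0 := by
          intro h0
          have h1 : ((2 : ℕ) : AlgebraicClosure F) = 0 := by exact_mod_cast h0
          rw [CharP.cast_eq_zero_iff (AlgebraicClosure F) 3] at h1
          omega
        have hfin : Finite ↥(twistedG2 K (3 ^ 1)) := finite (Data.data c)
        have ht12 : t = 1 ∨ t = 2 := by
          norm_num at ht2
          omega
        rcases ht12 with rfl | rfl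
        · -- exponent 13
          rw [one_mul] at ht
          subst ht
          have h27 := ng_ge c j hK hT hker
          set z := Data.T c (-1) with hz
          have hzz : z * z = 1 := negone_sq c
          have hz1 : z ≠ 1 := by
            intro h1
            have h5 := hT (-1)
            rw [← hz, h1, map_one, Module.End.one_apply, dd_neg_one, map_neg, map_one] at h5
            have h6 : v = -v := by
              refine h5.trans ?_
              norm_num
            have h7 : (2 : AlgebraicClosure F) • v = 0 := by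
              rw [two_smul]
              nth_rewrite 2 [h6]
              exact add_neg_cancel v
            exact hv ((smul_eq_zero.1 h7).resolve_left h2k)
          have h2g : IsPGroup 2 (Subgroup.zpowers z) := by
            apply IsPGroup.of_card (n := 1)
            rw [Nat.card_zpowers, orderOf_eq_prime (p := 2) (by rw [pow_two, hzz]) hz1, pow_one]
          obtain ⟨S, hS⟩ := h2g.exists_le_sylow
          have hzS : z ∈ (S : Subgroup ↥(twistedG2 K (3 ^ 1))) := hS (Subgroup.mem_zpowers z)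
          obtain ⟨a, haH, ha1, ha2⟩ := Cfsg.Agent.S1157.exists_involution hK
          obtain ⟨h8, -⟩ := (Cfsg.Agent.S1152.result hK a haH ha1 ha2).2 S
          obtain ⟨g, hgS, hg7, hfix⟩ := Cfsg.Agent.H708.ReeSix.ree_data' (by norm_num) hK S
          have hz'S := hgS z hzS
          have hz'1 : g⁻¹ * z * g ≠ 1 := by
            intro h1
            apply hz1
            have h5 : z = g * (g⁻¹ * z * g) * g⁻¹ := by group
            rw [h5, h1]
            group
          have hzz'1 : z * (g⁻¹ * z * g) ≠ 1 := by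
            intro h1
            apply hz1
            apply hfix z hzS
            have h5 : z⁻¹ = z := inv_eq_of_mul_eq_one_left hzz
            have h6 : g⁻¹ * z * g = z⁻¹ := eq_inv_of_mul_eq_one_right h1
            rw [h6, h5]
          obtain ⟨x, hx⟩ := exists_conj h8 hgS hg7 hfix hzS hz1 (mul_mem hzS hz'S) hzz'1
          have h5 := ng_three (ρ := lin (acRep φ)) h2k (z := z) (z' := g⁻¹ * z * g) 27 h27
            (h27.trans ng_conj_le) (by rw [hx]; exact h27.trans ng_conj_le)
          rw [hfr] at h5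
          omega
        · -- exponent 26
          have hcard : Nat.card (uSub (Data.data c)) = 27 ^ 3 := by rw [card_uSub, hK]; norm_num
          have h5 := steinberg_le (ree_sp1 hK (Data.data c)) (ρ := lin (acRep φ)) (v := v) (ψ := ψ)
            (by rintro _ ⟨t, u, w, rfl⟩; exact hU t u w)
            (by
              rintro _ ⟨α, rfl⟩
              rw [hT, ht, ← map_pow]
              have h6 : c.dd α ^ (2 * 13) = 1 := by
                have := FiniteField.pow_card_sub_one_eq_one _ (c.dd_ne α)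
                rw [hK] at this
                norm_num at this
                exact this
              rw [h6, map_one, one_smul])
            (by
              rintro _ ⟨t, u, w, rfl⟩ x
              rw [(Data.data c).n_inv]
              exact hψU t u w x) hψv hψn
          rw [hcard, hfr] at h5
          omega
      · have hf2 : 2 ≤ (f : ℕ) := by
          have := f.pos
          omega
        have h6 : 3 ^ (2 * 3) ≤ 3 ^ ((f : ℕ) * 3) := Nat.pow_le_pow_right (by norm_num) (by omega)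
        norm_num at h6
        omega

/-- **Ree groups in characteristic three.** -/
theorem not_ree {p : ℕ} [Fact p.Prime] [CharP F p] (h : Row k m P)
    (hg : ∃ r, r.Prime ∧ r ∣ m ∧ r ∣ Nat.card (Soc P)) (hp : p = 3) (hT : Lie.IsoRee (Soc P)) : False := by
  subst hp
  obtain ⟨K, _, _, l, hl, hK, ⟨e⟩⟩ := hT
  exact not_ree_of h hg hl hK e

end row

end Cfsg.Agent.H2.Rb.C909
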