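import Cfsg.Agent.H2.Rb.Basic
import Cfsg.Agent.H861.SzN.Main
import Cfsg.Agent.S1163

/-!
# S3691 (S), small primes, defining characteristic: Suzuki groups (from helper909's file for S5948, adapted by helper2)

`not_sz` : a row with socle a Suzuki group in characteristic two, one prime of `m` dividing the order, is impossible.
-/

set_option autoImplicit false
set_option linter.unusedSectionVars false

namespace Cfsg.Agent.H2.Rb.C909


open Cfsg Cfsg.Geo Matrix Cfsg.Agent.H915.LD Cfsg.Agent.H861.SzN Cfsg.Agent.H2.Rb.C100 Cfsg.Agent.H905.Md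

universe u v

section shift

variable {K k : Type*} [Field K] [Fintype K] [Field k] {N : ℕ} [NeZero N]

/-- the shift of the indices -/
def sh (f : ℕ) (i : Fin N) : Fin N := ix ((i : ℕ) + f)

theorem ix_val (n : ℕ) : ((ix n : Fin N) : ℕ) = n % N := rfl

theorem sh_injective (f : ℕ) : Function.Injective (sh f : Fin N → Fin N) := by
  intro i j h
  have h1 : ((i : ℕ) + f) % N = ((j : ℕ) + f) % N := congrArg Fin.val h
  have h2 : (i : ℕ) ≡ j [MOD N] := Nat.ModEq.add_right_cancel' f h1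
  exact Fin.ext (Nat.ModEq.eq_of_lt_of_lt h2 i.2 j.2)

theorem tw_pow_two (j : K →+* k) (hK : Fintype.card K = 2 ^ N) (i : Fin N) (f : ℕ) (x : K) :
    tw j i x ^ 2 ^ f = tw j (sh f i) x := by
  unfold sh
  rw [tw_ix j hK]
  unfold tw
  rw [← pow_mul, ← pow_add]

theorem image_eq (j : K →+* k) (hK : Fintype.card K = 2 ^ N) {S : Finset (Fin N)} {f : ℕ}
    (h : ∀ x : K, (∏ i ∈ S, tw j i x) ^ 2 ^ f = ∏ i ∈ S, tw j i x) : S.image (sh f) = S := by
  classical
  apply (li_mo (N := N) j hK).injective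
  funext x
  change (((S.image (sh f)).val.map fun i => tw j i x)).prod = (S.val.map fun i => tw j i x).prod
  change ∏ i ∈ S.image (sh f), tw j i x = ∏ i ∈ S, tw j i x
  rw [Finset.prod_image fun a _ b _ hab => sh_injective f hab, ← h x, ← Finset.prod_pow]
  exact Finset.prod_congr rfl fun i _ => (tw_pow_two j hK i f x).symm

theorem le_card {S : Finset (Fin N)} (hS : S.Nonempty) {f s : ℕ} (hfs : f * s = N) (h : S.image (sh f) = S) :
    s ≤ S.card := by
  classical
  obtain ⟨i₀, hi₀⟩ := hS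
  have hN : 0 < N := Nat.pos_of_neZero N
  have hf : 0 < f := Nat.pos_of_ne_zero (by rintro rfl; omega)
  have h1 : ∀ a : ℕ, (ix ((i₀ : ℕ) + f * a) : Fin N) ∈ S := by
    intro a
    induction a with
    | zero =>
      have : (ix ((i₀ : ℕ) + f * 0) : Fin N) = i₀ := by
        apply Fin.ext
        rw [ix_val, mul_zero, add_zero, Nat.mod_eq_of_lt i₀.2]
      rw [this]
      exact hi₀
    | succ a ih =>
      have h2 : sh f (ix ((i₀ : ℕ) + f * a) : Fin N) ∈ S.image (sh f) := Finset.mem_image_of_mem _ ih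
      rw [h] at h2
      have h3 : sh f (ix ((i₀ : ℕ) + f * a) : Fin N) = ix ((i₀ : ℕ) + f * (a + 1)) := by
        apply Fin.ext
        unfold sh
        rw [ix_val, ix_val, ix_val, Nat.mod_add_mod]
        congr 1
        ring
      rwa [h3] at h2
  have h2 : Set.InjOn (fun a : ℕ => (ix ((i₀ : ℕ) + f * a) : Fin N)) (Finset.range s : Finset ℕ) := by
    intro a ha b hb hab
    rw [Finset.coe_range, Set.mem_Iio] at ha hb
    have h3 : ((i₀ : ℕ) + f * a) % N = ((i₀ : ℕ) + f * b) % N := congrArg Fin.val hab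
    have h4 : f * a ≡ f * b [MOD N] := Nat.ModEq.add_left_cancel' _ h3
    have h5 : f * a < N := by rw [← hfs]; exact Nat.mul_lt_mul_of_pos_left ha hf
    have h6 : f * b < N := by rw [← hfs]; exact Nat.mul_lt_mul_of_pos_left hb hf
    exact Nat.eq_of_mul_eq_mul_left hf (Nat.ModEq.eq_of_lt_of_lt h4 h5 h6)
  have h3 := Finset.card_le_card_of_injOn (s := Finset.range s) (t := S) _ (fun a _ => h1 a) h2
  rwa [Finset.card_range] at h3

end shift

/-- `k` divides the exponent -/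
theorem k_dvd {n : ℕ} {F : Type u} [Field F] [Finite F] {k m : ℕ} {P : Subgroup (GL (Fin n) F)} (h : Row k m P)
    {r i : ℕ} (hr : r.Prime) (hrm : r ∣ m) (hd : r ∣ Nat.card F ^ i - 1) : k ∣ i := by
  have : Fact r.Prime := ⟨hr⟩
  rw [← h.num.pow_eq_one_iff hr hrm]
  have h1 : 1 ≤ Nat.card F ^ i := Nat.one_le_pow _ _ (by have := h.num.one_lt_q; omega)
  have h2 : ((Nat.card F ^ i - 1 : ℕ) : ZMod r) = 0 := (ZMod.natCast_eq_zero_iff _ _).2 hd
  rw [Nat.cast_sub h1, Nat.cast_pow, Nat.cast_one, sub_eq_zero] at h2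
  exact h2

theorem dvd_aux {r Q : ℕ} (hr : r.Prime) (hQ : ¬ r ∣ Q) (h : r ∣ Q ^ 2 * (Q - 1) * (Q ^ 2 + 1)) :
    r ∣ Q ^ 4 - 1 := by
  rcases Nat.eq_zero_or_pos Q with rfl | hQ1
  · exact absurd (dvd_zero r) hQ
  obtain ⟨Q', rfl⟩ : ∃ Q', Q = Q' + 1 := ⟨Q - 1, by omega⟩
  have h2 : (Q' + 1) ^ 4 - 1 = (Q' + 1 - 1) * (Q' + 1 + 1) * ((Q' + 1) ^ 2 + 1) := by
    have h3 : (Q' + 1) ^ 4 = (Q' + 1 - 1) * (Q' + 1 + 1) * ((Q' + 1) ^ 2 + 1) + 1 := by
      rw [Nat.add_sub_cancel]; ring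
    omega
  rw [h2]
  rcases (Nat.Prime.dvd_mul hr).1 h with h3 | h3
  · rcases (Nat.Prime.dvd_mul hr).1 h3 with h4 | h4
    · exact absurd (hr.dvd_of_dvd_pow h4) hQ
    · exact (h4.mul_right _).mul_right _
  · exact h3.mul_left _

variable {n : ℕ} {F : Type u} [Field F] [Finite F] {k m : ℕ} {P : Subgroup (GL (Fin n) F)}

/-- **Suzuki groups in characteristic two.** -/
theorem not_sz_of [CharP F 2] (h : Row k m P) (hg : ∃ r, r.Prime ∧ r ∣ m ∧ r ∣ Nat.card (Soc P))
    {K : Type v} [Field K] [Fintype K] {l : ℕ} (hl : 1 ≤ l) (hK : Fintype.card K = 2 ^ (2 * l + 1))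
    (e : Soc P ≃* Cfsg.Lie.Sz K (2 ^ (l + 1))) : False := by
  classical
  have : Fact (Nat.Prime 2) := ⟨Nat.prime_two⟩
  have hC := h.core
  obtain ⟨j⟩ := exists_emb F hK
  obtain ⟨φ, S, hφ, hS, hcard, htr⟩ := sz_model hC hl hK e j
  rw [Fintype.card_fin] at hcard
  -- `|F| ^ s = |K|`
  obtain ⟨s, hs, hFs⟩ := card_pow_eq (F := F) 2 (a := 2 * l + 1) (by omega)
    (pow_eq_of_no_subfield hC.absIrred hC.no_subfield 2 _ fun g hg => by
      rw [← hK]
      exact (sz_both hC.absIrred hC.perfect hl hK e hg).1)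
  have := Fintype.ofFinite F
  obtain ⟨f, hf0, hf⟩ := FiniteField.card F 2
  have hfs : (f : ℕ) * s = 2 * l + 1 := by
    rw [Nat.card_eq_fintype_card, hf, ← pow_mul] at hFs
    exact Nat.pow_right_injective le_rfl hFs
  -- periodicity
  have hper : S.image (sh (f : ℕ)) = S := by
    refine image_eq j hK fun x => ?_
    obtain ⟨g, rfl⟩ := trace_surj hK x
    rw [← htr, ← map_pow, ← hf, FiniteField.pow_card]
  have hle : s ≤ S.card := le_card hS hfs hper
  have h4 : 4 ^ s ≤ n := by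
    rw [hcard]
    exact Nat.pow_le_pow_right (by norm_num) hle
  -- `k ≤ 4 s`
  obtain ⟨r, hr, hrm, hrc⟩ := hg
  have hk : k ∣ 4 * s := by
    refine k_dvd h hr hrm ?_
    rw [Nat.card_congr e.toEquiv, (Cfsg.Agent.S1163.result hl hK).1] at hrc
    rw [mul_comm, pow_mul, hFs]
    refine dvd_aux hr (fun h1 => ?_) hrc
    rw [← hFs] at h1
    exact h.num.not_dvd_q hr hrm (hr.dvd_of_dvd_pow h1)
  have hk2 : k ≤ 4 * s := Nat.le_of_dvd (by omega) hk
  have hn := h.num.nlt
  have hten := h.num.ten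
  -- `4 ^ s < 8 s`
  have hbad : ∀ s : ℕ, 2 ≤ s → 8 * s ≤ 4 ^ s := by
    intro s hs
    induction s, hs using Nat.le_induction with
    | base => norm_num
    | succ s hs ih => rw [pow_succ]; omega
  by_cases hs2 : 2 ≤ s
  · have := hbad s hs2
    omega
  · omega

/-- **Suzuki groups in characteristic two.** -/
theorem not_sz {p : ℕ} [Fact p.Prime] [CharP F p] (h : Row k m P)
    (hg : ∃ r, r.Prime ∧ r ∣ m ∧ r ∣ Nat.card (Soc P)) (hp : p = 2) (hT : Lie.IsoSuzuki (Soc P)) : False := by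
  subst hp
  obtain ⟨K, _, _, l, hl, hK, ⟨e⟩⟩ := hT
  exact not_sz_of h hg hl hK e

end Cfsg.Agent.H2.Rb.C909
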