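import Cfsg.Agent.H315.TwF.Grp
import Cfsg.Agent.H2.Rb.Basic
import Cfsg.Agent.Lib.Zsigmondy
import Cfsg.Agent.S1068

/-!
# S3691 (S), small primes: `²F₄(Q)` in characteristic two (from helper315's file for S5948, adapted by helper2)

A nontrivial representation of `²F₄(Q)`, `Q = 2 ^ (2 m + 1)`, over the field with `q` elements, `q` even, has dimension at
least `6 t`, `t` the order of `q` modulo a primitive prime divisor of `Q ^ 4 - 1`, and `k ≤ 3 t` if `k` is the order of `q`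
modulo a prime divisor of `|²F₄(Q)|`.
-/

set_option autoImplicit false
set_option linter.unusedSectionVars false

namespace Cfsg.Agent.H2.Rb.C315

open Cfsg.Agent.H315.TwF

open Cfsg Cfsg.Geo Matrix
open Cfsg.Agent.H915.LD Cfsg.Agent.H2.Rb.C100 Cfsg.Agent.H905.Md

universe u

section semi

variable {F : Type u} [Field F] [Finite F] {ι : Type} [Fintype ι] [DecidableEq ι] {G : Type*} [Group G]

/-- the `q`-semilinear map on `k^ι` -/
noncomputable def frobV (F : Type u) [Field F] (ι : Type) (v : ι → AlgebraicClosure F) : ι → AlgebraicClosure F :=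
  fun i => v i ^ Nat.card F

theorem semi_frob (φ : G →* GL ι F) : Semi (Cfsg.Agent.H911.lin (acRep φ)) (Nat.card F) (frobV F ι) := by
  have : Fintype F := Fintype.ofFinite F
  obtain ⟨p, hp⟩ := CharP.exists F
  have hpp : Fact p.Prime := ⟨CharP.char_is_prime F p⟩
  have : CharP (AlgebraicClosure F) p := charP_of_injective_algebraMap (algebraMap F _).injective p
  obtain ⟨d, -, hd⟩ := FiniteField.card F p
  have hq : Nat.card F = p ^ (d : ℕ) := by rw [Nat.card_eq_fintype_card, hd]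
  refine ⟨?_, ?_, ?_⟩
  · intro g v
    rw [Cfsg.Agent.H911.lin_apply, Cfsg.Agent.H911.lin_apply, acRep_apply]
    funext i
    unfold frobV
    simp only [Matrix.mulVec, dotProduct, Matrix.map_apply]
    rw [hq, sum_pow_char_pow]
    refine Finset.sum_congr rfl fun j _ => ?_
    rw [mul_pow, ← map_pow, ← hd, FiniteField.pow_card]
  · intro c v
    funext i
    unfold frobV
    rw [Pi.smul_apply, Pi.smul_apply, smul_eq_mul, smul_eq_mul, mul_pow]
  · intro v hv h
    apply hv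
    funext i
    have h1 := congrFun h i
    exact (pow_eq_zero_iff (Nat.card_pos (α := F)).ne').1 h1

end semi

/-- the orders modulo `r` -/
theorem card_Or {k : Type*} [Field k] {r q : ℕ} (hr : r.Prime) {α : k} (hα : α ^ r = 1) (h1 : α ≠ 1) :
    (H315.TwF.Or q (orderOf (q : ZMod r)) α).card = orderOf (q : ZMod r) := by
  classical
  have hfr : Fact r.Prime := ⟨hr⟩
  unfold H315.TwF.Or
  rw [Finset.card_image_of_injOn, Finset.card_range]
  intro i hi j hj h
  have ho : orderOf α = r := orderOf_eq_prime hα h1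
  have h2 : q ^ i ≡ q ^ j [MOD r] := by
    dsimp only at h
    rw [← pow_mod_orderOf α (q ^ i), ← pow_mod_orderOf α (q ^ j), ho] at h
    have h4 := pow_injOn_Iio_orderOf (x := α) (by rw [ho]; exact Nat.mod_lt _ hr.pos)
      (by rw [ho]; exact Nat.mod_lt _ hr.pos) h
    exact h4
  have h3 : ((q : ZMod r)) ^ i = (q : ZMod r) ^ j := by
    have := (ZMod.natCast_eq_natCast_iff _ _ _).2 h2
    push_cast at this
    exact this
  rw [Finset.coe_range] at hi hj
  exact pow_injOn_Iio_orderOf hi hj h3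

/-- the order of a number modulo `r`, and exponents -/
theorem num_aux {r r' d N : ℕ} (hN : r ∣ 2 ^ (3 * N) - 1) (hr' : ∀ n, r' ∣ 2 ^ n - 1 ↔ N ∣ n) (hr'p : r'.Prime) :
    (((2 ^ d : ℕ)) : ZMod r) ^ (3 * orderOf ((2 ^ d : ℕ) : ZMod r')) = 1 := by
  have hfr : Fact r'.Prime := ⟨hr'p⟩
  set t := orderOf ((2 ^ d : ℕ) : ZMod r') with ht
  have key : ∀ (R n : ℕ), R ∣ 2 ^ n - 1 ↔ ((2 : ℕ) : ZMod R) ^ n = 1 := by
    intro R n
    have h1 : 1 ≤ 2 ^ n := Nat.one_le_two_pow
    rw [← ZMod.natCast_eq_zero_iff, Nat.cast_sub h1, Nat.cast_pow, Nat.cast_one, sub_eq_zero]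
  have h1 : N ∣ d * t := by
    rw [← hr', key, pow_mul]
    have := pow_orderOf_eq_one ((2 ^ d : ℕ) : ZMod r')
    rw [← ht, Nat.cast_pow] at this
    exact this
  obtain ⟨c, hc⟩ := h1
  have h2 : ((2 : ℕ) : ZMod r) ^ (3 * N) = 1 := (key r _).1 hN
  rw [Nat.cast_pow, ← pow_mul]
  have e : d * (3 * t) = 3 * N * c := by
    calc d * (3 * t) = 3 * (d * t) := by ring
      _ = _ := by rw [hc]; ring
  rw [e, pow_mul, h2, one_pow]

variable {n : ℕ} {F : Type u} [Field F] [Finite F] {k m : ℕ} {P : Subgroup (GL (Fin n) F)}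

/-- **`²F₄(Q)` in characteristic two does not occur.** -/
theorem not_2f4 (h : Row k m P) {p : ℕ} [CharP F p] (hg : ∃ r, r.Prime ∧ r ∣ m ∧ r ∣ Nat.card (Soc P)) (hp : p = 2)
    (hT : Lie.Iso2F4 (Soc P)) : False := by
  subst hp
  obtain ⟨K, _, _, l, hl, hK, ⟨e⟩⟩ := hT
  have hp2 : Fact (Nat.Prime 2) := ⟨Nat.prime_two⟩
  have hFin : Fintype F := Fintype.ofFinite F
  obtain ⟨φ, -, hker, -⟩ := exists_cover (p := 2) h.core.perfect e (Cfsg.Agent.S1112.result hK hl)
    (fun r hr hr2 => Cfsg.Agent.H67.TwFFourOdd.noPCov_odd hl hK hr hr2) (πG := MonoidHom.id _) Function.surjective_id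
    (by rw [MonoidHom.ker_id]; exact bot_le)
  -- the numbers
  obtain ⟨d, -, hd⟩ := FiniteField.card F 2
  have hq : Nat.card F = 2 ^ (d : ℕ) := by rw [Nat.card_eq_fintype_card, hd]
  set N := 4 * (2 * l + 1) with hN
  obtain ⟨r', hr', hprim, hr'N, hr'2⟩ := Cfsg.Agent.Lib.Zsigmondy.exists_primitive (a := 2) (n := N) le_rfl (by omega)
    (fun h => by omega) (by omega)
  have hr'ne : r' ≠ 2 := fun h => hr'2 (h ▸ dvd_rfl)
  obtain ⟨Q, hQ⟩ : ∃ Q, Q = 2 ^ (2 * l + 1) := ⟨_, rfl⟩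
  have hQ1 : 1 ≤ Q := by rw [hQ]; exact Nat.one_le_two_pow
  have hr'Q : r' ∣ Nat.card K * Nat.card K + 1 := by
    have h1 : r' ∣ 2 ^ N - 1 := (hprim N).2 dvd_rfl
    have h2 : ¬ r' ∣ 2 ^ (2 * (2 * l + 1)) - 1 := fun h3 => by
      have := Nat.le_of_dvd (by omega) ((hprim _).1 h3)
      omega
    rw [Nat.card_eq_fintype_card, hK, ← hQ]
    have h3 : 2 ^ N - 1 = (2 ^ (2 * (2 * l + 1)) - 1) * (Q * Q + 1) := by
      have e1 : 2 ^ N = Q * Q * (Q * Q) := by rw [hQ, hN, ← pow_add, ← pow_add]; congr 1; ring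
      have e2 : 2 ^ (2 * (2 * l + 1)) = Q * Q := by rw [hQ, ← pow_add]; congr 1; ring
      rw [e1, e2]
      obtain ⟨c, hc⟩ : ∃ c, Q * Q = c + 1 := ⟨Q * Q - 1, by
        have : 1 ≤ Q * Q := Nat.one_le_iff_ne_zero.2 (by positivity)
        omega⟩
      rw [hc, Nat.add_sub_cancel]
      apply Nat.sub_eq_of_eq_add
      ring
    rw [h3] at h1
    exact (hr'.dvd_mul.1 h1).resolve_left h2
  -- the bound
  set kk := AlgebraicClosure F with hkk
  have hch : CharP kk 2 := charP_of_injective_algebraMap (algebraMap F _).injective 2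
  have hodd : ∀ a : ℕ, ¬ 2 ∣ a → (a : kk) ≠ 0 := fun a ha h0 => ha ((CharP.cast_eq_zero_iff kk 2 a).1 h0)
  have hbound : 6 * orderOf ((Nat.card F : ℕ) : ZMod r') ≤ n := by
    have h1 := rep_bound (K := K) (m := l) (by exact_mod_cast hodd 5 (by norm_num)) hl hK
      (Cfsg.Agent.H911.lin (acRep φ)) (r := r') ?_ hr' hr'ne hr'Q (hodd r' (fun h => hr'ne
        ((Nat.prime_dvd_prime_iff_eq Nat.prime_two hr').1 h).symm)) (semi_frob φ) ?_
        (fun α h1 h2 => card_Or hr' h1 h2)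
    · rwa [Module.finrank_pi, Fintype.card_fin] at h1
    · intro g hg
      have h6 : φ g = 1 := by
        apply Units.ext
        have h7 : acRep φ g = 1 := by
          have := congrArg LinearMap.toMatrix' hg
          simpa [Cfsg.Agent.H911.lin] using this
        rw [acRep_apply] at h7
        apply Matrix.map_injective (algebraMap F (AlgebraicClosure F)).injective
        refine h7.trans ?_
        ext i j
        simp [Matrix.one_apply, apply_ite (algebraMap F (AlgebraicClosure F))]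
      have h8 : g ∈ φ.ker := h6
      have h9 := hker h8
      rwa [MonoidHom.ker_id, Subgroup.mem_bot] at h9
    · intro α hα
      have h2 : (α - 1) ^ Nat.card F = 0 := by
        rw [hq, sub_pow_char_pow, one_pow, ← hq, hα, sub_self]
      exact sub_eq_zero.1 ((pow_eq_zero_iff (Nat.card_pos (α := F)).ne').1 h2)
  -- the prime of the row
  obtain ⟨r, hr, hrm, hrT⟩ := hg
  have hr2 : r ≠ 2 := by
    rintro rfl
    have := h.num.seven_le hr hrm
    omega
  have hrN : r ∣ 2 ^ (3 * N) - 1 := by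
    rw [Nat.card_congr e.toEquiv, Cfsg.Agent.S1068.result hK, ← hQ] at hrT
    have e1 : 2 ^ (3 * N) = Q ^ 12 := by rw [hQ, ← pow_mul]; congr 1; rw [hN]; ring
    rw [e1]
    have hpow : ∀ a b : ℕ, a ∣ b → Q ^ a - 1 ∣ Q ^ b - 1 := fun a b hab => Nat.pow_sub_one_dvd_pow_sub_one Q hab
    have hsucc : ∀ a : ℕ, Q ^ a + 1 ∣ Q ^ (2 * a) - 1 := by
      intro a
      have h1 : 1 ≤ Q ^ a := Nat.one_le_pow _ _ hQ1
      refine ⟨Q ^ a - 1, ?_⟩
      obtain ⟨c, hc⟩ : ∃ c, Q ^ a = c + 1 := ⟨Q ^ a - 1, by omega⟩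
      rw [two_mul, pow_add, hc, Nat.add_sub_cancel]
      apply Nat.sub_eq_of_eq_add
      ring
    rcases hr.dvd_mul.1 hrT with h1 | h1
    · rcases hr.dvd_mul.1 h1 with h1 | h1
      · rcases hr.dvd_mul.1 h1 with h1 | h1
        · rcases hr.dvd_mul.1 h1 with h1 | h1
          · exfalso
            have h2 := hr.dvd_of_dvd_pow h1
            rw [hQ] at h2
            exact hr2 ((Nat.prime_dvd_prime_iff_eq hr Nat.prime_two).1 (hr.dvd_of_dvd_pow h2))
          · refine h1.trans ?_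
            have := hpow 1 12 (one_dvd _)
            rwa [pow_one] at this
        · exact h1.trans ((hsucc 3).trans (hpow 6 12 ⟨2, rfl⟩))
      · exact h1.trans (hpow 4 12 ⟨3, rfl⟩)
    · exact h1.trans (hsucc 6)
  have h1 := num_aux (d := d) hrN hprim hr'
  rw [← hq] at h1
  have h2 := (h.num.pow_eq_one_iff hr hrm _).1 h1
  have h3 : 0 < orderOf ((Nat.card F : ℕ) : ZMod r') := by
    have hfr : Fact r'.Prime := ⟨hr'⟩
    rw [orderOf_pos_iff, isOfFinOrder_iff_pow_eq_one]
    refine ⟨r' - 1, by have := hr'.one_lt; omega, ZMod.pow_card_sub_one_eq_one ?_⟩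
    rw [Ne, ZMod.natCast_eq_zero_iff, hq]
    exact fun h => hr'2 (hr'.dvd_of_dvd_pow h)
  have h4 := Nat.le_of_dvd (by omega) h2
  have h5 := h.num.nlt
  omega

end Cfsg.Agent.H2.Rb.C315
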