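import Cfsg.Agent.H2.Rb.CrossC
import Cfsg.Agent.H2.Rb.Good
import Cfsg.Agent.H2.Rb.StructC
import Cfsg.Agent.H2.Rb.Psl
import Cfsg.Agent.H2.Rb.UMain
import Cfsg.Agent.H2.Rb.PsuFour
import Cfsg.Agent.H2.Rb.TwF
import Cfsg.Agent.H2.Rb.Podd
import Cfsg.Agent.H2.Rb.Pminus
import Cfsg.Agent.H2.Rb.Sz
import Cfsg.Agent.H2.Rb.ReeB
import Cfsg.Agent.H2.Rb.Psp
import Cfsg.Agent.H2.Rb.PPlus
import Cfsg.Agent.H2.Rb.Exc
import Cfsg.Agent.H2.Rb.Psu5
import Cfsg.Agent.H2.Rb.D4Dim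
import Cfsg.Agent.H2.Rb.G2Dim
import Cfsg.Agent.H2.Rb.Psu

/-!
# S3691, piece (S): irreducible subgroups of `GL_n(q)` with a small primitive prime divisor (helper2)

`r` a prime with `ord_r(p) = f k`, `r ≤ 2 k + 1`, `10 ≤ n ≤ 39`, `n < 2 k`, `(q, k)` in the list of S3691 (`q = 2`, or
`(q, k) = (3, 18), (4, 9), (3, 6), (4, 6), (5, 6), (17, 6)`).

* `Row.out` : a row is a classical group on its natural module, or `|Aut (Soc P)| ≤ (n + 4)!`, or `q = 2`, `n ≥ 23`,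
  `|Aut (Soc P)| ≤ 2 ^ 113` (the Baby Monster);
* `small` : an irreducible subgroup `R` of `GL_n(q)` of order divisible by `r` normalises a field of matrices of prime
  degree `s ∣ gcd(n, k)`, or contains a classical group on its natural module, or `|R| ≤ (q - 1) ^ n (n + 4)!`, or
  `q = 2`, `n ≥ 23` and `|R| ≤ 2 ^ 113`.
-/

set_option autoImplicit false

namespace Cfsg.Agent.H2.Rb

open Cfsg Cfsg.Geo Matrix
open Cfsg.Agent.H915.LD Cfsg.Agent.H2.Rb.C100 Cfsg.Agent.H2.Rb.Cx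

universe u v w

variable {n : ℕ} {F : Type u} [Field F] [Finite F] {k m : ℕ} {P : Subgroup (GL (Fin n) F)}

/-- Defining characteristic. -/
theorem Row.nat_def' (h : Row k m P) (p : ℕ) [hp : Fact p.Prime] [CharP F p] (hT : IsLieTypeChar p (Soc P)) :
    Nat' P ∨ H912.Bd.IsG2 4 (Soc P) ∨ (12 ≤ n ∧ ∃ (K : Type) (_ : Field K) (_ : Fintype K),
      Fintype.card K = 2 ^ 3 ∧ Nonempty (Soc P ≃* Lie.twistedD4 K 2)) := by
  have hg := h.good p hT
  have hs : IsSimpleGroup (Soc P) := h.core.simple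
  rcases hT with hT | hT | hT | hT | hT | hT | hT | hT | hT | hT | hT
  · obtain ⟨K, _, _, _, N, h1, h2, ⟨e⟩⟩ := hT
    exact Or.inl (C650.nat_psl p h hg h1 h2 e)
  · obtain ⟨K, _, _, _, N, h1, h2, ⟨e⟩⟩ := hT
    exact Or.inl (C650.nat_psp p h hg h1 h2 e)
  · obtain ⟨K, _, _, _, N, q, h0, h1, h2, ⟨e⟩⟩ := hT
    by_cases h6 : 6 ≤ N
    · exact Or.inl (C762.nat_psu p h hg h6 h0 e)
    · have h3 : N = 3 ∨ N = 4 ∨ N = 5 := by omega
      rcases h3 with rfl | rfl | rfl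
      · exact (C525.not_psu3 h hg (p := p) h0 (fun h => h2 ⟨rfl, h⟩) e).elim
      · exact (C269.not_psu4 h hg (p := p) h0 e).elim
      · exact (C69.not_psu5 h hg (p := p) h0 e).elim
  · obtain ⟨K, _, _, _, N, h1, h2, ⟨e⟩⟩ := hT
    exact Or.inl (C948.nat_podd p h hg h1 h2 e)
  · obtain ⟨K, _, _, _, N, h1, ⟨e⟩⟩ := hT
    exact Or.inl (C156.nat_pplus h hg p h1 e)
  · obtain ⟨K, _, _, _, N, a, b, h1, h2, ⟨e⟩⟩ := hT
    exact Or.inl (C948.nat_pminus p h hg h1 a b h2 e)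
  · obtain ⟨K, _, _, _, hT⟩ := hT
    rcases hT with ⟨h3, ⟨e⟩⟩ | ⟨⟨e⟩⟩ | ⟨⟨e⟩⟩ | ⟨⟨e⟩⟩ | ⟨⟨e⟩⟩
    · obtain ⟨-, h4⟩ := C744G.not_g2 h hg (p := p) h3 e
      exact Or.inr (Or.inl ⟨K, inferInstance, inferInstance, h4, ⟨e⟩⟩)
    · exact (C2.not_f4 h hg (p := p) e).elim
    · exact (C2.not_e6 h hg (p := p) e).elim
    · exact (C2.not_e7 h hg (p := p) e).elim
    · exact (C2.not_e8 h hg (p := p) e).elim
  · obtain ⟨K, _, _, _, q, hq, ⟨hK, ⟨e⟩⟩ | ⟨hK, ⟨e⟩⟩⟩ := hT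
    · exact (C2.not_2e6 h hg (p := p) hq hK e).elim
    · obtain ⟨h5, rfl⟩ := C744D.not_3d4 h hg (p := p) hq hK e
      exact Or.inr (Or.inr ⟨h5, K, inferInstance, inferInstance, hK, ⟨e⟩⟩)
  · obtain ⟨rfl, hT⟩ := hT
    exact (C909.not_sz h hg rfl hT).elim
  · obtain ⟨rfl, hT⟩ := hT
    exact (C315.not_2f4 h hg rfl hT).elim
  · obtain ⟨rfl, hT⟩ := hT
    exact (C909.not_ree h hg rfl hT).elim

/-- Defining characteristic, with the bound. -/
theorem Row.nat_def (h : Row k m P) (p : ℕ) [hp : Fact p.Prime] [CharP F p] (hT : IsLieTypeChar p (Soc P)) :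
    Nat' P ∨ Nat.card (MulAut (Soc P)) ≤ (n + 4).factorial := by
  have hs : IsSimpleGroup (Soc P) := h.core.simple
  have hna := h.core.nonabelian
  have h10 := h.num.ten
  rcases Row.nat_def' h p hT with h1 | hG | ⟨h5, K, _, _, hK, ⟨e⟩⟩
  · exact Or.inl h1
  · exact Or.inr ((fit_G2 hna (by norm_num) (by norm_num) hG).trans (fac (a := 10) _ (by decide +kernel) h10))
  · exact Or.inr ((fit_TD4 hna Nat.prime_two.isPrimePow hK (by norm_num) e).trans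
      (fac (a := 12) _ (by decide +kernel) h5))

/-- **The rows.** -/
theorem Row.out (h : Row k m P) (hk : IsKnownSimple' (Soc P)) :
    Nat' P ∨ Nat.card (MulAut (Soc P)) ≤ (n + 4).factorial ∨
      (Nat.card F = 2 ∧ 23 ≤ n ∧ Nat.card (MulAut (Soc P)) ≤ 2 ^ 113) := by
  obtain ⟨p, hpF⟩ := CharP.exists F
  have hp : Fact p.Prime := ⟨CharP.char_is_prime F p⟩
  have hc := h.core
  have h10 := h.num.ten
  rcases H912.Known.known_split hk (H912.Known.not_primeCyclic hc.nonabelian) with hT | ⟨r, hr, hT⟩ | hT | hT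
  · exact Or.inr (Or.inl (cross_alt p h10 hc hT))
  · by_cases hrF : (r : F) = 0
    · have hrp : CharP F r := (CharP.charP_iff_prime_eq_zero hr).2 hrF
      have : Fact r.Prime := ⟨hr⟩
      rcases Row.nat_def h r hT with h1 | h1
      · exact Or.inl h1
      · exact Or.inr (Or.inl h1)
    · exact Or.inr (Or.inl (cross_lie h10 h.num.le39 hc hr hrF hT))
  · exact Or.inr (Or.inl (cross_tits h10 hc hT))
  · exact Or.inr (cross_spor h hT)

/-- The numbers. -/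
theorem num_of {p f : ℕ} (hp : p.Prime) (hq : Nat.card F = p ^ f) {r : ℕ} (hn : 10 ≤ n) (hn' : n ≤ 39)
    (hk : n < 2 * k) (hr : r.Prime) (hrk : r ≤ 2 * k + 1) (hord : orderOf (p : ZMod r) = f * k)
    (bad : Nat.card F = 2 ∨ (Nat.card F = 3 ∧ k = 18) ∨ (Nat.card F = 4 ∧ k = 9) ∨
      ((Nat.card F = 3 ∨ Nat.card F = 4 ∨ Nat.card F = 5 ∨ Nat.card F = 17) ∧ k = 6))
    (hd : r ∣ Nat.card (GL (Fin n) F)) : Num (Nat.card F) n k r := by
  have hF1 : 1 < Nat.card F := Finite.one_lt_card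
  have hf : f ≠ 0 := by
    rintro rfl
    rw [hq, pow_zero] at hF1
    exact lt_irrefl _ hF1
  have hk0 : k ≠ 0 := by omega
  -- divisibility of `p ^ i - 1`
  have key : ∀ i : ℕ, r ∣ p ^ i - 1 ↔ f * k ∣ i := by
    intro i
    have h1 : 1 ≤ p ^ i := Nat.one_le_pow _ _ hp.pos
    rw [← hord, orderOf_dvd_iff_pow_eq_one, ← ZMod.natCast_eq_zero_iff, Nat.cast_sub h1, Nat.cast_pow, Nat.cast_one,
      sub_eq_zero]
  have hprim : ∀ q₀ j i : ℕ, 1 ≤ j → q₀ ^ j = Nat.card F → 1 ≤ i → i < j * k → Nat.Coprime r (q₀ ^ i - 1) := by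
    intro q₀ j i hj hq0 hi hij
    obtain ⟨g, -, rfl⟩ := (Nat.dvd_prime_pow hp).1 (show q₀ ∣ p ^ f by
      rw [← hq, ← hq0]; exact dvd_pow_self q₀ (by omega))
    have hg : g * j = f := by
      have h3 : p ^ (g * j) = p ^ f := by rw [pow_mul, hq0, hq]
      exact Nat.pow_right_injective hp.two_le h3
    refine (Nat.Prime.coprime_iff_not_dvd hr).2 fun h1 => ?_
    rw [← pow_mul, key, ← hg, mul_assoc] at h1
    have hg0 : 0 < g := by
      rcases Nat.eq_zero_or_pos g with h0 | h0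
      · subst h0; omega
      · exact h0
    have h2 := Nat.le_of_dvd (by omega) (Nat.dvd_of_mul_dvd_mul_left hg0 h1)
    omega
  have hdvd : r ∣ Nat.card F ^ k - 1 := by rw [hq, ← pow_mul, key]
  refine ⟨hn, ?_, hk, hr, hrk, hn', bad, hdvd, hprim⟩
  have hrF : ¬ r ∣ Nat.card F := by
    intro h1
    have h3 : r ∣ Nat.card F ^ k := dvd_pow h1 hk0
    have h4 : 1 ≤ Nat.card F ^ k := Nat.one_le_pow _ _ (by omega)
    have h5 : r ∣ 1 := (Nat.dvd_sub_iff_right h4 h3).1 hdvd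
    exact hr.one_lt.ne' (Nat.dvd_one.1 h5)
  obtain ⟨i, hi1, hi2, hi3⟩ := H251.GeoCard.div_of_dvd_card_fin hr hrF hd
  rw [hq, ← pow_mul, key] at hi3
  have h1 := Nat.le_of_dvd (by omega) (Nat.dvd_of_mul_dvd_mul_left (Nat.pos_of_ne_zero hf) hi3)
  omega

/-- **Piece (S).** -/
theorem small (hKS : ∀ (T : Type u) [Group T] [Finite T] [IsSimpleGroup T], IsKnownSimple' T)
    {p f : ℕ} (hp : p.Prime) (hq : Nat.card F = p ^ f) {r : ℕ} (hn : 10 ≤ n) (hn' : n ≤ 39)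
    (hk : n < 2 * k) (hr : r.Prime) (hrk : r ≤ 2 * k + 1) (hord : orderOf (p : ZMod r) = f * k)
    (bad : Nat.card F = 2 ∨ (Nat.card F = 3 ∧ k = 18) ∨ (Nat.card F = 4 ∧ k = 9) ∨
      ((Nat.card F = 3 ∨ Nat.card F = 4 ∨ Nat.card F = 5 ∨ Nat.card F = 17) ∧ k = 6))
    (R : Subgroup (GL (Fin n) F)) (hd : r ∣ Nat.card R) (hirr : ActsIrreducibly (matrixSet R)) :
    (∃ (s : ℕ) (E : Subalgebra F (Matrix (Fin n) (Fin n) F)), s.Prime ∧ s ∣ Nat.gcd n k ∧ IsFieldSubalgebra s E ∧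
        R ≤ subalgebraNormalizer E) ∨
    specialLinear (Fin n) F ≤ R ∨
    (∃ f : (Fin n → F) → (Fin n → F) → F, IsSymplecticForm f ∧
        ∀ x : GL (Fin n) F, FixesForm {(x : Matrix (Fin n) (Fin n) F)} f → x ∈ R) ∨
    (∃ (τ : F ≃+* F) (f : (Fin n → F) → (Fin n → F) → F), IsUnitaryForm τ f ∧
        ∀ x : GL (Fin n) F, FixesForm {(x : Matrix (Fin n) (Fin n) F)} f →
          Matrix.GeneralLinearGroup.det x = 1 → x ∈ R) ∨
    (∃ Q : (Fin n → F) → F, IsNondegenerateQuadraticForm Q ∧ omegaGL Q ≤ R) ∨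
    Nat.card R ≤ (Nat.card F - 1) ^ n * (n + 4).factorial ∨
    (Nat.card F = 2 ∧ 23 ≤ n ∧ Nat.card R ≤ 2 ^ 113) := by
  have hnum := num_of hp hq hn hn' hk hr hrk hord bad (hd.trans (Subgroup.card_subgroup_dvd_card R))
  have : Fact r.Prime := ⟨hr⟩
  obtain ⟨x, hx⟩ := exists_prime_orderOf_dvd_card' (G := R) r hd
  rcases struct hnum (g := (x : GL (Fin n) F)) (by rw [Subgroup.orderOf_coe, hx]) R x.2 hirr with
    h | ⟨P, hPR, hPn, hrow⟩ | h
  · exact Or.inl h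
  · right
    have hs : IsSimpleGroup (Soc P) := hrow.core.simple
    rcases Row.out hrow (hKS (Soc P)) with (h | ⟨f, hf, h⟩ | ⟨τ, f, hf, h⟩ | ⟨Q, hQ, h⟩) | h | ⟨h2, h3, h⟩
    · exact Or.inl (h.trans hPR)
    · exact Or.inr (Or.inl ⟨f, hf, fun x hx => hPR (h x hx)⟩)
    · exact Or.inr (Or.inr (Or.inl ⟨τ, f, hf, fun x hx hd => hPR (h x hx hd)⟩))
    · exact Or.inr (Or.inr (Or.inr (Or.inl ⟨Q, hQ, h.trans hPR⟩)))
    · exact Or.inr (Or.inr (Or.inr (Or.inr (Or.inl (card_le_of_row hrow hPn h)))))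
    · refine Or.inr (Or.inr (Or.inr (Or.inr (Or.inr ⟨h2, h3, ?_⟩))))
      have h4 := card_le_of_row hrow hPn h
      rwa [h2, show 2 - 1 = 1 from rfl, one_pow, one_mul] at h4
  · exact Or.inr (Or.inr (Or.inr (Or.inr (Or.inr (Or.inl h)))))

end Cfsg.Agent.H2.Rb
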