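import Cfsg.Agent.H762.Ppd.SuCov
import Cfsg.Agent.H2.Rb.Basic
import Cfsg.Agent.H918.UProper
import Cfsg.Agent.H925.NatMain
import Cfsg.Agent.H930.UnitaryTwo

/-!
# The natural case of the unitary rows (from helper762's file for S5948, adapted by helper2)

* `conjE` : the automorphism `x ↦ x ^ q` of a field of order `q ^ 2`; `conjE_ne`;
* `span_IU` : the matrices of `SU_N(K)` span the matrix algebra, `N ≥ 3`;
* **`nat_of_ident`** : if `P` is `SU_N(K)` up to an isomorphism of the fields and a change of the basis, then `Nat' P`.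
-/

set_option autoImplicit false
set_option linter.unusedSectionVars false
set_option linter.style.haveILetI false

namespace Cfsg.Agent.H2.Rb.C762

open Cfsg.Agent.H762.Ppd

open Cfsg.Agent.LieClassical.HermBasic
open Cfsg.Agent.TitsThree Cfsg.Agent.TitsThree.KSideU Cfsg.Agent.TitsThree.KSideUDesc
open Cfsg.Agent.H915.LD Cfsg.Agent.H925.Nat
open Cfsg.Agent.H2.Rb.C100 (Nat')
open Cfsg Cfsg.Geo Matrix
open scoped MatrixGroups Matrix

universe u v w

section conj

variable {F : Type u} [Field F] [Fintype F] {q : ℕ} (hF : Fintype.card F = q ^ 2)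

/-- the automorphism `x ↦ x ^ q` -/
def conjE : F ≃+* F := RingEquiv.ofRingHom (LieClassical.HermBasic.conj hF) (LieClassical.HermBasic.conj hF)
  (RingHom.ext fun x => by
    change (x ^ q) ^ q = x
    exact pow_q_pow_q hF x)
  (RingHom.ext fun x => by
    change (x ^ q) ^ q = x
    exact pow_q_pow_q hF x)

theorem conjE_apply (x : F) : conjE hF x = x ^ q := rfl

include hF in
theorem two_le_q : 2 ≤ q := by
  have h1 := Fintype.one_lt_card (α := F)
  rw [hF] at h1
  by_contra h
  have h2 : q = 0 ∨ q = 1 := by omega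
  rcases h2 with rfl | rfl <;> simp at h1

theorem conjE_ne : conjE hF ≠ RingEquiv.refl F := by
  intro h
  have hq := two_le_q hF
  have h1 : ∀ x : F, x ^ q = x := fun x => by
    rw [← conjE_apply hF, h]; rfl
  classical
  have h2 : (Finset.univ : Finset F) ⊆ (Polynomial.X ^ q - Polynomial.X : Polynomial F).roots.toFinset := by
    intro x _
    rw [Multiset.mem_toFinset, Polynomial.mem_roots (FiniteField.X_pow_card_sub_X_ne_zero F (by omega))]
    simp [h1 x]
  have h3 := Finset.card_le_card h2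
  rw [Finset.card_univ, hF] at h3
  have h4 := (Polynomial.X ^ q - Polynomial.X : Polynomial F).roots.toFinset_card_le
  have h5 := Polynomial.card_roots' (Polynomial.X ^ q - Polynomial.X : Polynomial F)
  rw [FiniteField.X_pow_card_sub_X_natDegree_eq F (by omega)] at h5
  have h6 : q * 2 ≤ q ^ 2 := by rw [sq]; exact Nat.mul_le_mul_left _ hq
  omega

end conj

section span

variable {K : Type} [Field K] [Fintype K] {q N : ℕ}

theorem span_IU (hK : Fintype.card K = q ^ 2) (hN : 3 ≤ N) :
    Submodule.span K (Set.range (mt (IU K q N))) = ⊤ := by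
  refine span_of_absIrr ?_ (H918.SUg_absIrreducible (n := N) hK hN)
  rintro _ ⟨A, hA, rfl⟩
  obtain ⟨g, rfl⟩ := H918.exists_suHom hA
  refine ⟨⟨toLin K q N g, g, rfl⟩, ?_⟩
  apply Matrix.toLin'.injective
  refine LinearMap.ext fun v => ?_
  rw [Matrix.toLin'_apply, Matrix.toLin'_apply, mt_mulVec]
  rfl

end span

section main

variable {n : ℕ} {F : Type u} [Field F] [Finite F] {P : Subgroup (GL (Fin n) F)}
  {K : Type} [Field K] [Fintype K] {q N : ℕ}

theorem herm_map (τ : K ≃+* F) (u v : Fin N → K) :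
    hermForm N F q (fun i => τ (u i)) (fun i => τ (v i)) = τ (hermForm N K q u v) := by
  unfold hermForm
  rw [map_sum]
  refine Finset.sum_congr rfl fun i _ => ?_
  rw [map_mul, map_pow]

/-- **The natural case.** -/
theorem nat_of_ident (hK : Fintype.card K = q ^ 2) (τ : K ≃+* F) (θ : (Fin N → F) ≃ₗ[F] (Fin n → F))
    (hθ : ∀ A : GL (Fin n) F, A ∈ P ↔ ∃ g : IU K q N, ∀ v, θ (((mt (IU K q N) g).map (τ : K →+* F)) *ᵥ v) =
      (A : Matrix (Fin n) (Fin n) F) *ᵥ θ v) : Nat' P := by
  have := Fintype.ofFinite F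
  have hF : Fintype.card F = q ^ 2 := by rw [← hK]; exact Fintype.card_congr τ.symm.toEquiv
  have hf := H930.hermForm_isUnitaryFormPow hF N
  right; right; left
  refine ⟨conjE hF, fun u v => hermForm N F q (θ.symm u) (θ.symm v), ⟨conjE_ne hF, fun a => ?_, fun x y v => ?_,
    fun c x v => ?_, fun v w => ?_, ?_⟩, ?_⟩
  · rw [conjE_apply, conjE_apply, pow_q_pow_q hF]
  · change hermForm N F q (θ.symm (x + y)) _ = _
    rw [map_add, hf.add_left]
  · change hermForm N F q (θ.symm (c • x)) _ = _
    rw [map_smul, hf.smul_left]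
  · rw [conjE_apply]
    exact hf.herm _ _
  · intro v hv
    obtain ⟨⟨x, hx⟩, ⟨y, hy⟩⟩ := hf.nondegenerate (θ.symm v) fun h0 => hv ((LinearEquiv.map_eq_zero_iff θ.symm).1 h0)
    refine ⟨⟨θ x, ?_⟩, ⟨θ y, ?_⟩⟩
    · dsimp only
      rw [LinearEquiv.symm_apply_apply]
      exact hx
    · dsimp only
      rw [LinearEquiv.symm_apply_apply]
      exact hy
  · intro A hA hdet
    rw [hθ]
    -- the matrix on `F^N`
    let B : Matrix (Fin N) (Fin N) F := LinearMap.toMatrix'
      ((θ.symm : (Fin n → F) →ₗ[F] (Fin N → F)) ∘ₗ (Matrix.toLin' (A : Matrix (Fin n) (Fin n) F)) ∘ₗ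
        (θ : (Fin N → F) →ₗ[F] (Fin n → F)))
    have hB : ∀ v, B *ᵥ v = θ.symm ((A : Matrix (Fin n) (Fin n) F) *ᵥ θ v) := by
      intro v
      rw [← Matrix.toLin'_apply, Matrix.toLin'_toMatrix']
      rfl
    have hBd : B.det = 1 := by
      have h1 : B.det = LinearMap.det ((θ.symm : (Fin n → F) →ₗ[F] (Fin N → F)) ∘ₗ
          (Matrix.toLin' (A : Matrix (Fin n) (Fin n) F)) ∘ₗ (θ : (Fin N → F) →ₗ[F] (Fin n → F))) :=
        LinearMap.det_toMatrix' _
      have h2 := LinearMap.det_conj (Matrix.toLin' (A : Matrix (Fin n) (Fin n) F)) θ.symm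
      rw [LinearEquiv.symm_symm] at h2
      rw [h1, h2, LinearMap.det_toLin']
      have h3 := congrArg Units.val hdet
      exact h3
    have hBf : ∀ u v, hermForm N F q (B *ᵥ u) (B *ᵥ v) = hermForm N F q u v := by
      intro u v
      have h1 := hA _ (Set.mem_singleton _) (θ u) (θ v)
      simp only [LinearEquiv.symm_apply_apply] at h1
      rw [hB, hB, h1]
    -- the matrix over `K`
    let C : Matrix (Fin N) (Fin N) K := B.map τ.symm
    have hCB : C.map τ = B := by
      ext i j
      simp [C]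
    have hCd : C.det = 1 := by
      have h1 : C.det = τ.symm B.det := by
        have := RingHom.map_det (τ.symm : F →+* K) B
        exact this.symm
      rw [h1, hBd, map_one]
    have hCv : ∀ v : Fin N → K, (fun i => τ ((C *ᵥ v) i)) = B *ᵥ (fun i => τ (v i)) := by
      intro v
      rw [← hCB]
      funext i
      exact RingHom.map_mulVec (τ : K →+* F) C v i
    let g : SU N K q := ⟨⟨C, hCd⟩, fun u v => by
      change hermForm N K q (C *ᵥ u) (C *ᵥ v) = hermForm N K q u v
      apply τ.injective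
      rw [← herm_map τ, ← herm_map τ, hCv, hCv, hBf]⟩
    refine ⟨⟨toLin K q N g, g, rfl⟩, fun v => ?_⟩
    have h1 : mt (IU K q N) ⟨toLin K q N g, g, rfl⟩ = C := by
      apply Matrix.toLin'.injective
      refine LinearMap.ext fun v => ?_
      rw [Matrix.toLin'_apply, Matrix.toLin'_apply, mt_mulVec]
      rfl
    rw [h1]
    have h2 : C.map (τ : K →+* F) = B := hCB
    rw [h2, hB, LinearEquiv.apply_symm_apply]

end main

end Cfsg.Agent.H2.Rb.C762
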