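import Cfsg.Agent.H2.Rb.Dv

/-!
# S3691, piece (S), `q = 2`, `n = 18`, `r = 19` (helper2)

* `small19` : an irreducible subgroup `R` of `GL_18(2)` of order divisible by 19 normalises a field of matrices of
  degree 2 or 3, or contains a classical group on its natural module, or its order is not divisible by 73.
-/

set_option autoImplicit false
set_option exponentiation.threshold 2000

universe u v w

namespace Cfsg.Agent.H2.Rb.Cx

open Cfsg Cfsg.Geo Cfsg.Agent.H912.Bd Cfsg.Agent.H912.Five Cfsg.Agent.H915.LD Cfsg.Agent.OrdDiv Matrix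
open Cfsg.Agent.H902 Cfsg.Agent.H902.Names Cfsg.Agent.H203.LS Cfsg.Agent.H936.List12
open Cfsg.Agent.H2.Rb.C100 Cfsg.Agent.NotCT

section cl

variable {F : Type u} [Field F] {r : ℕ} {T : Type v} [Group T] [Finite T] [IsSimpleGroup T]

theorem p73 : Nat.Prime 73 := by norm_num

/-- classical groups in cross characteristic, degree at most 18, order divisible by 73 -/
theorem cross73_cl (hna : ¬ IsMulCommutative T) (hd : 73 ∣ Nat.card (MulAut T)) (hr : r.Prime) (hrF : (r : F) ≠ 0)
    (h : PR F 18 r T)
    (hT : Cfsg.IsPSLChar r T ∨ Cfsg.IsPSpChar r T ∨ Cfsg.IsPSUChar r T ∨ Cfsg.IsPOmegaOddChar r T ∨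
      Cfsg.IsPOmegaPlusChar r T ∨ Cfsg.IsPOmegaMinusChar r T) : False := by
  have hrr : Fact r.Prime := ⟨hr⟩
  have hnum : ∀ q j : ℕ, 2 ≤ q → 4 ≤ j → (q - 1) * q ^ j ≤ 18 → q = 2 ∧ j = 4 := by
    intro q j hq hj hle
    have h2 : q = 2 := by
      by_contra hcon
      have h1 : 3 ^ 4 ≤ q ^ j := (Nat.pow_le_pow_left (by omega) 4).trans (Nat.pow_le_pow_right (by omega) hj)
      have h2 : 1 * 3 ^ 4 ≤ (q - 1) * q ^ j := Nat.mul_le_mul (by omega) h1
      omega
    subst h2
    refine ⟨rfl, ?_⟩
    by_contra hcon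
    have h1 : 2 ^ 5 ≤ 2 ^ j := Nat.pow_le_pow_right (by omega) (by omega)
    omega
  have hpow : ∀ (K : Type) [Field K] [Fintype K] [CharP K r], ∃ k, Fintype.card K = r ^ k := by
    intro K _ _ _
    obtain ⟨k, -, hk⟩ := FiniteField.card K r
    exact ⟨k, hk⟩
  rcases hT with ⟨K, _, _, _, m, hm, hm2, ⟨e⟩⟩ | ⟨K, _, _, _, m, hm, hm2, ⟨e⟩⟩ | ⟨K, _, _, _, m, q, hq, hm, hmq, ⟨e⟩⟩ |
    ⟨K, _, _, hc, m, hm, ho, ⟨e⟩⟩ | ⟨K, _, _, hc, m, hm, ⟨e⟩⟩ | ⟨K, _, _, hc, m, a, b, hm, hab, ⟨e⟩⟩
  · -- linear
    have hq : 2 ≤ Fintype.card K := Fintype.one_lt_card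
    have hK : IsL m (Fintype.card K) T := ⟨K, inferInstance, inferInstance, rfl, ⟨e⟩⟩
    by_cases h2 : m = 2
    · subst h2
      have hle : (Fintype.card K - 1) / Nat.gcd 2 (Fintype.card K - 1) ≤ 18 := by
        refine H203.BdSL2.bd_of_sl2 hr rfl hrF (e.symm.toMonoidHom.comp (QuotientGroup.mk' _)) ?_ 18 h
        intro x hx
        have h1 : e.symm (QuotientGroup.mk' _ x) = 1 := hx
        rw [MulEquiv.map_eq_one_iff, QuotientGroup.mk'_apply, QuotientGroup.eq_one_iff] at h1
        exact h1
      have h3 : Fintype.card K ≤ 37 := by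
        have h5 := Nat.gcd_dvd_right 2 (Fintype.card K - 1)
        rcases (Nat.dvd_prime Nat.prime_two).1 (Nat.gcd_dvd_left 2 (Fintype.card K - 1)) with h4 | h4
        · rw [h4] at hle
          omega
        · rw [h4] at hle h5
          omega
      have hfit := dv_L p73 (by norm_num) hd hna le_rfl hm2 (by omega) hK
      rw [sz_L2'] at hfit
      clear hK hle e hm2
      generalize Fintype.card K = q at *
      interval_cases q <;> revert hfit <;> decide +kernel
    · exfalso
      have hm3 : 3 ≤ m := by omega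
      have hle : Fintype.card K ^ (m - 1) - 1 ≤ 18 := (bd_psl (F := F) hr hrF hm3 inferInstance).congr e 18 h
      set q := Fintype.card K with hqdef
      have h6 : m ≤ 5 := by
        by_contra hcon
        have h1 : 2 ^ 5 ≤ q ^ (m - 1) := (Nat.pow_le_pow_left hq 5).trans (Nat.pow_le_pow_right (by omega) (by omega))
        omega
      have h7 : q ≤ 4 := by
        by_contra hcon
        have h1 : 5 ^ 2 ≤ q ^ (m - 1) := (Nat.pow_le_pow_left (by omega) 2).trans (Nat.pow_le_pow_right (by omega) (by omega))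
        omega
      have hfit := dv_L p73 (by norm_num) hd hna hm hm2 (by omega) hK
      clear_value q
      clear hqdef hK h2 hle
      interval_cases m <;> interval_cases q <;> exact absurd hfit (by decide +kernel)
  · -- symplectic
    exfalso
    have hq2 : 2 ≤ Fintype.card K := Fintype.one_lt_card
    have hK : IsS m (Fintype.card K) T := ⟨K, inferInstance, inferInstance, rfl, ⟨e⟩⟩
    have hle : (Fintype.card K ^ m - 1) / 2 ≤ 18 := H175.BdSp.bd_psp (F := F) hr rfl (by omega) hrF e 18 h
    set q := Fintype.card K with hqdef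
    have h4 : m ≤ 5 := by
      by_contra hcon
      have h1 : 2 ^ 6 ≤ q ^ m := (Nat.pow_le_pow_left hq2 6).trans (Nat.pow_le_pow_right (by omega) (by omega))
      omega
    have hqle : q ≤ 6 := by
      by_contra hcon
      have h1 : 7 ^ 2 ≤ q ^ m := (Nat.pow_le_pow_left (by omega) 2).trans (Nat.pow_le_pow_right (by omega) (by omega))
      omega
    have hfit := dv_S p73 (by norm_num) hd hna hm hm2 (by omega) hK
    clear_value q
    clear hqdef hK
    interval_cases m <;> interval_cases q <;>
      first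
      | exact absurd hfit (by decide +kernel)
      | (norm_num at hle)
  · -- unitary
    exfalso
    have hq2 : 2 ≤ q := by
      have h1 : 1 < Fintype.card K := Fintype.one_lt_card
      rw [hq] at h1
      by_contra hcon
      interval_cases q <;> simp at h1
    have hle : (q - 1) * q ^ (m - 2) ≤ 18 := H175.BdSU.bd_psu (F := F) hr hq hm hrF e 18 h
    have hK : IsU m q T := ⟨K, inferInstance, inferInstance, hq, ⟨e⟩⟩
    have h5 : m ≤ 6 := by
      by_contra hcon
      have h1 : 2 ^ 5 ≤ q ^ (m - 2) := (Nat.pow_le_pow_left hq2 5).trans (Nat.pow_le_pow_right (by omega) (by omega))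
      have h2 : 1 * 2 ^ 5 ≤ (q - 1) * q ^ (m - 2) := Nat.mul_le_mul (by omega) h1
      omega
    have hqle : q ≤ 5 := by
      by_contra hcon
      have h1 : 6 ^ 1 ≤ q ^ (m - 2) := (Nat.pow_le_pow_left (by omega) 1).trans (Nat.pow_le_pow_right (by omega) (by omega))
      have h2 : 5 * 6 ^ 1 ≤ (q - 1) * q ^ (m - 2) := Nat.mul_le_mul (by omega) h1
      omega
    have hfit := dv_U p73 (by norm_num) hd hna hm hmq (by omega) hK
    clear hK hq e
    interval_cases m <;> interval_cases q <;>
      first
      | exact hmq ⟨rfl, rfl⟩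
      | exact absurd hfit (by decide +kernel)
      | (norm_num at hle)
  · exfalso
    have hq : 2 ≤ Fintype.card K := Fintype.one_lt_card
    have hq3 : 3 ≤ Fintype.card K := by
      obtain ⟨t, ht⟩ := ho
      omega
    obtain ⟨f, hf⟩ := hpow K
    have h2 : (2 : K) ≠ 0 := by
      intro h0
      have h1 : r = 2 := by
        have h3 : r ∣ 2 := (CharP.cast_eq_zero_iff K r 2).1 (by exact_mod_cast h0)
        exact (Nat.prime_dvd_prime_iff_eq hr Nat.prime_two).1 h3
      subst h1
      rw [hf] at ho hq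
      rcases Nat.eq_zero_or_pos f with h3 | h3
      · subst h3; norm_num at hq
      · exact (Nat.not_even_iff_odd.2 ho) ((Nat.even_pow.2 ⟨even_two, by omega⟩))
    have h3 := (H203.OrthHeis.bd_pomega_odd_heis (F := F) hr hrF hf h2 hm).congr e 18 h
    have h4 : 3 ^ 3 ≤ Fintype.card K ^ (2 * m - 3) :=
      (Nat.pow_le_pow_left hq3 3).trans (Nat.pow_le_pow_right (by omega) (by omega))
    have h5 : 2 * 3 ^ 3 ≤ (Fintype.card K - 1) * Fintype.card K ^ (2 * m - 3) := Nat.mul_le_mul (by omega) h4
    omega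
  · exfalso
    obtain ⟨f, hf⟩ := hpow K
    have h3 := (H203.OrthHeis.bd_pomega_plus_heis (F := F) hr hrF hf hm).congr e 18 h
    obtain ⟨h4, h5⟩ := hnum _ _ Fintype.one_lt_card (by omega) h3
    have h6 : m = 4 := by omega
    subst h6
    exact absurd (dv_OP p73 (by norm_num) hd hna le_rfl (by norm_num) ⟨K, inferInstance, inferInstance, h4, ⟨e⟩⟩)
      (by decide +kernel)
  · exfalso
    obtain ⟨f, hf⟩ := hpow K
    have h3 := (H203.OrthHeis.bd_pomega_minus_heis (F := F) hr hrF hf hm hab).congr e 18 h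
    obtain ⟨h4, h5⟩ := hnum _ _ Fintype.one_lt_card (by omega) h3
    have h6 : m = 4 := by omega
    subst h6
    have h7 := dv_OM p73 (by norm_num) hd hna le_rfl (by rw [h4]; norm_num) hab e
    rw [h4] at h7
    exact absurd h7 (by decide +kernel)

end cl

section lie

variable {F : Type u} [Field F] [Finite F]

/-- groups of Lie type in cross characteristic -/
theorem cross73 (h2F : (2 : F) = 0) {P : Subgroup (Matrix.GeneralLinearGroup (Fin 18) F)} (hC : Core P)
    (hd : 73 ∣ Nat.card (MulAut (Soc P))) {r : ℕ} (hr : r.Prime) (hrF : (r : F) ≠ 0)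
    (h : IsLieTypeChar r (Soc P)) : False := by
  have hs : IsSimpleGroup (Soc P) := hC.simple
  have hna := hC.nonabelian
  have hr2 : r ≠ 2 := by
    rintro rfl
    exact hrF (by exact_mod_cast h2F)
  rcases classical_or_exc h with hcl | hexc
  · rcases noR_of_lieTypeChar.{u} hr h with hm | hm
    · exfalso
      rcases hm with ⟨rfl, hm⟩ | ⟨rfl, hm⟩
      · exact hr2 rfl
      · rcases hm with hm | hm | hm | hm
        · exact absurd (dv_L p73 (by norm_num) hd hna (by norm_num) (by norm_num) (by norm_num) hm) (by decide +kernel)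
        · exact absurd (dv_U p73 (by norm_num) hd hna (by norm_num) (by norm_num) (by norm_num) hm) (by decide +kernel)
        · exact absurd (dv_OO p73 (by norm_num) hd hna (by norm_num) (by norm_num) (by decide) hm) (by decide +kernel)
        · exact absurd (dv_G2 p73 (by norm_num) hd hna (by norm_num) (by norm_num) hm) (by decide +kernel)
    · exact cross73_cl hna hd hr hrF (PR.of_noR hm P hC.perfect (MulEquiv.refl _)) hcl
  · exfalso
    have key : ∀ {d : ℕ} {T' : Type} [Group T'], LS.{0, u, u} r d T' → (Soc P ≃* T') → d ≤ 18 := by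
      intro d T' _ hls e'
      exact le_of_ls' hC hrF hls ⟨e'⟩
    rcases hexc with ⟨K, _, _, _, h⟩ | ⟨K, _, _, _, q, hq, h⟩ | ⟨rfl, -⟩ | ⟨rfl, -⟩ | ⟨rfl, K, _, _, m, hm, hK, ⟨e'⟩⟩
    · have : Fact r.Prime := ⟨hr⟩
      have hq2 : 2 ≤ Nat.card K := by
        rw [Nat.card_eq_fintype_card]
        exact Fintype.one_lt_card
      rcases h with ⟨h3, ⟨e'⟩⟩ | ⟨⟨e'⟩⟩ | ⟨⟨e'⟩⟩ | ⟨⟨e'⟩⟩ | ⟨⟨e'⟩⟩
      · have hG : H912.Bd.IsG2 (Fintype.card K) (Soc P) := ⟨K, inferInstance, inferInstance, rfl, ⟨e'⟩⟩
        by_cases h4 : Fintype.card K = 4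
        · rw [h4] at hG
          exact absurd (dv_G2 p73 (by norm_num) hd hna (by norm_num) (by norm_num) hG) (by decide +kernel)
        · have h1 := key (G2.ls K (by rw [Nat.card_eq_fintype_card]; omega)
            (by rw [Nat.card_eq_fintype_card]; exact h4)) e'
          rw [Nat.card_eq_fintype_card] at h1
          have h5 : Fintype.card K < 6 := by
            by_contra hcon
            have h6 : 5 * 6 ≤ (Fintype.card K - 1) * Fintype.card K := Nat.mul_le_mul (by omega) (by omega)
            omega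
          have hfit := dv_G2 p73 (by norm_num) hd hna h3 (by omega) hG
          clear hG e' hq2 h1
          generalize Fintype.card K = q at *
          interval_cases q
          · exact absurd hfit (by decide +kernel)
          · exact absurd rfl h4
          · exact absurd hfit (by decide +kernel)
      · have h2 : (2 : K) ≠ 0 := by
          intro h0
          have h5 : r ∣ 2 := (CharP.cast_eq_zero_iff K r 2).1 (by exact_mod_cast h0)
          exact hr2 ((Nat.prime_dvd_prime_iff_eq hr Nat.prime_two).1 h5)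
        have h1 := key (F4odd.ls_odd K h2) e'
        have h3 : 3 ≤ Nat.card K := by
          by_contra hcon
          have h4 : Nat.card K = 2 := by omega
          apply h2
          have h5 : ((Nat.card K : ℕ) : K) = 0 := by
            rw [Nat.card_eq_fintype_card]
            exact Nat.cast_card_eq_zero K
          rw [h4] at h5
          exact_mod_cast h5
        have := mul_pow_ge h3 (le_refl 4)
        omega
      · have h1 := key (E6.ls K) e'
        have := mul_pow_ge' hq2 (show 6 ≤ 10 by norm_num)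
        omega
      · have h1 := key (E7.ls K) e'
        have := mul_pow_ge' hq2 (show 6 ≤ 16 by norm_num)
        omega
      · have h1 := key (E8.ls K) e'
        have := mul_pow_ge' hq2 (show 6 ≤ 28 by norm_num)
        omega
    · have hq2 : 2 ≤ q := hq.two_le
      rcases h with ⟨hK, ⟨e'⟩⟩ | ⟨hK, ⟨e'⟩⟩
      · have h1 := key (TwE6.ls hq hK) e'
        have := mul_pow_ge' hq2 (le_refl 6)
        omega
      · have h1 := key (TwD4.ls hq hK) e'
        by_cases h3 : 3 ≤ q
        · have := mul_pow_ge h3 (le_refl 4)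
          omega
        · have h2 : q = 2 := by omega
          subst h2
          exact absurd (dv_TD4 p73 (by norm_num) hd hna hq hK (by norm_num) e') (by decide +kernel)
    · exact hr2 rfl
    · exact hr2 rfl
    · have h1 := key (LS.ree hm hK) e'
      rw [Nat.card_eq_fintype_card, hK] at h1
      have h2 : 3 ^ 3 ≤ 3 ^ (2 * m + 1) := Nat.pow_le_pow_right (by norm_num) (by omega)
      omega

end lie

section rest

variable {F : Type u} [Field F] [Finite F]

theorem spor73 {P : Subgroup (GL (Fin 18) F)} (hC : Core P) (hd : 73 ∣ Nat.card (MulAut (Soc P)))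
    (hs : IsSporadicGroup (Soc P)) : False := by
  have key := fun {N : ℕ} (hN : Nat.card (Soc P) = N) => dvd_of_spor p73 (by norm_num) hC hs hd hN
  rcases id hs with hh | hh | hh | hh | hh | hh | hh | hh | hh | hh | hh | hh | hh | hh | hh | hh | hh | hh | hh | hh | hh | hh | hh | hh | hh | hh
  · exact absurd (key (Orders.m11 hh)) (by decide +kernel)
  · exact absurd (key (Orders.m12 hh)) (by decide +kernel)
  · exact absurd (key (Orders.m22 hh)) (by decide +kernel)
  · exact absurd (key (Orders.m23 hh)) (by decide +kernel)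
  · exact absurd (key (Orders.m24 hh)) (by decide +kernel)
  · exact absurd (key (Orders.j1 hh)) (by decide +kernel)
  · exact absurd (key (Orders.j2 hh)) (by decide +kernel)
  · exact absurd (key (Orders.j3 hh)) (by decide +kernel)
  · exact absurd (key (Orders.j4 hh)) (by decide +kernel)
  · exact absurd (key (Orders.co1 hh)) (by decide +kernel)
  · exact absurd (key (Orders.co2 hh)) (by decide +kernel)
  · exact absurd (key (Orders.co3 hh)) (by decide +kernel)
  · exact absurd (key (Orders.mcl hh)) (by decide +kernel)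
  · exact absurd (key (Orders.hs hh)) (by decide +kernel)
  · exact absurd (key (Orders.suz hh)) (by decide +kernel)
  · exact absurd (key (Orders.he hh)) (by decide +kernel)
  · exact absurd (key (Orders.ru hh)) (by decide +kernel)
  · exact absurd (key (Orders.on hh)) (by decide +kernel)
  · exact absurd (key (Orders.ly hh)) (by decide +kernel)
  · exact absurd (key (Orders.fi22 hh)) (by decide +kernel)
  · exact absurd (key (Orders.fi23 hh)) (by decide +kernel)
  · exact absurd (key (Orders.fi24 hh)) (by decide +kernel)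
  · exact absurd (key (Orders.hn hh)) (by decide +kernel)
  · exact absurd (key (Orders.th hh)) (by decide +kernel)
  · exact absurd (key (Orders.b hh)) (by decide +kernel)
  · exact absurd (key (Orders.m hh)) (by decide +kernel)

end rest

end Cfsg.Agent.H2.Rb.Cx

namespace Cfsg.Agent.H2.Rb

open Cfsg Cfsg.Geo Matrix
open Cfsg.Agent.H915.LD Cfsg.Agent.H2.Rb.C100 Cfsg.Agent.H2.Rb.Cx

variable {F : Type u} [Field F] [Finite F]

/-- **The rows: 73 divides the order only in the natural case.** -/
theorem Row.out73 (hq : Nat.card F = 2) {k m : ℕ} {P : Subgroup (GL (Fin 18) F)} (h : Row k m P)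
    (hk : IsKnownSimple' (Soc P)) : Nat' P ∨ ¬ 73 ∣ Nat.card (MulAut (Soc P)) := by
  by_cases hd : 73 ∣ Nat.card (MulAut (Soc P))
  · left
    obtain ⟨p, hpF⟩ := CharP.exists F
    have hp : Fact p.Prime := ⟨CharP.char_is_prime F p⟩
    have hc := h.core
    have hs : IsSimpleGroup (Soc P) := hc.simple
    have hna := hc.nonabelian
    have h2F : (2 : F) = 0 := by
      have := Fintype.ofFinite F
      have h5 : ((Nat.card F : ℕ) : F) = 0 := by
        rw [Nat.card_eq_fintype_card]
        exact Nat.cast_card_eq_zero F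
      rw [hq] at h5
      exact_mod_cast h5
    rcases H912.Known.known_split hk (H912.Known.not_primeCyclic hc.nonabelian) with hT | ⟨r, hr, hT⟩ | hT | hT
    · exact (alt_kill p73 (by norm_num) (by norm_num) p hd hT).elim
    · by_cases hrF : (r : F) = 0
      · have hrp : CharP F r := (CharP.charP_iff_prime_eq_zero hr).2 hrF
        have : Fact r.Prime := ⟨hr⟩
        rcases Row.nat_def' h r hT with h1 | hG | ⟨-, K, _, _, hK, ⟨e⟩⟩
        · exact h1
        · exact absurd (dv_G2 p73 (by norm_num) hd hna (by norm_num) (by norm_num) hG) (by decide +kernel)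
        · exact absurd (dv_TD4 p73 (by norm_num) hd hna Nat.prime_two.isPrimePow hK (by norm_num) e) (by decide +kernel)
      · exact (cross73 h2F hc hd hr hrF hT).elim
    · exact (tits_kill p73 (by norm_num) hc hd hT).elim
    · exact (spor73 hc hd hT).elim
  · exact Or.inr hd

/-- **Piece (S), `q = 2`, `n = 18`, `r = 19`.** -/
theorem small19 (hKS : ∀ (T : Type u) [Group T] [Finite T] [IsSimpleGroup T], IsKnownSimple' T)
    (hq : Nat.card F = 2) (R : Subgroup (GL (Fin 18) F)) (hd : 19 ∣ Nat.card R)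
    (hirr : ActsIrreducibly (matrixSet R)) :
    (∃ (s : ℕ) (E : Subalgebra F (Matrix (Fin 18) (Fin 18) F)), s.Prime ∧ s ∣ 18 ∧ IsFieldSubalgebra s E ∧
        R ≤ subalgebraNormalizer E) ∨
    specialLinear (Fin 18) F ≤ R ∨
    (∃ f : (Fin 18 → F) → (Fin 18 → F) → F, IsSymplecticForm f ∧
        ∀ x : GL (Fin 18) F, FixesForm {(x : Matrix (Fin 18) (Fin 18) F)} f → x ∈ R) ∨
    (∃ (τ : F ≃+* F) (f : (Fin 18 → F) → (Fin 18 → F) → F), IsUnitaryForm τ f ∧
        ∀ x : GL (Fin 18) F, FixesForm {(x : Matrix (Fin 18) (Fin 18) F)} f →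
          Matrix.GeneralLinearGroup.det x = 1 → x ∈ R) ∨
    (∃ Q : (Fin 18 → F) → F, IsNondegenerateQuadraticForm Q ∧ omegaGL Q ≤ R) ∨
    ¬ 73 ∣ Nat.card R := by
  have p19 : Nat.Prime 19 := by norm_num
  have hord : orderOf ((2 : ℕ) : ZMod 19) = 1 * 18 := by
    rw [one_mul, orderOf_eq_iff (by norm_num)]
    refine ⟨by decide +kernel, ?_⟩
    decide +kernel
  have hnum := num_of (F := F) (n := 18) (k := 18) Nat.prime_two (by rw [hq, pow_one]) (by norm_num) (by norm_num)
    (by norm_num) p19 (by norm_num) hord (Or.inl hq) (hd.trans (Subgroup.card_subgroup_dvd_card R))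
  have : Fact (Nat.Prime 19) := ⟨p19⟩
  obtain ⟨x, hx⟩ := exists_prime_orderOf_dvd_card' (G := R) 19 hd
  rcases struct' hnum (g := (x : GL (Fin 18) F)) (by rw [Subgroup.orderOf_coe, hx]) R x.2 hirr with
    h | ⟨P, hPR, hPn, hrow⟩ | ⟨t, D, hD, hRD⟩ | ⟨h, -⟩
  · obtain ⟨s, E, h1, h2, h3, h4⟩ := h
    exact Or.inl ⟨s, E, h1, h2, h3, h4⟩
  · right
    have hs : IsSimpleGroup (Soc P) := hrow.core.simple
    rcases Row.out73 hq hrow (hKS (Soc P)) with (h | ⟨f, hf, h⟩ | ⟨τ, f, hf, h⟩ | ⟨Q, hQ, h⟩) | h
    · exact Or.inl (h.trans hPR)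
    · exact Or.inr (Or.inl ⟨f, hf, fun x hx => hPR (h x hx)⟩)
    · exact Or.inr (Or.inr (Or.inl ⟨τ, f, hf, fun x hx hd => hPR (h x hx hd)⟩))
    · exact Or.inr (Or.inr (Or.inr (Or.inl ⟨Q, hQ, h.trans hPR⟩)))
    · refine Or.inr (Or.inr (Or.inr (Or.inr ?_)))
      intro h5
      have h4 := card_dvd_of_row hrow hPn
      rw [hq, show 2 - 1 = 1 from rfl, one_mul] at h4
      exact h (h5.trans h4)
  · refine Or.inr (Or.inr (Or.inr (Or.inr (Or.inr ?_))))
    intro h5
    have : Fact (Nat.Prime 73) := ⟨p73⟩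
    obtain ⟨y, hy⟩ := exists_prime_orderOf_dvd_card' (G := R) 73 h5
    exact lines_kill hD (hRD y.2) p73 (by rw [Subgroup.orderOf_coe, hy]) (by norm_num) (by rw [hq]; norm_num)
  · norm_num at h

end Cfsg.Agent.H2.Rb
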