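import Cfsg.Agent.H2.Rb.Sz
import Cfsg.Agent.H909.ReePer
import Cfsg.Agent.H141.ReeK.Core
import Cfsg.Agent.H708.ReeTw

/-!
# S3691 (S), small primes, defining characteristic: Ree groups (from helper909's file for S5948, adapted by helper2)

* `fixed_unique` : rank one, the `U`-fixed vectors form a line;
* `steinberg_le` : rank one, trivial torus character, `φ (n v) = 0`: `|U| - 1 ≤ dim V`;
* `not_ree` : a row with socle a Ree group in characteristic three, one prime of `m` dividing the order, is impossible.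
-/

set_option autoImplicit false
set_option linter.unusedSectionVars false

namespace Cfsg.Agent.H2.Rb.C909


open Cfsg Cfsg.Geo Matrix Cfsg.Agent.H915.LD Cfsg.Agent.H2.Rb.C100 Cfsg.Agent.H905.Md

universe u v w

section rankone

open CoxeterSystem Cfsg.Agent.ChevalleyStructure.CoxeterGeom Cfsg.Agent.Tits.Roots Cfsg.Agent.Tits.Core
  Cfsg.Agent.Nodes.Reps Cfsg.Agent.Nodes.BNOf Cfsg.Agent.Nodes.Bruhat Cfsg.Agent.Nodes.OppDec Cfsg.Agent.Omega.CR
  Cfsg.Agent.Omega.FOne.Lift.Sd Cfsg.Agent.Nodes.RootsA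
open Cfsg.Agent.LieRecognition.BNCox (cA cA_apply)

variable {p : ℕ} [Fact p.Prime] {Y : Type*} [Group Y] [Finite Y] {U T : Subgroup Y} {n : Y}
  {k V : Type*} [Field k] [AddCommGroup V] [Module k V] [FiniteDimensional k V]
  {ρ : Y →* Module.End k V}

/-- **The fixed vectors of `U` form a line.** -/
theorem fixed_unique [IsAlgClosed k] [CharP k p] (hD : Sp1 p U T n) (hT : ∀ s ∈ T, ∀ t ∈ T, s * t = t * s)
    (hirr : ∀ L : Submodule k V, (∀ g, ∀ v ∈ L, ρ g v ∈ L) → L = ⊥ ∨ L = ⊤) {x y : V} (hx0 : x ≠ 0)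
    (hx : ∀ u ∈ U, ρ u x = x) (hy : ∀ u ∈ U, ρ u y = y) : ∃ a : k, y = a • x := by
  have : Nontrivial V := ⟨x, 0, hx0⟩
  have : Finite (cA 1).Group := finite_W (cA 1).toCoxeterSystem (isCartan 1)
  have R := hD.rgd (cA 1).toCoxeterSystem (isCartan 1)
  have hG := hD.gg (cA 1).toCoxeterSystem (isCartan 1)
  have hirr' : ∀ L : Submodule k V, Ivt ρ (GG (cA 1).toCoxeterSystem (isCartan 1) T (X1 U n)) L → L = ⊥ ∨ L = ⊤ := by
    intro L hL
    exact hirr L fun g v hv => hL g (by rw [hG]; trivial) v hv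
  have h1 := finrank_D R hirr' hT
  have hle : RGD.Sup (X1 U n) (RGD.Pos (cA 1).toCoxeterSystem (isCartan 1)) ≤ U := by
    refine RGD.Sup_le fun z hz => ?_
    rcases (isRoot_one _ _).1 hz.1 with rfl | rfl
    · rw [X1_pos]
    · exfalso
      have h2 : (0 : Fin 1 → ℤ) 0 ≤ (-sr (0 : Fin 1) : Fin 1 → ℤ) 0 := hz.2 0
      rw [Pi.neg_apply, sr_self, Pi.zero_apply] at h2
      omega
  have hxD : x ∈ D (cA 1).toCoxeterSystem (isCartan 1) (X1 U n) ρ := fun u hu => hx u (hle hu)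
  have hyD : y ∈ D (cA 1).toCoxeterSystem (isCartan 1) (X1 U n) ρ := fun u hu => hy u (hle hu)
  obtain ⟨a, ha⟩ := (finrank_eq_one_iff_of_nonzero' (⟨x, hxD⟩ : D (cA 1).toCoxeterSystem (isCartan 1) (X1 U n) ρ)
    (fun h => hx0 (congrArg Subtype.val h))).1 h1 ⟨y, hyD⟩
  exact ⟨a, (congrArg Subtype.val ha).symm⟩

/-- **The Steinberg module.** -/
theorem steinberg_le [Finite U] (hD : Sp1 p U T n) {v : V} {ψ : Module.Dual k V} (hU : ∀ u ∈ U, ρ u v = v)
    (hχ : ∀ t ∈ T, ρ t v = v) (hψ : ∀ u ∈ U, ∀ x, ψ (ρ (n * u * n⁻¹) x) = ψ x) (h1 : ψ v = 1)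
    (h0 : ψ (ρ n v) = 0) : Nat.card U - 1 ≤ Module.finrank k V := by
  classical
  have := Fintype.ofFinite U
  have hm : ∀ a b x, ρ (a * b) x = ρ a (ρ b x) := fun a b x => by rw [map_mul]; rfl
  have key : ∀ x ∈ U, ψ (ρ (x * n) v) = if x = 1 then 0 else 1 := by
    intro x hx
    split_ifs with hx1
    · rw [hx1, one_mul, h0]
    · rcases hD.br (n * x * n⁻¹) with ⟨u, hu, t, ht, e⟩ | ⟨u, hu, t, ht, u', hu', e⟩
      · exact absurd (hD.tr x hx u hu t ht e) hx1
      · have e2 : x * n = (n * ((n * n)⁻¹ * u * (n * n)) * n⁻¹) * ((n⁻¹ * t * n) * (u' * (n * n))) := by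
          calc x * n = n⁻¹ * (n * x * n⁻¹) * (n * n) := by group
            _ = _ := by rw [e]; group
        have h2 : (n * n)⁻¹ * u * (n * n) ∈ U := by
          have := hD.tu _ (inv_mem hD.nn) u hu
          rwa [inv_inv] at this
        have e3 : ρ ((n⁻¹ * t * n) * (u' * (n * n))) v = v := by
          rw [hm (n⁻¹ * t * n), hm u', hχ _ hD.nn, hU _ hu', hχ _ (hD.nt' ht)]
        rw [e2, hm, hψ _ h2, e3, h1]
  have h2 := H909.Sp4Ker.le_of_biorth (k := k) (V := V) (ι := {x : U // x ≠ 1})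
    (fun x => ψ.comp (ρ ((x : U) : Y)⁻¹) - ψ) (fun y => ρ (((y : U) : Y) * n) v) (d := -1)
    (neg_ne_zero.2 one_ne_zero) (by
      intro x y
      have h3 : ψ (ρ (((x : U) : Y)⁻¹) (ρ (((y : U) : Y) * n) v)) = if x = y then 0 else 1 := by
        rw [← hm, ← mul_assoc, key _ (mul_mem (inv_mem (x : U).2) (y : U).2)]
        have h4 : (((x : U) : Y)⁻¹ * ((y : U) : Y) = 1) ↔ x = y := by
          rw [inv_mul_eq_one]
          exact ⟨fun h => Subtype.ext (Subtype.ext h), fun h => by rw [h]⟩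
        simp only [h4]
      have h5 : ψ (ρ (((y : U) : Y) * n) v) = 1 := by
        rw [key _ (y : U).2, if_neg]
        exact fun h => y.2 (Subtype.ext h)
      change ψ (ρ (((x : U) : Y)⁻¹) (ρ (((y : U) : Y) * n) v)) - ψ (ρ (((y : U) : Y) * n) v) = _
      rw [h3, h5]
      split_ifs <;> simp)
  have h3 : Fintype.card {x : U // x ≠ 1} = Nat.card U - 1 := by
    rw [Fintype.card_subtype_compl, Fintype.card_subtype_eq, Nat.card_eq_fintype_card]
  rwa [h3] at h2

end rankone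

section involution

variable {k V : Type*} [Field k] [AddCommGroup V] [Module k V] [FiniteDimensional k V] {G : Type*} [Group G]
  {ρ : G →* Module.End k V}

/-- the vectors negated by `z` -/
def ng (ρ : G →* Module.End k V) (z : G) : Submodule k V where
  carrier := {x | ρ z x = -x}
  add_mem' {a b} ha hb := by
    change ρ z (a + b) = -(a + b)
    rw [map_add, ha, hb, neg_add]
  zero_mem' := by
    change ρ z 0 = -0
    rw [map_zero, neg_zero]
  smul_mem' c a ha := by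
    change ρ z (c • a) = -(c • a)
    rw [map_smul, ha, smul_neg]

theorem mem_ng {z : G} {x : V} : x ∈ ng ρ z ↔ ρ z x = -x := Iff.rfl

theorem ng_conj_le {z x : G} : Module.finrank k (ng ρ z) ≤ Module.finrank k (ng ρ (x⁻¹ * z * x)) := by
  have hm : ∀ a b y, ρ (a * b) y = ρ a (ρ b y) := fun a b y => by rw [map_mul]; rfl
  let f : ng ρ z →ₗ[k] ng ρ (x⁻¹ * z * x) :=
    { toFun := fun y => ⟨ρ x⁻¹ y, by
        rw [mem_ng, ← hm, mul_assoc, mul_inv_cancel, mul_one, hm, mem_ng.1 y.2, map_neg]⟩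
      map_add' := fun a b => Subtype.ext (map_add _ _ _)
      map_smul' := fun c a => Subtype.ext (map_smul _ _ _) }
  refine LinearMap.finrank_le_finrank_of_injective (f := f) fun a b hab => ?_
  have h1 : ρ x⁻¹ (a : V) = ρ x⁻¹ b := congrArg Subtype.val hab
  have h2 : ∀ y : V, ρ x (ρ x⁻¹ y) = y := fun y => by rw [← hm, mul_inv_cancel, map_one]; rfl
  exact Subtype.ext (by rw [← h2 a, h1, h2])

/-- three commuting involutions with product one -/
theorem ng_three (h2 : (2 : k) ≠ 0) {z z' : G} (d : ℕ) (hz : d ≤ Module.finrank k (ng ρ z))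
    (hz' : d ≤ Module.finrank k (ng ρ z')) (hzz : d ≤ Module.finrank k (ng ρ (z * z'))) :
    3 * d ≤ 2 * Module.finrank k V := by
  have hm : ∀ a b y, ρ (a * b) y = ρ a (ρ b y) := fun a b y => by rw [map_mul]; rfl
  have e1 := Submodule.finrank_sup_add_finrank_inf_eq (ng ρ z) (ng ρ z')
  have e2 := Submodule.finrank_le (ng ρ z ⊔ ng ρ z')
  have e3 := Submodule.finrank_sup_add_finrank_inf_eq (ng ρ z ⊓ ng ρ z') (ng ρ (z * z'))
  have e4 := Submodule.finrank_le (ng ρ z ⊓ ng ρ z' ⊔ ng ρ (z * z'))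
  have e5 : ng ρ z ⊓ ng ρ z' ⊓ ng ρ (z * z') = ⊥ := by
    rw [eq_bot_iff]
    rintro x ⟨⟨h3, h4⟩, h5⟩
    have h6 : ρ (z * z') x = -x := h5
    rw [hm, mem_ng.1 h4, map_neg, mem_ng.1 h3, neg_neg] at h6
    have h7 : (2 : k) • x = 0 := by
      rw [two_smul]
      nth_rewrite 2 [h6]
      exact add_neg_cancel x
    exact (smul_eq_zero.1 h7).resolve_left h2
  rw [e5, finrank_bot] at e3
  omega

/-- the elements of a group of order eight and exponent two permuted by an element of order seven -/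
theorem exists_conj {S : Subgroup G} (h8 : Nat.card S = 8) {g : G} (hg : ∀ s ∈ S, g⁻¹ * s * g ∈ S) (hg7 : g ^ 7 = 1)
    (hfix : ∀ s ∈ S, g⁻¹ * s * g = s → s = 1) {z s : G} (hz : z ∈ S) (hz1 : z ≠ 1) (hs : s ∈ S) (hs1 : s ≠ 1) :
    ∃ x : G, s = x⁻¹ * z * x := by
  classical
  have hfin : Finite S := Nat.finite_of_card_ne_zero (by omega)
  have := Fintype.ofFinite S
  have hmem : ∀ i : ℕ, (g ^ i)⁻¹ * z * g ^ i ∈ S := by
    intro i
    induction i with
    | zero => simpa using hz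
    | succ i ih =>
      have h1 := hg _ ih
      have e : g⁻¹ * ((g ^ i)⁻¹ * z * g ^ i) * g = (g ^ (i + 1))⁻¹ * z * g ^ (i + 1) := by
        rw [pow_succ]; group
      rwa [e] at h1
  have hne : ∀ i : ℕ, (g ^ i)⁻¹ * z * g ^ i ≠ 1 := by
    intro i h1
    apply hz1
    have h2 : z = g ^ i * ((g ^ i)⁻¹ * z * g ^ i) * (g ^ i)⁻¹ := by group
    rw [h2, h1]
    group
  -- a power fixing `z`
  have hfixi : ∀ i : ℕ, 0 < i → i < 7 → (g ^ i)⁻¹ * z * g ^ i ≠ z := by
    intro i hi hi7 h1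
    apply hz1
    have hcomm : Commute (g ^ i) z := by
      have h2 : g ^ i * ((g ^ i)⁻¹ * z * g ^ i) = g ^ i * z := by rw [h1]
      have h3 : g ^ i * ((g ^ i)⁻¹ * z * g ^ i) = z * g ^ i := by group
      exact h2.symm.trans h3
    obtain ⟨b, hb⟩ : ∃ b : ℕ, i * b % 7 = 1 := by
      interval_cases i
      · exact ⟨1, by norm_num⟩
      · exact ⟨4, by norm_num⟩
      · exact ⟨5, by norm_num⟩
      · exact ⟨2, by norm_num⟩
      · exact ⟨3, by norm_num⟩
      · exact ⟨6, by norm_num⟩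
    have h2 : (g ^ i) ^ b = g := by
      rw [← pow_mul, ← Nat.div_add_mod (i * b) 7, hb, pow_add, pow_mul, hg7, one_pow, one_mul, pow_one]
    have h3 : Commute g z := by
      have := hcomm.pow_left b
      rwa [h2] at this
    apply hfix z hz
    calc g⁻¹ * z * g = g⁻¹ * (z * g) := by group
      _ = g⁻¹ * (g * z) := by rw [h3.eq]
      _ = z := by group
  let f : Fin 7 → {s : S // s ≠ 1} := fun i => ⟨⟨(g ^ (i : ℕ))⁻¹ * z * g ^ (i : ℕ), hmem i⟩, fun h =>
    hne i (congrArg Subtype.val h)⟩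
  have hinj : Function.Injective f := by
    have key : ∀ i l : Fin 7, (i : ℕ) < l → f i ≠ f l := by
      intro i l hil h1
      have h2 : (g ^ (i : ℕ))⁻¹ * z * g ^ (i : ℕ) = (g ^ (l : ℕ))⁻¹ * z * g ^ (l : ℕ) :=
        congrArg (fun x : {s : S // s ≠ 1} => ((x : S) : G)) h1
      have h3 : g ^ (l : ℕ) = g ^ ((l : ℕ) - i) * g ^ (i : ℕ) := by
        rw [← pow_add]; congr 1; omega
      rw [h3] at h2
      apply hfixi ((l : ℕ) - i) (by omega) (by have := l.2; omega)
      have h4 : (g ^ ((l : ℕ) - i))⁻¹ * z * g ^ ((l : ℕ) - i) =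
          g ^ (i : ℕ) * ((g ^ ((l : ℕ) - i) * g ^ (i : ℕ))⁻¹ * z * (g ^ ((l : ℕ) - i) * g ^ (i : ℕ))) *
            (g ^ (i : ℕ))⁻¹ := by group
      rw [h4, ← h2]
      group
    intro i l hil
    by_contra hne'
    rcases lt_or_gt_of_ne (fun h => hne' (Fin.ext h) : (i : ℕ) ≠ l) with h | h
    · exact key i l h hil
    · exact key l i h hil.symm
  have hcard : Fintype.card (Fin 7) = Fintype.card {s : S // s ≠ 1} := by
    rw [Fintype.card_subtype_compl, Fintype.card_subtype_eq, ← Nat.card_eq_fintype_card (α := S), h8, Fintype.card_fin]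
  obtain ⟨i, hi⟩ := ((Fintype.bijective_iff_injective_and_card f).2 ⟨hinj, hcard⟩).2
    ⟨⟨s, hs⟩, fun h => hs1 (congrArg Subtype.val h)⟩
  exact ⟨g ^ (i : ℕ), (congrArg (fun x : {s : S // s ≠ 1} => ((x : S) : G)) hi).symm⟩

end involution

end Cfsg.Agent.H2.Rb.C909
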