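import Cfsg.Agent.H2.Rb.Dv

/-!
# S3691, refined single cases of piece (S): cross characteristic, degree at most 24 (helper2)

* `Chk r l` : two primes `r`, `l` not dividing together the order of a small group of Lie type;
* `cross_ref` : a core of degree at most 24 with `r l ∣ |Aut (Soc P)|` is not of Lie type in cross characteristic.
-/

set_option autoImplicit false
set_option exponentiation.threshold 2000

universe u v w

namespace Cfsg.Agent.H2.Rb.Cx

open Cfsg Cfsg.Geo Cfsg.Agent.H912.Bd Cfsg.Agent.H912.Five Cfsg.Agent.H915.LD Cfsg.Agent.OrdDiv Matrix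
open Cfsg.Agent.H902 Cfsg.Agent.H902.Names Cfsg.Agent.H203.LS Cfsg.Agent.H936.List12
open Cfsg.Agent.H2.Rb.C100 Cfsg.Agent.NotCT

/-- the pair `r`, `l` of primes -/
structure Chk (r l : ℕ) : Prop where
  rp : r.Prime
  lp : l.Prime
  r7 : 7 ≤ r
  l7 : 7 ≤ l
  L2 : ∀ q < 50, 4 ≤ q → q ≠ 18 → ¬ (r ∣ sz (.L 2) q ∧ l ∣ sz (.L 2) q)
  L' : ∀ m < 6, ∀ q < 6, 3 ≤ m ∧ 2 ≤ q ∧ q ^ (m - 1) ≤ 25 → ¬ (r ∣ sz (.L m) q ∧ l ∣ sz (.L m) q)
  S' : ∀ m < 6, ∀ q < 8, 2 ≤ m ∧ 2 ≤ q ∧ (q ^ m - 1) / 2 ≤ 24 → ¬ (r ∣ sz (.C m) q ∧ l ∣ sz (.C m) q)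
  U' : ∀ m < 7, ∀ q < 6, 3 ≤ m ∧ 2 ≤ q ∧ (q - 1) * q ^ (m - 2) ≤ 24 → ¬ (r ∣ sz (.U m) q ∧ l ∣ sz (.U m) q)
  G2 : ∀ q < 6, 3 ≤ q → ¬ (r ∣ sz .G2 q ∧ l ∣ sz .G2 q)
  D : ¬ (r ∣ sz (.D 4) 2 ∧ l ∣ sz (.D 4) 2)
  DD : ¬ (r ∣ sz (.DD 4) 2 ∧ l ∣ sz (.DD 4) 2)
  F4 : ¬ (r ∣ sz .F4 2 ∧ l ∣ sz .F4 2)
  TD4 : ¬ (r ∣ sz .TD4 2 ∧ l ∣ sz .TD4 2)
  Sz : ¬ (r ∣ sz .Sz 8 ∧ l ∣ sz .Sz 8)

theorem Chk.L {r l : ℕ} (h : Chk r l) (m : ℕ) (h1 : m < 6) (q : ℕ) (h2 : q < 6) (h3 : 3 ≤ m) (h4 : 2 ≤ q)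
    (h5 : q ^ (m - 1) ≤ 25) : ¬ (r ∣ sz (.L m) q ∧ l ∣ sz (.L m) q) := h.L' m h1 q h2 ⟨h3, h4, h5⟩

theorem Chk.S {r l : ℕ} (h : Chk r l) (m : ℕ) (h1 : m < 6) (q : ℕ) (h2 : q < 8) (h3 : 2 ≤ m) (h4 : 2 ≤ q)
    (h5 : (q ^ m - 1) / 2 ≤ 24) : ¬ (r ∣ sz (.C m) q ∧ l ∣ sz (.C m) q) := h.S' m h1 q h2 ⟨h3, h4, h5⟩

theorem Chk.U {r l : ℕ} (h : Chk r l) (m : ℕ) (h1 : m < 7) (q : ℕ) (h2 : q < 6) (h3 : 3 ≤ m) (h4 : 2 ≤ q)
    (h5 : (q - 1) * q ^ (m - 2) ≤ 24) : ¬ (r ∣ sz (.U m) q ∧ l ∣ sz (.U m) q) := h.U' m h1 q h2 ⟨h3, h4, h5⟩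

section cl

variable {F : Type u} [Field F] {s n : ℕ} {T : Type v} [Group T] [Finite T] [IsSimpleGroup T]

/-- classical groups in cross characteristic, degree at most 24 -/
theorem cross_ref_cl {r l : ℕ} (hc : Chk r l) (hna : ¬ IsMulCommutative T) (hdr : r ∣ Nat.card (MulAut T))
    (hdl : l ∣ Nat.card (MulAut T)) (hn : n ≤ 24) (hr : s.Prime) (hrF : (s : F) ≠ 0)
    (h : PR F n s T)
    (hT : Cfsg.IsPSLChar s T ∨ Cfsg.IsPSpChar s T ∨ Cfsg.IsPSUChar s T ∨ Cfsg.IsPOmegaOddChar s T ∨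
      Cfsg.IsPOmegaPlusChar s T ∨ Cfsg.IsPOmegaMinusChar s T) : False := by
  have hrr : Fact s.Prime := ⟨hr⟩
  have hnum : ∀ q j : ℕ, 2 ≤ q → 4 ≤ j → (q - 1) * q ^ j ≤ 24 → q = 2 ∧ j = 4 := by
    intro q j hq hj hle
    have h2 : q = 2 := by
      by_contra hcon
      have h1 : 3 ^ 4 ≤ q ^ j := (Nat.pow_le_pow_left (by omega) 4).trans (Nat.pow_le_pow_right (by omega) hj)
      have h2 : 1 * 3 ^ 4 ≤ (q - 1) * q ^ j := Nat.mul_le_mul (by omega) h1
      omega
    subst h2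
    refine ⟨rfl, ?_⟩
    by_contra hcon
    have h1 : 2 ^ 5 ≤ 2 ^ j := Nat.pow_le_pow_right (by omega) (by omega)
    omega
  have hpow : ∀ (K : Type) [Field K] [Fintype K] [CharP K s], ∃ k, Fintype.card K = s ^ k := by
    intro K _ _ _
    obtain ⟨k, -, hk⟩ := FiniteField.card K s
    exact ⟨k, hk⟩
  rcases hT with ⟨K, _, _, _, m, hm, hm2, ⟨e⟩⟩ | ⟨K, _, _, _, m, hm, hm2, ⟨e⟩⟩ | ⟨K, _, _, _, m, q, hq, hm, hmq, ⟨e⟩⟩ |
    ⟨K, _, _, hch, m, hm, ho, ⟨e⟩⟩ | ⟨K, _, _, hch, m, hm, ⟨e⟩⟩ | ⟨K, _, _, hch, m, a, b, hm, hab, ⟨e⟩⟩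
  · -- linear
    have hq : 2 ≤ Fintype.card K := Fintype.one_lt_card
    have hK : IsL m (Fintype.card K) T := ⟨K, inferInstance, inferInstance, rfl, ⟨e⟩⟩
    by_cases h2 : m = 2
    · subst h2
      have hle : (Fintype.card K - 1) / Nat.gcd 2 (Fintype.card K - 1) ≤ n := by
        refine H203.BdSL2.bd_of_sl2 hr rfl hrF (e.symm.toMonoidHom.comp (QuotientGroup.mk' _)) ?_ n h
        intro x hx
        have h1 : e.symm (QuotientGroup.mk' _ x) = 1 := hx
        rw [MulEquiv.map_eq_one_iff, QuotientGroup.mk'_apply, QuotientGroup.eq_one_iff] at h1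
        exact h1
      have h3 : Fintype.card K ≤ 49 := by
        have h5 := Nat.gcd_dvd_right 2 (Fintype.card K - 1)
        rcases (Nat.dvd_prime Nat.prime_two).1 (Nat.gcd_dvd_left 2 (Fintype.card K - 1)) with h4 | h4
        · rw [h4] at hle
          omega
        · rw [h4] at hle h5
          omega
      have h18 : Fintype.card K ≠ 18 := by
        intro h18
        obtain ⟨j, hj⟩ := hpow K
        rw [h18] at hj
        exact not_pp hr Nat.prime_two Nat.prime_three (by norm_num) (by rw [← hj]; norm_num) (by rw [← hj]; norm_num)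
      exact hc.L2 _ (by omega) (hm2 rfl) h18 ⟨dv_L hc.rp hc.r7 hdr hna le_rfl hm2 (by omega) hK,
        dv_L hc.lp hc.l7 hdl hna le_rfl hm2 (by omega) hK⟩
    · have hm3 : 3 ≤ m := by omega
      have hle : Fintype.card K ^ (m - 1) - 1 ≤ n := (bd_psl (F := F) hr hrF hm3 inferInstance).congr e n h
      have h6 : m ≤ 5 := by
        by_contra hcon
        have h1 : 2 ^ 5 ≤ Fintype.card K ^ (m - 1) :=
          (Nat.pow_le_pow_left hq 5).trans (Nat.pow_le_pow_right (by omega) (by omega))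
        omega
      have h7 : Fintype.card K ≤ 5 := by
        by_contra hcon
        have h1 : 6 ^ 2 ≤ Fintype.card K ^ (m - 1) :=
          (Nat.pow_le_pow_left (by omega) 2).trans (Nat.pow_le_pow_right (by omega) (by omega))
        omega
      exact hc.L m (by omega) _ (by omega) hm3 hq (by omega) ⟨dv_L hc.rp hc.r7 hdr hna hm hm2 (by omega) hK,
        dv_L hc.lp hc.l7 hdl hna hm hm2 (by omega) hK⟩
  · -- symplectic
    have hq2 : 2 ≤ Fintype.card K := Fintype.one_lt_card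
    have hK : IsS m (Fintype.card K) T := ⟨K, inferInstance, inferInstance, rfl, ⟨e⟩⟩
    have hle : (Fintype.card K ^ m - 1) / 2 ≤ n := H175.BdSp.bd_psp (F := F) hr rfl (by omega) hrF e n h
    have h4 : m ≤ 5 := by
      by_contra hcon
      have h1 : 2 ^ 6 ≤ Fintype.card K ^ m :=
        (Nat.pow_le_pow_left hq2 6).trans (Nat.pow_le_pow_right (by omega) (by omega))
      omega
    have hqle : Fintype.card K ≤ 7 := by
      by_contra hcon
      have h1 : 8 ^ 2 ≤ Fintype.card K ^ m :=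
        (Nat.pow_le_pow_left (by omega) 2).trans (Nat.pow_le_pow_right (by omega) (by omega))
      omega
    exact hc.S m (by omega) _ (by omega) hm hq2 (by omega) ⟨dv_S hc.rp hc.r7 hdr hna hm hm2 (by omega) hK,
      dv_S hc.lp hc.l7 hdl hna hm hm2 (by omega) hK⟩
  · -- unitary
    have hq2 : 2 ≤ q := by
      have h1 : 1 < Fintype.card K := Fintype.one_lt_card
      rw [hq] at h1
      by_contra hcon
      interval_cases q <;> simp at h1
    have hle : (q - 1) * q ^ (m - 2) ≤ n := H175.BdSU.bd_psu (F := F) hr hq hm hrF e n h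
    have hK : IsU m q T := ⟨K, inferInstance, inferInstance, hq, ⟨e⟩⟩
    have h5 : m ≤ 6 := by
      by_contra hcon
      have h1 : 2 ^ 5 ≤ q ^ (m - 2) := (Nat.pow_le_pow_left hq2 5).trans (Nat.pow_le_pow_right (by omega) (by omega))
      have h2 : 1 * 2 ^ 5 ≤ (q - 1) * q ^ (m - 2) := Nat.mul_le_mul (by omega) h1
      omega
    have hqle : q ≤ 5 := by
      by_contra hcon
      have h1 : 6 ^ 1 ≤ q ^ (m - 2) := (Nat.pow_le_pow_left (by omega) 1).trans (Nat.pow_le_pow_right (by omega) (by omega))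
      have h2 : 5 * 6 ^ 1 ≤ (q - 1) * q ^ (m - 2) := Nat.mul_le_mul (by omega) h1
      omega
    exact hc.U m (by omega) _ (by omega) hm hq2 (by omega) ⟨dv_U hc.rp hc.r7 hdr hna hm hmq (by omega) hK,
      dv_U hc.lp hc.l7 hdl hna hm hmq (by omega) hK⟩
  · have hq : 2 ≤ Fintype.card K := Fintype.one_lt_card
    have hq3 : 3 ≤ Fintype.card K := by
      obtain ⟨t, ht⟩ := ho
      omega
    obtain ⟨f, hf⟩ := hpow K
    have h2 : (2 : K) ≠ 0 := by
      intro h0
      have h1 : s = 2 := by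
        have h3 : s ∣ 2 := (CharP.cast_eq_zero_iff K s 2).1 (by exact_mod_cast h0)
        exact (Nat.prime_dvd_prime_iff_eq hr Nat.prime_two).1 h3
      subst h1
      rw [hf] at ho hq
      rcases Nat.eq_zero_or_pos f with h3 | h3
      · subst h3; norm_num at hq
      · exact (Nat.not_even_iff_odd.2 ho) ((Nat.even_pow.2 ⟨even_two, by omega⟩))
    have h3 := (H203.OrthHeis.bd_pomega_odd_heis (F := F) hr hrF hf h2 hm).congr e n h
    have h4 : 3 ^ 3 ≤ Fintype.card K ^ (2 * m - 3) :=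
      (Nat.pow_le_pow_left hq3 3).trans (Nat.pow_le_pow_right (by omega) (by omega))
    have h5 : 2 * 3 ^ 3 ≤ (Fintype.card K - 1) * Fintype.card K ^ (2 * m - 3) := Nat.mul_le_mul (by omega) h4
    omega
  · obtain ⟨f, hf⟩ := hpow K
    have h3 := (H203.OrthHeis.bd_pomega_plus_heis (F := F) hr hrF hf hm).congr e n h
    obtain ⟨h4, h5⟩ := hnum _ _ Fintype.one_lt_card (by omega) (h3.trans hn)
    have h6 : m = 4 := by omega
    subst h6
    have hK : IsOP 4 2 T := ⟨K, inferInstance, inferInstance, h4, ⟨e⟩⟩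
    exact hc.D ⟨dv_OP hc.rp hc.r7 hdr hna le_rfl (by norm_num) hK, dv_OP hc.lp hc.l7 hdl hna le_rfl (by norm_num) hK⟩
  · obtain ⟨f, hf⟩ := hpow K
    have h3 := (H203.OrthHeis.bd_pomega_minus_heis (F := F) hr hrF hf hm hab).congr e n h
    obtain ⟨h4, h5⟩ := hnum _ _ Fintype.one_lt_card (by omega) (h3.trans hn)
    have h6 : m = 4 := by omega
    subst h6
    have h7 := dv_OM hc.rp hc.r7 hdr hna le_rfl (by rw [h4]; norm_num) hab e
    have h8 := dv_OM hc.lp hc.l7 hdl hna le_rfl (by rw [h4]; norm_num) hab e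
    rw [h4] at h7 h8
    exact hc.DD ⟨h7, h8⟩

end cl

section lie

variable {F : Type u} [Field F] [Finite F] {n : ℕ}

/-- groups of Lie type in cross characteristic, degree at most 24 -/
theorem cross_ref {r l : ℕ} (hc : Chk r l) (hn : n ≤ 24) {P : Subgroup (Matrix.GeneralLinearGroup (Fin n) F)}
    (hC : Core P) (hdr : r ∣ Nat.card (MulAut (Soc P))) (hdl : l ∣ Nat.card (MulAut (Soc P))) {s : ℕ} (hs : s.Prime)
    (hsF : (s : F) ≠ 0) (h : IsLieTypeChar s (Soc P)) : False := by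
  have hsi : IsSimpleGroup (Soc P) := hC.simple
  have hna := hC.nonabelian
  have key : ∀ {d : ℕ} {T' : Type} [Group T'], LS.{0, u, u} s d T' → (Soc P ≃* T') → d ≤ n := by
    intro d T' _ hls e'
    exact le_of_ls' hC hsF hls ⟨e'⟩
  -- the two primes
  have kL : ∀ m q : ℕ, 2 ≤ m → (m = 2 → 4 ≤ q) → q < 50 → IsL m q (Soc P) → r ∣ sz (.L m) q ∧ l ∣ sz (.L m) q :=
    fun m q h1 h2 h3 h4 => ⟨dv_L hc.rp hc.r7 hdr hna h1 h2 (by omega) h4, dv_L hc.lp hc.l7 hdl hna h1 h2 (by omega) h4⟩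
  have kU : ∀ m q : ℕ, 3 ≤ m → ¬ (m = 3 ∧ q = 2) → q < 50 → IsU m q (Soc P) → r ∣ sz (.U m) q ∧ l ∣ sz (.U m) q :=
    fun m q h1 h2 h3 h4 => ⟨dv_U hc.rp hc.r7 hdr hna h1 h2 (by omega) h4, dv_U hc.lp hc.l7 hdl hna h1 h2 (by omega) h4⟩
  have kG : ∀ q : ℕ, 3 ≤ q → q < 6 → H912.Bd.IsG2 q (Soc P) → False :=
    fun q h1 h3 h4 => hc.G2 q h3 h1 ⟨dv_G2 hc.rp hc.r7 hdr hna h1 (by omega) h4, dv_G2 hc.lp hc.l7 hdl hna h1 (by omega) h4⟩
  have kF : H912.Bd.IsF4 2 (Soc P) → False :=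
    fun h4 => hc.F4 ⟨dv_F4 hc.rp hc.r7 hdr hna (by norm_num) h4, dv_F4 hc.lp hc.l7 hdl hna (by norm_num) h4⟩
  rcases classical_or_exc h with hcl | hexc
  · rcases noR_of_lieTypeChar.{u} hs h with hm | hm
    · rcases hm with ⟨rfl, hm⟩ | ⟨rfl, hm⟩
      · rcases hm with hm | hm | hm | hm | hm | hm | hm | hm | hm | hm | hm | hm
        · exact hc.L2 4 (by norm_num) (by norm_num) (by norm_num) (kL 2 4 (by norm_num) (by norm_num) (by norm_num) hm)
        · exact hc.L 3 (by norm_num) 2 (by norm_num) (by norm_num) (by norm_num) (by norm_num)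
            (kL 3 2 (by norm_num) (by norm_num) (by norm_num) hm)
        · exact hc.L 3 (by norm_num) 4 (by norm_num) (by norm_num) (by norm_num) (by norm_num)
            (kL 3 4 (by norm_num) (by norm_num) (by norm_num) hm)
        · exact hc.L 4 (by norm_num) 2 (by norm_num) (by norm_num) (by norm_num) (by norm_num)
            (kL 4 2 (by norm_num) (by norm_num) (by norm_num) hm)
        · exact hc.U 4 (by norm_num) 2 (by norm_num) (by norm_num) (by norm_num) (by norm_num)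
            (kU 4 2 (by norm_num) (by norm_num) (by norm_num) hm)
        · exact hc.U 6 (by norm_num) 2 (by norm_num) (by norm_num) (by norm_num) (by norm_num)
            (kU 6 2 (by norm_num) (by norm_num) (by norm_num) hm)
        · exact hc.S 3 (by norm_num) 2 (by norm_num) (by norm_num) (by norm_num) (by norm_num)
            ⟨dv_S hc.rp hc.r7 hdr hna (by norm_num) (by norm_num) (by norm_num) hm,
              dv_S hc.lp hc.l7 hdl hna (by norm_num) (by norm_num) (by norm_num) hm⟩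
        · exact hc.D ⟨dv_OP hc.rp hc.r7 hdr hna le_rfl (by norm_num) hm,
            dv_OP hc.lp hc.l7 hdl hna le_rfl (by norm_num) hm⟩
        · exact kG 4 (by norm_num) (by norm_num) hm
        · exact kF hm
        · obtain ⟨K, iK, iKf, hK, e⟩ := hm
          have hch : CharP K 2 := charP_of_dvd Nat.prime_two (by rw [hK]; norm_num)
          have h1 := le_of_ls' hC hsF (H203.LS.TwE6.ls Nat.prime_two.isPrimePow hK) e
          norm_num at h1
          omega
        · obtain ⟨K, iK, iKf, hK, ⟨e⟩⟩ := hm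
          exact hc.Sz ⟨dv_Sz hc.rp hc.r7 hdr hna (m := 1) le_rfl (by rw [hK]; norm_num) (by norm_num) e,
            dv_Sz hc.lp hc.l7 hdl hna (m := 1) le_rfl (by rw [hK]; norm_num) (by norm_num) e⟩
      · rcases hm with hm | hm | hm | hm
        · exact hc.L2 9 (by norm_num) (by norm_num) (by norm_num) (kL 2 9 (by norm_num) (by norm_num) (by norm_num) hm)
        · exact hc.U 4 (by norm_num) 3 (by norm_num) (by norm_num) (by norm_num) (by norm_num)
            (kU 4 3 (by norm_num) (by norm_num) (by norm_num) hm)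
        · exact hc.S 3 (by norm_num) 3 (by norm_num) (by norm_num) (by norm_num) (by norm_num)
            ⟨dv_OO hc.rp hc.r7 hdr hna (by norm_num) (by norm_num) (by decide) hm,
              dv_OO hc.lp hc.l7 hdl hna (by norm_num) (by norm_num) (by decide) hm⟩
        · exact kG 3 (by norm_num) (by norm_num) hm
    · exact cross_ref_cl hc hna hdr hdl hn hs hsF (PR.of_noR hm P hC.perfect (MulEquiv.refl _)) hcl
  · rcases hexc with ⟨K, _, _, _, h⟩ | ⟨K, _, _, _, q, hq, h⟩ | ⟨rfl, K, _, _, m, hm, hK, ⟨e'⟩⟩ |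
      ⟨rfl, K, _, _, m, hm, hK, ⟨e'⟩⟩ | ⟨rfl, K, _, _, m, hm, hK, ⟨e'⟩⟩
    · have : Fact s.Prime := ⟨hs⟩
      have hq2 : 2 ≤ Nat.card K := by
        rw [Nat.card_eq_fintype_card]
        exact Fintype.one_lt_card
      rcases h with ⟨h3, ⟨e'⟩⟩ | ⟨⟨e'⟩⟩ | ⟨⟨e'⟩⟩ | ⟨⟨e'⟩⟩ | ⟨⟨e'⟩⟩
      · have hG : H912.Bd.IsG2 (Fintype.card K) (Soc P) := ⟨K, inferInstance, inferInstance, rfl, ⟨e'⟩⟩
        by_cases h4 : Fintype.card K = 4
        · rw [h4] at hG
          exact kG 4 (by norm_num) (by norm_num) hG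
        · have h1 := key (G2.ls K (by rw [Nat.card_eq_fintype_card]; omega)
            (by rw [Nat.card_eq_fintype_card]; exact h4)) e'
          rw [Nat.card_eq_fintype_card] at h1
          have h5 : Fintype.card K < 6 := by
            by_contra hcon
            have h6 : 5 * 6 ≤ (Fintype.card K - 1) * Fintype.card K := Nat.mul_le_mul (by omega) (by omega)
            omega
          exact kG _ h3 h5 hG
      · by_cases h2 : (2 : K) = 0
        · by_cases h3 : 2 < Nat.card K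
          · have h1 := key (F4even.ls_even K h2 h3) e'
            have := mul_pow_ge h3 (le_refl 4)
            omega
          · have h4 : Fintype.card K = 2 := by rw [← Nat.card_eq_fintype_card]; omega
            exact kF ⟨K, inferInstance, inferInstance, h4, ⟨e'⟩⟩
        · have h1 := key (F4odd.ls_odd K h2) e'
          have h3 : 3 ≤ Nat.card K := by
            by_contra hcon
            have h4 : Nat.card K = 2 := by omega
            apply h2
            have h5 : ((Nat.card K : ℕ) : K) = 0 := by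
              rw [Nat.card_eq_fintype_card]
              exact Nat.cast_card_eq_zero K
            rw [h4] at h5
            exact_mod_cast h5
          have := mul_pow_ge h3 (le_refl 4)
          omega
      · have h1 := key (E6.ls K) e'
        have := mul_pow_ge' hq2 (show 6 ≤ 10 by norm_num)
        omega
      · have h1 := key (E7.ls K) e'
        have := mul_pow_ge' hq2 (show 6 ≤ 16 by norm_num)
        omega
      · have h1 := key (E8.ls K) e'
        have := mul_pow_ge' hq2 (show 6 ≤ 28 by norm_num)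
        omega
    · have hq2 : 2 ≤ q := hq.two_le
      rcases h with ⟨hK, ⟨e'⟩⟩ | ⟨hK, ⟨e'⟩⟩
      · have h1 := key (TwE6.ls hq hK) e'
        have := mul_pow_ge' hq2 (le_refl 6)
        omega
      · have h1 := key (TwD4.ls hq hK) e'
        by_cases h3 : 3 ≤ q
        · have := mul_pow_ge h3 (le_refl 4)
          omega
        · have h2 : q = 2 := by omega
          subst h2
          exact hc.TD4 ⟨dv_TD4 hc.rp hc.r7 hdr hna hq hK (by norm_num) e', dv_TD4 hc.lp hc.l7 hdl hna hq hK (by norm_num) e'⟩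
    · have h1 := key (LS.sz hm hK) e'
      rw [Nat.card_eq_fintype_card, hK] at h1
      have h2 : m < 2 := by
        by_contra hcon
        have : 2 ^ 5 ≤ 2 ^ (2 * m + 1) := Nat.pow_le_pow_right (by norm_num) (by omega)
        omega
      have h3 : m = 1 := by omega
      subst h3
      exact hc.Sz ⟨dv_Sz hc.rp hc.r7 hdr hna (m := 1) le_rfl hK (by norm_num) e',
        dv_Sz hc.lp hc.l7 hdl hna (m := 1) le_rfl hK (by norm_num) e'⟩
    · have h1 := key (TwF4.ls hm hK) e'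
      rw [Nat.card_eq_fintype_card, hK] at h1
      have h2 : 2 ^ 3 ≤ 2 ^ (2 * m + 1) := Nat.pow_le_pow_right (by norm_num) (by omega)
      have h3 : 7 * 8 ^ 2 ≤ (2 ^ (2 * m + 1) - 1) * (2 ^ (2 * m + 1)) ^ 2 :=
        Nat.mul_le_mul (by omega) (Nat.pow_le_pow_left (by omega) 2)
      omega
    · have h1 := key (LS.ree hm hK) e'
      rw [Nat.card_eq_fintype_card, hK] at h1
      have h2 : 3 ^ 3 ≤ 3 ^ (2 * m + 1) := Nat.pow_le_pow_right (by norm_num) (by omega)
      omega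

end lie

end Cfsg.Agent.H2.Rb.Cx
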