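import Cfsg.Agent.H2.Rb.RefA
import Cfsg.Agent.H489.Cyc.ONDeg
import Cfsg.Agent.H921.SporJ3

/-!
# S3691, refined single cases of piece (S) (helper2)

* `Row.out_ref` : a row of degree at most 24 with a second prime `l ∣ |Aut (Soc P)|` is natural, if the pair of primes
  passes the checks;
* `ref_of` : the statement for irreducible subgroups.
-/

set_option autoImplicit false
set_option exponentiation.threshold 2000

universe u v w

namespace Cfsg.Agent.H2.Rb.Cx

open Cfsg Cfsg.Geo Cfsg.Agent.H912.Bd Cfsg.Agent.H912.Five Cfsg.Agent.H915.LD Cfsg.Agent.OrdDiv Matrix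
open Cfsg.Agent.H902 Cfsg.Agent.H902.Names Cfsg.Agent.H203.LS Cfsg.Agent.H936.List12
open Cfsg.Agent.H2.Rb.C100 Cfsg.Agent.NotCT

/-- the orders of the sporadic groups, without `ON`, `Th`, `B`, `M` -/
def spN : List ℕ :=
  [7920, 95040, 443520, 10200960, 244823040, 175560, 604800, 50232960, 86775571046077562880, 4157776806543360000,
    42305421312000, 495766656000, 898128000, 44352000, 448345497600, 4030387200, 145926144000, 51765179004000000,
    64561751654400, 4089470473293004800, 1255205709190661721292800, 273030912000000]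

/-- the sporadic groups -/
structure SpChk (q n r l : ℕ) : Prop where
  rest : ∀ N ∈ spN, ¬ (r ∣ N ∧ l ∣ N)
  on : ¬ (r ∣ 460815505920 ∧ l ∣ 460815505920) ∨ q = 2 ∨ n < 14
  th : ¬ (r ∣ 90745943887872000 ∧ l ∣ 90745943887872000) ∨ n < 24
  b : ¬ (r ∣ 4154781481226426191177580544000000 ∧ l ∣ 4154781481226426191177580544000000) ∨
    ((q = 2 ∨ q = 4) ∧ n < 23)

variable {F : Type u} [Field F] [Finite F] {n k : ℕ}

/-- over `F_2` there are no scalars -/
theorem scalars_coprime (hq : Nat.card F = 2) (P : Subgroup (GL (Fin n) F)) (r : ℕ) :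
    (Nat.card ((scalars (Fin n) F).subgroupOf P)).Coprime r := by
  have := Fintype.ofFinite F
  have h1 : Nat.card ((scalars (Fin n) F).subgroupOf P) ∣ Nat.card F - 1 := by
    have h2 : Nat.card ((scalars (Fin n) F).subgroupOf P) ∣ Nat.card (scalars (Fin n) F) := by
      rw [Nat.card_congr (Subgroup.equivMapOfInjective ((scalars (Fin n) F).subgroupOf P) P.subtype
        P.subtype_injective).toEquiv]
      apply Subgroup.card_dvd_of_le
      rintro _ ⟨x, hx, rfl⟩
      exact hx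
    exact h2.trans H251.GeoCard.card_scalars_dvd
  rw [hq] at h1
  have h2 := Nat.dvd_one.1 h1
  rw [h2]
  exact Nat.coprime_one_left r

/-- `ON`, over `F_2` -/
theorem on_two (hq : Nat.card F = 2) {P : Subgroup (GL (Fin n) F)} (hC : Core P) (e : Soc P ≃* Cfsg.Spor.ON) :
    80 ≤ n := by
  have hp : CharP F 2 := by
    have hh : Fact (Nat.Prime 2) := ⟨Nat.prime_two⟩
    have := Fintype.ofFinite F
    exact H364.OutLie.charP_of_card Nat.prime_two (f := 1) le_rfl (by rw [← Nat.card_eq_fintype_card, hq, pow_one])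
  exact (H921.Spor.Orb.bd Cfsg.Agent.H489.Cyc.ONG.orb (F := F) Nat.prime_three
    (H489.Deg.cast_ne (F := F) (p := 2) Nat.prime_two Nat.prime_three (by norm_num))) n
    (hC.pr e (scalars_coprime hq P 3))

/-- `J₃`, over `F_2` -/
theorem j3_two (hq : Nat.card F = 2) {P : Subgroup (GL (Fin n) F)} (hC : Core P) (hT : Spor.IsoJ3 (Soc P)) :
    24 ≤ n := by
  have hp : CharP F 2 := by
    have hh : Fact (Nat.Prime 2) := ⟨Nat.prime_two⟩
    have := Fintype.ofFinite F
    exact H364.OutLie.charP_of_card Nat.prime_two (f := 1) le_rfl (by rw [← Nat.card_eq_fintype_card, hq, pow_one])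
  obtain ⟨K, iK, iKf, ω, hK, hω, ⟨e⟩⟩ := hT
  have H : Cfsg.Agent.J3.Core.Good ω := Cfsg.Agent.J3.Core.good_of_card hK hω
  exact (H921.Spor.Orb.bd (H921.Spor.J3.J3_three hK H) (F := F) Nat.prime_three
    (H489.Deg.cast_ne (F := F) (p := 2) Nat.prime_two Nat.prime_three (by norm_num))) n
    (hC.pr e (scalars_coprime hq P 3))

/-- `Th` -/
theorem th_le {r : ℕ} {P : Subgroup (GL (Fin n) F)} (h : Row k r P) (hT : Spor.IsoTh (Soc P)) : 24 ≤ n := by
  obtain ⟨p, hpF⟩ := CharP.exists F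
  have hp : p.Prime := CharP.char_is_prime F p
  obtain ⟨e⟩ := hT
  exact H489.Deg.le_of_bd h.core e Cfsg.Agent.S2057.result (r := 7) (by norm_num)
    (H592.Ppd.th_seven.bd (F := F) (by norm_num)
      (H489.Deg.cast_ne (F := F) hp (by norm_num : (7 : ℕ).Prime) (by
        rcases p_cases h hp with h2 | h2 | ⟨h2 | h2, -⟩ <;> omega)))

/-- `B` -/
theorem b_kill {P : Subgroup (GL (Fin n) F)} (hh : Spor.IsoB (Soc P))
    (hq : Nat.card F = 2 ∨ Nat.card F = 4) (hn : n < 23) : False := by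
  have hcard := Orders.b hh
  have h47 : ¬ 47 ∣ Nat.card F := by
    rcases hq with hq | hq <;> rw [hq] <;> norm_num
  obtain ⟨i, hi1, hin, hi⟩ := exists_of_prime (P := P) (r := 47) (by norm_num) h47
    (by rw [hcard]; decide +kernel)
  rcases hq with hq | hq
  · rw [hq] at hi
    exact o47_two i (by omega) hi1 hi
  · rw [hq] at hi
    exact o47_four i (by omega) hi1 hi

/-- `M` -/
theorem m_kill {r : ℕ} {P : Subgroup (GL (Fin n) F)} (h : Row k r P) (hh : Spor.IsoM (Soc P)) : False := by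
  obtain ⟨p, hpF⟩ := CharP.exists F
  have hp : p.Prime := CharP.char_is_prime F p
  obtain ⟨e⟩ := hh
  have h39 := h.num.le39
  have h1 := H489.Deg.le_of_bd h.core e Cfsg.Agent.S2059.result (r := 7) (by norm_num)
    (H592.Ppd.m_seven.bd (F := F) (by norm_num) (H489.Deg.cast_ne (F := F) hp (by norm_num) (by
      rcases p_cases h hp with h2 | h2 | ⟨h2 | h2, -⟩ <;> omega)))
  omega

theorem spor_ref {r l : ℕ} (hl : l.Prime) (h7 : 7 ≤ l) {P : Subgroup (GL (Fin n) F)} (h : Row k r P)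
    (hsp : SpChk (Nat.card F) n r l) (hdl : l ∣ Nat.card (MulAut (Soc P))) (hs : IsSporadicGroup (Soc P)) : False := by
  have hC := h.core
  have key : ∀ {N : ℕ}, Nat.card (Soc P) = N → r ∣ N ∧ l ∣ N := fun {N} hN =>
    ⟨dvd_of_row h hs hN, dvd_of_spor hl (by omega) hC hs hdl hN⟩
  have kill : ∀ {N : ℕ}, Nat.card (Soc P) = N → N ∈ spN → False := fun {N} hN hm => hsp.rest N hm (key hN)
  rcases id hs with hh | hh | hh | hh | hh | hh | hh | hh | hh | hh | hh | hh | hh | hh | hh | hh | hh | hh | hh | hh | hh | hh | hh | hh | hh | hh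
  · exact kill (Orders.m11 hh) (by decide +kernel)
  · exact kill (Orders.m12 hh) (by decide +kernel)
  · exact kill (Orders.m22 hh) (by decide +kernel)
  · exact kill (Orders.m23 hh) (by decide +kernel)
  · exact kill (Orders.m24 hh) (by decide +kernel)
  · exact kill (Orders.j1 hh) (by decide +kernel)
  · exact kill (Orders.j2 hh) (by decide +kernel)
  · exact kill (Orders.j3 hh) (by decide +kernel)
  · exact kill (Orders.j4 hh) (by decide +kernel)
  · exact kill (Orders.co1 hh) (by decide +kernel)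
  · exact kill (Orders.co2 hh) (by decide +kernel)
  · exact kill (Orders.co3 hh) (by decide +kernel)
  · exact kill (Orders.mcl hh) (by decide +kernel)
  · exact kill (Orders.hs hh) (by decide +kernel)
  · exact kill (Orders.suz hh) (by decide +kernel)
  · exact kill (Orders.he hh) (by decide +kernel)
  · exact kill (Orders.ru hh) (by decide +kernel)
  · rcases hsp.on with h1 | h1 | h1
    · exact h1 (key (Orders.on hh))
    · have h2 := h.num.le39
      have h3 := hh.elim fun e => on_two h1 hC e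
      omega
    · obtain ⟨p, hpF⟩ := CharP.exists F
      have hp : p.Prime := CharP.char_is_prime F p
      have h3 := hh.elim fun e => H489.Deg.ON.on_le hp hC e
      omega
  · exact kill (Orders.ly hh) (by decide +kernel)
  · exact kill (Orders.fi22 hh) (by decide +kernel)
  · exact kill (Orders.fi23 hh) (by decide +kernel)
  · exact kill (Orders.fi24 hh) (by decide +kernel)
  · exact kill (Orders.hn hh) (by decide +kernel)
  · rcases hsp.th with h1 | h1
    · exact h1 (key (Orders.th hh))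
    · have h3 := th_le h hh
      omega
  · rcases hsp.b with h1 | ⟨h1, h2⟩
    · exact h1 (key (Orders.b hh))
    · exact b_kill hh h1 h2
  · exact m_kill h hh

end Cfsg.Agent.H2.Rb.Cx

namespace Cfsg.Agent.H2.Rb

open Cfsg Cfsg.Geo Matrix
open Cfsg.Agent.H915.LD Cfsg.Agent.H2.Rb.C100 Cfsg.Agent.H2.Rb.Cx Cfsg.Agent.OrdDiv

variable {F : Type u} [Field F] [Finite F] {n k : ℕ}

/-- **The rows with a second prime.** -/
theorem Row.out_ref {r l : ℕ} {P : Subgroup (GL (Fin n) F)} (h : Row k r P) (hc : Chk r l)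
    (hsp : SpChk (Nat.card F) n r l) (hn : n ≤ 24) (hbig : n + 2 < r ∨ n + 2 < l) (h13 : 13 < r ∨ 13 < l)
    (hdl : l ∣ Nat.card (MulAut (Soc P))) (hk : IsKnownSimple' (Soc P)) : Nat' P := by
  obtain ⟨p, hpF⟩ := CharP.exists F
  have hp : Fact p.Prime := ⟨CharP.char_is_prime F p⟩
  have hC := h.core
  have hs : IsSimpleGroup (Soc P) := hC.simple
  have hna := hC.nonabelian
  have hdr : r ∣ Nat.card (MulAut (Soc P)) := h.dvd_card (MulEquiv.refl _)
  rcases H912.Known.known_split hk (H912.Known.not_primeCyclic hC.nonabelian) with hT | ⟨s, hs', hT⟩ | hT | hT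
  · rcases hbig with h1 | h1
    · exact (alt_kill hc.rp h1 h.num.ten p hdr hT).elim
    · exact (alt_kill hc.lp h1 h.num.ten p hdl hT).elim
  · by_cases hsF : (s : F) = 0
    · have hrp : CharP F s := (CharP.charP_iff_prime_eq_zero hs').2 hsF
      have : Fact s.Prime := ⟨hs'⟩
      rcases Row.nat_def' h s hT with h1 | hG | ⟨-, K, _, _, hK, ⟨e⟩⟩
      · exact h1
      · exact (hc.G2 4 (by norm_num) (by norm_num) ⟨dv_G2 hc.rp hc.r7 hdr hna (by norm_num) (by norm_num) hG,
          dv_G2 hc.lp hc.l7 hdl hna (by norm_num) (by norm_num) hG⟩).elim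
      · exact (hc.TD4 ⟨dv_TD4 hc.rp hc.r7 hdr hna Nat.prime_two.isPrimePow hK (by norm_num) e,
          dv_TD4 hc.lp hc.l7 hdl hna Nat.prime_two.isPrimePow hK (by norm_num) e⟩).elim
    · exact (cross_ref hc hn hC hdr hdl hs' hsF hT).elim
  · rcases h13 with h1 | h1
    · exact (tits_kill hc.rp h1 hC hdr hT).elim
    · exact (tits_kill hc.lp h1 hC hdl hT).elim
  · exact (spor_ref hc.lp hc.l7 h hsp hdl hT).elim

/-- the conclusion -/
def Concl (n k : ℕ) (R : Subgroup (GL (Fin n) F)) : Prop :=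
  (∃ (s : ℕ) (E : Subalgebra F (Matrix (Fin n) (Fin n) F)), s.Prime ∧ s ∣ Nat.gcd n k ∧ IsFieldSubalgebra s E ∧
      R ≤ subalgebraNormalizer E) ∨
  specialLinear (Fin n) F ≤ R ∨
  (∃ f : (Fin n → F) → (Fin n → F) → F, IsSymplecticForm f ∧
      ∀ x : GL (Fin n) F, FixesForm {(x : Matrix (Fin n) (Fin n) F)} f → x ∈ R) ∨
  (∃ (τ : F ≃+* F) (f : (Fin n → F) → (Fin n → F) → F), IsUnitaryForm τ f ∧
      ∀ x : GL (Fin n) F, FixesForm {(x : Matrix (Fin n) (Fin n) F)} f →
        Matrix.GeneralLinearGroup.det x = 1 → x ∈ R) ∨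
  (∃ Q : (Fin n → F) → F, IsNondegenerateQuadraticForm Q ∧ omegaGL Q ≤ R)

/-- from rows to groups -/
theorem concl_of {p f : ℕ} (hp : p.Prime) (hq : Nat.card F = p ^ f) {r : ℕ} (hn : 10 ≤ n) (hn' : n ≤ 39)
    (hk : n < 2 * k) (hr : r.Prime) (hrk : r ≤ 2 * k + 1) (hord : orderOf (p : ZMod r) = f * k)
    (bad : Nat.card F = 2 ∨ (Nat.card F = 3 ∧ k = 18) ∨ (Nat.card F = 4 ∧ k = 9) ∨
      ((Nat.card F = 3 ∨ Nat.card F = 4 ∨ Nat.card F = 5 ∨ Nat.card F = 17) ∧ k = 6))
    (hrn : r ≠ n) (R : Subgroup (GL (Fin n) F)) (hd : r ∣ Nat.card R)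
    {l : ℕ} (hl : l.Prime) (hbig : n < r ∨ (n < l ∧ l.Coprime (Nat.card F - 1) ∧ l ∣ Nat.card R))
    (hirr : ActsIrreducibly (matrixSet R))
    (hrow : ∀ P : Subgroup (GL (Fin n) F), P ≤ R → (∀ x ∈ R, ∀ y ∈ P, x * y * x⁻¹ ∈ P) → Row k r P → Nat' P) :
    Concl n k R := by
  have hnum := num_of hp hq hn hn' hk hr hrk hord bad (hd.trans (Subgroup.card_subgroup_dvd_card R))
  have : Fact r.Prime := ⟨hr⟩
  obtain ⟨x, hx⟩ := exists_prime_orderOf_dvd_card' (G := R) r hd
  rcases struct' hnum (g := (x : GL (Fin n) F)) (by rw [Subgroup.orderOf_coe, hx]) R x.2 hirr with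
    h | ⟨P, hPR, hPn, hrow'⟩ | ⟨t, D, hD, hRD⟩ | ⟨h, -⟩
  · exact Or.inl h
  · right
    rcases hrow P hPR hPn hrow' with h | ⟨f, hf, h⟩ | ⟨τ, f, hf, h⟩ | ⟨Q, hQ, h⟩
    · exact Or.inl (h.trans hPR)
    · exact Or.inr (Or.inl ⟨f, hf, fun x hx => hPR (h x hx)⟩)
    · exact Or.inr (Or.inr (Or.inl ⟨τ, f, hf, fun x hx hd => hPR (h x hx hd)⟩))
    · exact Or.inr (Or.inr (Or.inr ⟨Q, hQ, h.trans hPR⟩))
  · rcases hbig with h1 | ⟨h1, h2, h3⟩
    · exact (lines_kill hD (hRD x.2) hr (by rw [Subgroup.orderOf_coe, hx]) h1 hnum.coprime_sub_one).elim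
    · have : Fact l.Prime := ⟨hl⟩
      obtain ⟨y, hy⟩ := exists_prime_orderOf_dvd_card' (G := R) l h3
      exact (lines_kill hD (hRD y.2) hl (by rw [Subgroup.orderOf_coe, hy]) h1 h2).elim
  · exact absurd h hrn

/-- **The refined statement, with the checks.** -/
theorem ref_of (hKS : ∀ (T : Type u) [Group T] [Finite T] [IsSimpleGroup T], IsKnownSimple' T)
    {p f : ℕ} (hp : p.Prime) (hq : Nat.card F = p ^ f) {r l : ℕ} (hn : 10 ≤ n) (hn' : n ≤ 24)
    (hk : n < 2 * k) (hrk : r ≤ 2 * k + 1) (hord : orderOf (p : ZMod r) = f * k)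
    (bad : Nat.card F = 2 ∨ (Nat.card F = 3 ∧ k = 18) ∨ (Nat.card F = 4 ∧ k = 9) ∨
      ((Nat.card F = 3 ∨ Nat.card F = 4 ∨ Nat.card F = 5 ∨ Nat.card F = 17) ∧ k = 6))
    (hc : Chk r l) (hsp : SpChk (Nat.card F) n r l) (hbig : n + 2 < r ∨ n + 2 < l) (h13 : 13 < r ∨ 13 < l)
    (hrn : r ≠ n) (hlq : l.Coprime (Nat.card F - 1))
    (R : Subgroup (GL (Fin n) F)) (hd : r ∣ Nat.card R) (hdl : l ∣ Nat.card R) (hirr : ActsIrreducibly (matrixSet R)) :
    Concl n k R := by
  refine concl_of hp hq hn (by omega) hk hc.rp hrk hord bad hrn R hd hc.lp (hbig.imp (by omega) fun h =>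
    ⟨by omega, hlq, hdl⟩) hirr fun P hPR hPn hrow => ?_
  have hs : IsSimpleGroup (Soc P) := hrow.core.simple
  refine Row.out_ref hrow hc hsp hn' hbig h13 ?_ (hKS (Soc P))
  have h4 := hdl.trans (card_dvd_of_row hrow hPn)
  rcases (Nat.Prime.dvd_mul hc.lp).1 h4 with h5 | h5
  · have h6 := Nat.dvd_gcd dvd_rfl h5
    rw [hlq] at h6
    exact absurd (Nat.dvd_one.1 h6) hc.lp.one_lt.ne'
  · exact h5

end Cfsg.Agent.H2.Rb
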